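/-
Project MX (groups with a Sylow `p`-subgroup of maximal class): definitions, basic API and the statements of the parts.
-/
import Cfsg.Agent.Fgs.MaxClass

set_option autoImplicit false

namespace CL.MX

open Subgroup Cfsg
open scoped commutatorElement

universe u

/-! ### matrices indexed by natural numbers -/

abbrev Mt (p d : ℕ) := Matrix (Fin d) (Fin d) (ZMod p)

section Mat
variable {p d : ℕ}

/-- entry `(u, v)`, zero outside the range -/
def en (M : Mt p d) (u v : ℕ) : ZMod p := if h : u < d ∧ v < d then M ⟨u, h.1⟩ ⟨v, h.2⟩ else 0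

/-- `M` raises the standard flag by `δ` -/
def Rs (δ : ℕ) (M : Mt p d) : Prop := ∀ u v, u < v + δ → en M u v = 0

/-- `M` stabilises the member `x` of the standard flag -/
def St (x : ℕ) (M : Mt p d) : Prop := ∀ u v, u < x → x ≤ v → en M u v = 0

/-- the lower shift -/
def Jm (p d : ℕ) : Mt p d := fun u v => if (u : ℕ) = v + 1 then 1 else 0

/-- the diagonal block on `[x, x + w)` -/
def bk (x w : ℕ) (M : Mt p d) : Mt p w := fun a b => en M (x + a) (x + b)

def dt (x w : ℕ) (M : Mt p d) : ZMod p := (bk x w M).det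

/-- the ratio of the first two diagonal entries -/
def wa (M : Mt p d) : ZMod p := en M 1 1 * (en M 0 0)⁻¹

/-- the standard flag -/
def Fl (p d x : ℕ) : Submodule (ZMod p) (Fin d → ZMod p) where
  carrier := {c | ∀ u : Fin d, (u : ℕ) < x → c u = 0}
  add_mem' := fun ha hb u hu => by simp [ha u hu, hb u hu]
  zero_mem' := fun _ _ => rfl
  smul_mem' := fun _ _ ha u hu => by simp [ha u hu]

theorem mem_Fl {x : ℕ} {c : Fin d → ZMod p} : c ∈ Fl p d x ↔ ∀ u : Fin d, (u : ℕ) < x → c u = 0 := Iff.rfl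

theorem en_val (M : Mt p d) (u v : Fin d) : en M u v = M u v := dif_pos ⟨u.2, v.2⟩

theorem en_of_lt (M : Mt p d) {u v : ℕ} (hu : u < d) (hv : v < d) : en M u v = M ⟨u, hu⟩ ⟨v, hv⟩ := dif_pos ⟨hu, hv⟩

theorem en_left (M : Mt p d) {u : ℕ} (hu : d ≤ u) (v : ℕ) : en M u v = 0 := dif_neg fun h => absurd h.1 (by omega)

theorem en_right (M : Mt p d) (u : ℕ) {v : ℕ} (hv : d ≤ v) : en M u v = 0 := dif_neg fun h => absurd h.2 (by omega)

theorem ext_en {A B : Mt p d} (h : ∀ u < d, ∀ v < d, en A u v = en B u v) : A = B :=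
  Matrix.ext fun u v => by rw [← en_val A, ← en_val B]; exact h _ u.2 _ v.2

/-- the entry as an additive map -/
def enH (p d u v : ℕ) : Mt p d →ₗ[ZMod p] ZMod p where
  toFun M := en M u v
  map_add' A B := by unfold en; split_ifs <;> simp
  map_smul' c A := by unfold en; split_ifs <;> simp

theorem en_add (A B : Mt p d) (u v : ℕ) : en (A + B) u v = en A u v + en B u v := (enH p d u v).map_add A B
theorem en_sub (A B : Mt p d) (u v : ℕ) : en (A - B) u v = en A u v - en B u v := (enH p d u v).map_sub A B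
theorem en_neg (A : Mt p d) (u v : ℕ) : en (-A) u v = -en A u v := (enH p d u v).map_neg A
theorem en_smul (c : ZMod p) (A : Mt p d) (u v : ℕ) : en (c • A) u v = c * en A u v := (enH p d u v).map_smul c A
theorem en_zero (u v : ℕ) : en (0 : Mt p d) u v = 0 := (enH p d u v).map_zero
theorem en_sum {ι : Type*} (s : Finset ι) (A : ι → Mt p d) (u v : ℕ) : en (∑ i ∈ s, A i) u v = ∑ i ∈ s, en (A i) u v :=
  map_sum (enH p d u v) A s

theorem en_one (u v : ℕ) : en (1 : Mt p d) u v = if u = v ∧ u < d then 1 else 0 := by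
  unfold en
  by_cases h : u < d ∧ v < d
  · rw [dif_pos h, Matrix.one_apply]; simp [Fin.ext_iff, h.1]
  · rw [dif_neg h, if_neg]; rintro ⟨rfl, k⟩; exact h ⟨k, k⟩

theorem en_Jm (u v : ℕ) : en (Jm p d) u v = if u = v + 1 ∧ u < d then 1 else 0 := by
  unfold en
  by_cases h : u < d ∧ v < d
  · rw [dif_pos h]; simp [Jm, h.1]
  · rw [dif_neg h, if_neg]; rintro ⟨rfl, k⟩; exact h ⟨k, by omega⟩

theorem en_mul (A B : Mt p d) (u v : ℕ) : en (A * B) u v = ∑ w ∈ Finset.range d, en A u w * en B w v := by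
  rw [← Fin.sum_univ_eq_sum_range (fun w => en A u w * en B w v)]
  by_cases hu : u < d
  · by_cases hv : v < d
    · rw [en_of_lt _ hu hv, Matrix.mul_apply]
      exact Finset.sum_congr rfl fun w _ => by rw [en_of_lt _ hu w.2, en_of_lt _ w.2 hv]
    · simp [en_right _ _ (not_lt.1 hv)]
  · simp [en_left _ (not_lt.1 hu)]

theorem en_bk {x w : ℕ} (M : Mt p d) {a b : ℕ} (ha : a < w) (hb : b < w) : en (bk x w M) a b = en M (x + a) (x + b) :=
  en_of_lt _ ha hb

theorem Rs.mono {δ ε : ℕ} {M : Mt p d} (h : Rs δ M) (k : ε ≤ δ) : Rs ε M := fun u v huv => h u v (by omega)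
theorem Rs.add {δ : ℕ} {A B : Mt p d} (hA : Rs δ A) (hB : Rs δ B) : Rs δ (A + B) := fun u v h => by
  rw [en_add, hA u v h, hB u v h, add_zero]
theorem Rs.sub {δ : ℕ} {A B : Mt p d} (hA : Rs δ A) (hB : Rs δ B) : Rs δ (A - B) := fun u v h => by
  rw [en_sub, hA u v h, hB u v h, sub_zero]
theorem Rs.smul {δ : ℕ} {A : Mt p d} (hA : Rs δ A) (c : ZMod p) : Rs δ (c • A) := fun u v h => by
  rw [en_smul, hA u v h, mul_zero]
theorem Rs.mul {δ ε : ℕ} {A B : Mt p d} (hA : Rs δ A) (hB : Rs ε B) : Rs (δ + ε) (A * B) := fun u v h => by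
  rw [en_mul]
  refine Finset.sum_eq_zero fun w _ => ?_
  by_cases k : u < w + δ
  · rw [hA u w k, zero_mul]
  · rw [hB w v (by omega), mul_zero]
theorem rs_one : Rs 0 (1 : Mt p d) := fun u v h => by rw [en_one, if_neg (by omega)]
theorem rs_Jm : Rs 1 (Jm p d) := fun u v h => by rw [en_Jm, if_neg (by omega)]
theorem Rs.pow {δ : ℕ} {A : Mt p d} (hA : Rs δ A) : ∀ m, Rs (δ * m) (A ^ m)
  | 0 => by simpa using rs_one
  | m + 1 => by rw [pow_succ, Nat.mul_succ]; exact (Rs.pow hA m).mul hA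
theorem Rs.eq_zero {δ : ℕ} {A : Mt p d} (hA : Rs δ A) (h : d ≤ δ) : A = 0 :=
  ext_en fun u hu v _ => by rw [hA u v (by omega), en_zero]
theorem Rs.st {A : Mt p d} (hA : Rs 0 A) (x : ℕ) : St x A := fun u v h k => hA u v (by omega)
theorem rs_of_st {A : Mt p d} (h : ∀ x, St x A) : Rs 0 A := fun u v k => h v u v (by omega) le_rfl
theorem Rs.one_add {A : Mt p d} (h : Rs 1 (A - 1)) : Rs 0 A := by
  simpa using (h.mono zero_le_one).add rs_one

/-- the leading entry of a product -/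
theorem Rs.en_mul {δ ε : ℕ} {A B : Mt p d} (hA : Rs δ A) (hB : Rs ε B) (v : ℕ) :
    en (A * B) (v + ε + δ) v = en A (v + ε + δ) (v + ε) * en B (v + ε) v := by
  rw [MX.en_mul, Finset.sum_eq_single (v + ε)]
  · intro w _ hw
    rcases lt_or_gt_of_ne hw with k | k
    · rw [hB w v k, mul_zero]
    · rw [hA _ w (by omega), zero_mul]
  · intro k
    rw [en_left B (by simpa using k), mul_zero]

theorem en_Jm_pow (j : ℕ) : ∀ u v, en (Jm p d ^ j) u v = if u = v + j ∧ u < d then 1 else 0 := by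
  induction j with
  | zero => intro u v; simpa using en_one u v
  | succ j ih =>
    intro u v
    rw [pow_succ, en_mul, Finset.sum_eq_single (v + 1)]
    · rw [ih, en_Jm]
      by_cases h : u = v + (j + 1) ∧ u < d
      · rw [if_pos h, if_pos (by omega), if_pos (by omega), one_mul]
      · rw [if_neg h, if_neg (by omega), zero_mul]
    · intro w _ hw
      rw [en_Jm, if_neg (by omega), mul_zero]
    · intro k
      rw [en_left (Jm p d) (by simpa using k), mul_zero]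

theorem st_zero (M : Mt p d) : St 0 M := fun _ _ h => absurd h (by omega)
theorem st_top (M : Mt p d) {x : ℕ} (h : d ≤ x) : St x M := fun u _ _ k => en_right M u (h.trans k)
theorem St.mul {x : ℕ} {A B : Mt p d} (hA : St x A) (hB : St x B) : St x (A * B) := fun u v hu hv => by
  rw [en_mul]
  refine Finset.sum_eq_zero fun w _ => ?_
  by_cases k : w < x
  · rw [hB w v k hv, mul_zero]
  · rw [hA u w hu (by omega), zero_mul]

theorem st_iff {x : ℕ} {M : Mt p d} : St x M ↔ ∀ c ∈ Fl p d x, M.mulVec c ∈ Fl p d x := by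
  refine ⟨fun h c hc u hu => ?_, fun h u v hu hv => ?_⟩
  · rw [Matrix.mulVec, dotProduct]
    refine Finset.sum_eq_zero fun v _ => ?_
    by_cases k : (v : ℕ) < x
    · rw [hc v k, mul_zero]
    · rw [← en_val M, h u v hu (by omega), zero_mul]
  · by_cases hv' : v < d
    · have := h (Pi.single ⟨v, hv'⟩ 1) (fun w hw => Pi.single_eq_of_ne (fun e => by subst e; simp at hw; omega) _)
        ⟨u, by omega⟩ hu
      rw [en_of_lt _ (by omega) hv']
      simpa using this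
    · exact en_right _ _ (by omega)

theorem bk_mul {x w : ℕ} {A B : Mt p d} (hA : St (x + w) A) (hB : St x B) (h : x + w ≤ d) :
    bk x w (A * B) = bk x w A * bk x w B := ext_en fun a ha b hb => by
  rw [en_bk _ ha hb, en_mul, en_mul]
  obtain ⟨r, rfl⟩ := Nat.exists_eq_add_of_le h
  rw [Finset.sum_range_add, Finset.sum_range_add, Finset.sum_eq_zero, zero_add,
    Finset.sum_eq_zero (s := Finset.range r), add_zero]
  · exact Finset.sum_congr rfl fun c hc => by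
      rw [en_bk _ ha (Finset.mem_range.1 hc), en_bk _ (Finset.mem_range.1 hc) hb]
  · intro c _
    rw [hA _ _ (by omega) (by omega), zero_mul]
  · intro c hc
    rw [hB _ _ (Finset.mem_range.1 hc) (by omega), mul_zero]

theorem bk_one {x w : ℕ} (h : x + w ≤ d) : bk x w (1 : Mt p d) = 1 := ext_en fun a ha b hb => by
  rw [en_bk _ ha hb, en_one, en_one]
  exact if_congr (by omega) rfl rfl

theorem dt_mul {x w : ℕ} {A B : Mt p d} (hA : St (x + w) A) (hB : St x B) (h : x + w ≤ d) :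
    dt x w (A * B) = dt x w A * dt x w B := by rw [dt, bk_mul hA hB h, Matrix.det_mul]; rfl

theorem dt_tri {x w : ℕ} {A : Mt p d} (hA : Rs 0 A) : dt x w A = ∏ a ∈ Finset.range w, en A (x + a) (x + a) := by
  rw [dt, Matrix.det_of_lowerTriangular, ← Fin.prod_univ_eq_prod_range (fun a => en A (x + a) (x + a))]
  · rfl
  · intro a b h
    exact hA _ _ (by have : (a : ℕ) < b := h; omega)

/-- a subspace invariant under the shift is a member of the flag -/
theorem eq_Fl [Fact p.Prime] (W : Submodule (ZMod p) (Fin d → ZMod p)) (h : ∀ c ∈ W, (Jm p d).mulVec c ∈ W) :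
    ∃ x ≤ d, W = Fl p d x := by
  classical
  have ex : ∃ m, m ≤ d ∧ ¬ W ≤ Fl p d (m + 1) ∨ m = d := ⟨d, .inr rfl⟩
  have hle : ∀ m ≤ Nat.find ex, W ≤ Fl p d m := by
    intro m hm
    rcases m with _ | m
    · exact fun _ _ u hu => absurd hu (by omega)
    · have := Nat.find_min ex (m := m) (by omega)
      have hd := Nat.find_min' ex (.inr rfl)
      push Not at this
      exact this.1 (by omega)
  have hd := Nat.find_min' ex (.inr rfl)
  refine ⟨Nat.find ex, hd, le_antisymm (hle _ le_rfl) ?_⟩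
  by_cases e : Nat.find ex = d
  · intro c hc
    have : c = 0 := funext fun u => hc u (by have := u.2; omega)
    exact this ▸ W.zero_mem
  obtain ⟨c, hc, nc⟩ := SetLike.not_le_iff_exists.1 ((Nat.find_spec ex).resolve_right e).2
  have hc0 := hle _ le_rfl hc
  generalize Nat.find ex = x at *
  -- an element of each level
  have lev : ∀ m, x + m < d → ∃ c ∈ W, c ∈ Fl p d (x + m) ∧ c ∉ Fl p d (x + m + 1) := by
    intro m
    induction m with
    | zero => exact fun _ => ⟨c, hc, hc0, nc⟩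
    | succ m ih =>
      intro hm
      obtain ⟨b, hb, b0, b1⟩ := ih (by omega)
      have ev : ∀ u : Fin d, (Jm p d).mulVec b u = if k : 0 < (u : ℕ) then b ⟨u - 1, by omega⟩ else 0 := fun u => by
        rw [Matrix.mulVec, dotProduct]
        split_ifs with k
        · rw [Finset.sum_eq_single ⟨u - 1, by omega⟩]
          · simp [Jm, show (u : ℕ) = u - 1 + 1 by omega |>.symm]
          · intro v _ hv
            have : (u : ℕ) ≠ v + 1 := fun e => hv (Fin.ext (by simp; omega))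
            simp [Jm, this]
          · simp
        · exact Finset.sum_eq_zero fun v _ => by simp [Jm, show (u : ℕ) ≠ v + 1 by omega]
      refine ⟨_, h b hb, fun u hu => ?_, fun k => b1 fun u hu => ?_⟩
      · rw [ev]
        split_ifs with k
        · exact b0 _ (by simp; omega)
        · rfl
      · by_cases l : (u : ℕ) < x + m
        · exact b0 u l
        · have := k ⟨u + 1, by omega⟩ (by simp; omega)
          rw [ev, dif_pos (by simp)] at this
          simpa using this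
  have all : ∀ m, Fl p d (x + (d - x - m)) ≤ W := by
    intro m
    induction m with
    | zero =>
      intro c hc
      have : c = 0 := funext fun u => hc u (by omega)
      exact this ▸ W.zero_mem
    | succ m ih =>
      by_cases k : d - x ≤ m
      · rwa [show d - x - (m + 1) = d - x - m by omega]
      intro a ha
      obtain ⟨b, hb, b0, b1⟩ := lev (d - x - (m + 1)) (by omega)
      let i : Fin d := ⟨x + (d - x - (m + 1)), by omega⟩
      have bi : b i ≠ 0 := fun e => b1 fun u hu => by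
        by_cases l : (u : ℕ) < i
        · exact b0 u l
        · rwa [show u = i from Fin.ext (by simp [i] at l ⊢; omega)]
      have : a - (a i * (b i)⁻¹) • b ∈ W := ih fun u hu => by
        by_cases l : (u : ℕ) < i
        · simp [ha u l, b0 u l]
        · rw [show u = i from Fin.ext (by simp [i] at l ⊢; omega)]
          simp [mul_assoc, inv_mul_cancel₀ bi]
      simpa using W.add_mem this (W.smul_mem (a i * (b i)⁻¹) hb)
  simpa using all (d - x)

end Mat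

/-! ### polynomial degree of functions -/

section Deg
variable {p d : ℕ} {X : Type}

/-- a multiplicative filtration on functions -/
structure Gr (p : ℕ) (X : Type) where
  S : ℕ → Submodule (ZMod p) (X → ZMod p)
  mono : ∀ {a b}, a ≤ b → S a ≤ S b
  one : (fun _ => 1) ∈ S 0
  mul : ∀ {a b f g}, f ∈ S a → g ∈ S b → (fun x => f x * g x) ∈ S (a + b)

namespace Gr
variable (Γ : Gr p X)

theorem const (c : ZMod p) (r : ℕ) : (fun _ => c) ∈ Γ.S r := by
  have := (Γ.S r).smul_mem c (Γ.mono (Nat.zero_le r) Γ.one)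
  convert this using 1
  ext; simp

variable {Γ}

theorem le {a b : ℕ} {f : X → ZMod p} (h : f ∈ Γ.S a) (k : a ≤ b) : f ∈ Γ.S b := Γ.mono k h

theorem sum {ι : Type*} (s : Finset ι) {r : ℕ} {f : ι → X → ZMod p} (h : ∀ i ∈ s, f i ∈ Γ.S r) :
    (fun x => ∑ i ∈ s, f i x) ∈ Γ.S r := by
  convert (Γ.S r).sum_mem h using 1
  ext; simp

theorem add {r : ℕ} {f g : X → ZMod p} (hf : f ∈ Γ.S r) (hg : g ∈ Γ.S r) : (fun x => f x + g x) ∈ Γ.S r :=
  (Γ.S r).add_mem hf hg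

theorem sub {r : ℕ} {f g : X → ZMod p} (hf : f ∈ Γ.S r) (hg : g ∈ Γ.S r) : (fun x => f x - g x) ∈ Γ.S r :=
  (Γ.S r).sub_mem hf hg

theorem cmul {r : ℕ} {f : X → ZMod p} (c : ZMod p) (hf : f ∈ Γ.S r) : (fun x => c * f x) ∈ Γ.S r :=
  (Γ.S r).smul_mem c hf

theorem mulc {r : ℕ} {f : X → ZMod p} (c : ZMod p) (hf : f ∈ Γ.S r) : (fun x => f x * c) ∈ Γ.S r := by
  simpa only [mul_comm] using cmul c hf

theorem prod {ι : Type*} (s : Finset ι) {r : ι → ℕ} {f : ι → X → ZMod p} (h : ∀ i ∈ s, f i ∈ Γ.S (r i)) :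
    (fun x => ∏ i ∈ s, f i x) ∈ Γ.S (∑ i ∈ s, r i) := by
  classical
  induction s using Finset.induction_on with
  | empty => simpa using Γ.one
  | insert a s ha ih =>
    simp only [Finset.prod_insert ha, Finset.sum_insert ha]
    exact Γ.mul (h a (Finset.mem_insert_self _ _)) (ih fun i hi => h i (Finset.mem_insert_of_mem hi))

theorem pow {r : ℕ} {f : X → ZMod p} (h : f ∈ Γ.S r) (m : ℕ) : (fun x => f x ^ m) ∈ Γ.S (r * m) := by
  simpa [mul_comm] using prod (Finset.range m) (r := fun _ => r) (f := fun _ => f) fun _ _ => h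

/-- a determinant whose column `b` has degree `r b` -/
theorem det {w : ℕ} {A : X → Mt p w} {r : Fin w → ℕ} (h : ∀ a b, (fun x => A x a b) ∈ Γ.S (r b)) :
    (fun x => (A x).det) ∈ Γ.S (∑ b, r b) := by
  simp only [Matrix.det_apply']
  exact sum _ fun σ _ => cmul _ (prod _ fun b _ => h _ b)

theorem choose [hp : Fact p.Prime] {δ : ℕ} {c : X → ℕ} (hc : (fun x => (c x : ZMod p)) ∈ Γ.S δ) :
    ∀ m < p, (fun x => ((c x).choose m : ZMod p)) ∈ Γ.S (δ * m)
  | 0, _ => by simpa using Γ.one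
  | m + 1, hm => by
    have h0 : ((m + 1 : ℕ) : ZMod p) ≠ 0 := fun e =>
      absurd (Nat.le_of_dvd (by omega) ((ZMod.natCast_eq_zero_iff _ _).1 e)) (by omega)
    have := mulc ((m + 1 : ℕ) : ZMod p)⁻¹ (Γ.mul (choose hc m (by omega)) (sub hc (Γ.const (m : ZMod p) δ)))
    rw [Nat.mul_succ]
    convert this using 2 with x
    rw [eq_mul_inv_iff_mul_eq₀ h0, ← Nat.cast_mul, Nat.choose_succ_right_eq, Nat.cast_mul]
    by_cases k : m ≤ c x
    · rw [Nat.cast_sub k]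
    · simp [Nat.choose_eq_zero_of_lt (not_le.1 k)]

end Gr

/-- a lower triangular family of matrices whose entry `(u, v)` has degree `u - v` -/
def DgM (Γ : Gr p X) (A : X → Mt p d) : Prop := (∀ x, Rs 0 (A x)) ∧ ∀ u v, (fun x => en (A x) u v) ∈ Γ.S (u - v)

variable {Γ : Gr p X}

theorem DgM.mul {A B : X → Mt p d} (hA : DgM Γ A) (hB : DgM Γ B) : DgM Γ fun x => A x * B x := by
  refine ⟨fun x => (hA.1 x).mul (hB.1 x), fun u v => ?_⟩
  simp only [en_mul]
  refine Gr.sum _ fun w _ => ?_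
  by_cases h : u < w
  · simpa [fun x => hA.1 x u w (by omega)] using Γ.const 0 _
  by_cases k : w < v
  · simpa [fun x => hB.1 x w v (by omega)] using Γ.const 0 _
  exact Gr.le (Γ.mul (hA.2 u w) (hB.2 w v)) (by omega)

theorem dgM_pow [Fact p.Prime] {δ : ℕ} {c : X → ℕ} (hc : (fun x => (c x : ZMod p)) ∈ Γ.S δ) {M : Mt p d}
    (hM : Rs δ (M - 1)) (h1 : 1 ≤ δ) (hd : d ≤ p) : DgM Γ fun x => M ^ c x := by
  refine ⟨fun x => by simpa using (hM.mono h1).one_add.pow (c x), fun u v => ?_⟩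
  have e : ∀ j, M ^ j = ∑ m ∈ Finset.range d, (j.choose m : ZMod p) • (M - 1) ^ m := fun j => by
    have z : ∀ m, d ≤ m → (M - 1) ^ m = 0 := fun m hm => (hM.pow m).eq_zero (by nlinarith)
    have : M ^ j = ∑ m ∈ Finset.range (j + 1), (j.choose m : ZMod p) • (M - 1) ^ m := by
      conv_lhs => rw [← sub_add_cancel M 1, (Commute.one_right _).add_pow]
      exact Finset.sum_congr rfl fun m _ => by
        rw [one_pow, mul_one, Nat.cast_smul_eq_nsmul, nsmul_eq_mul, Nat.cast_comm]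
    rw [this, Finset.sum_subset (Finset.range_mono (le_max_left (j + 1) d)),
      Finset.sum_subset (Finset.range_mono (le_max_right (j + 1) d))]
    · intro m _ hm
      rw [z m (by simpa using hm), smul_zero]
    · intro m _ hm
      rw [Nat.choose_eq_zero_of_lt (by simpa using hm), Nat.cast_zero, zero_smul]
  simp only [e, en_sum, en_smul]
  refine Gr.sum _ fun m hm => ?_
  by_cases k : u < v + δ * m
  · simpa [hM.pow m u v k] using Γ.const 0 _
  exact Gr.le (Gr.mulc _ (Gr.choose hc m (by have := Finset.mem_range.1 hm; omega))) (by omega)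

theorem DgM.left {A : X → Mt p d} (hA : DgM Γ A) (B : Mt p d) (u v : ℕ) : (fun x => en (A x * B) u v) ∈ Γ.S u := by
  simp only [en_mul]
  exact Gr.sum _ fun w _ => Gr.le (Gr.mulc _ (hA.2 u w)) (by omega)

theorem DgM.right {C : X → Mt p d} (hC : DgM Γ C) (B : Mt p d) (u v : ℕ) :
    (fun x => en (B * C x) u v) ∈ Γ.S (d - 1 - v) := by
  simp only [en_mul]
  exact Gr.sum _ fun w hw => Gr.le (Gr.cmul _ (hC.2 w v)) (by have := Finset.mem_range.1 hw; omega)

theorem DgM.conj {A C : X → Mt p d} (hA : DgM Γ A) (hC : DgM Γ C) (B : Mt p d) (u v : ℕ) :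
    (fun x => en (A x * B * C x) u v) ∈ Γ.S (u + (d - 1 - v)) := by
  simp only [en_mul (A _ * B)]
  exact Gr.sum _ fun w hw => Gr.le (Γ.mul (hA.left B u w) (hC.2 w v)) (by have := Finset.mem_range.1 hw; omega)

/-- polynomials in two variables of weights `1` and `k` -/
def gr2 (p k : ℕ) : Gr p (ℕ × ℕ) where
  S r := Submodule.span (ZMod p) {g | ∃ a b, a + k * b ≤ r ∧ g = fun x => (x.1 : ZMod p) ^ a * (x.2 : ZMod p) ^ b}
  mono h := Submodule.span_mono fun _ ⟨a, b, k, e⟩ => ⟨a, b, k.trans h, e⟩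
  one := Submodule.subset_span ⟨0, 0, by simp, by simp⟩
  mul := fun {r s f g} hf hg => by
    have := Submodule.mul_mem_mul hf hg
    rw [Submodule.span_mul_span] at this
    refine Submodule.span_le.2 ?_ this
    rintro _ ⟨_, ⟨a, b, h, rfl⟩, _, ⟨a', b', h', rfl⟩, rfl⟩
    exact Submodule.subset_span ⟨a + a', b + b', by nlinarith, funext fun x => by simp; ring⟩

/-- polynomials in one variable -/
def gr1 (p : ℕ) : Gr p ℕ where
  S r := Submodule.span (ZMod p) {g | ∃ a, a ≤ r ∧ g = fun x : ℕ => (x : ZMod p) ^ a}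
  mono h := Submodule.span_mono fun _ ⟨a, k, e⟩ => ⟨a, k.trans h, e⟩
  one := Submodule.subset_span ⟨0, by simp, by simp⟩
  mul := fun {r s f g} hf hg => by
    have := Submodule.mul_mem_mul hf hg
    rw [Submodule.span_mul_span] at this
    refine Submodule.span_le.2 ?_ this
    rintro _ ⟨_, ⟨a, h, rfl⟩, _, ⟨a', h', rfl⟩, rfl⟩
    exact Submodule.subset_span ⟨a + a', by omega, funext fun x => by simp; ring⟩

theorem gr1_id (c : ℕ) : (fun j : ℕ => ((c * j : ℕ) : ZMod p)) ∈ (gr1 p).S 1 := by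
  simpa using Gr.cmul (Γ := gr1 p) (c : ZMod p) (Submodule.subset_span ⟨1, le_rfl, rfl⟩)

theorem gr2_fst (k c : ℕ) : (fun x : ℕ × ℕ => ((c * x.1 : ℕ) : ZMod p)) ∈ (gr2 p k).S 1 := by
  simpa using Gr.cmul (Γ := gr2 p k) (r := 1) (c : ZMod p) (Submodule.subset_span ⟨1, 0, by simp, rfl⟩)

theorem gr2_snd (k c : ℕ) : (fun x : ℕ × ℕ => ((c * x.2 : ℕ) : ZMod p)) ∈ (gr2 p k).S k := by
  simpa using Gr.cmul (Γ := gr2 p k) (r := k) (c : ZMod p) (Submodule.subset_span ⟨0, 1, by simp, rfl⟩)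

theorem sum_pow_zero [hp : Fact p.Prime] {a : ℕ} (h : a + 2 ≤ p) : ∑ j ∈ Finset.range p, (j : ZMod p) ^ a = 0 := by
  obtain ⟨q, rfl⟩ : ∃ q, p = q + 1 := ⟨p - 1, by omega⟩
  rw [← Fin.sum_univ_eq_sum_range (fun j => (j : ZMod (q + 1)) ^ a),
    ← FiniteField.sum_pow_lt_card_sub_one (ZMod (q + 1)) a (by rw [ZMod.card]; omega)]
  exact Finset.sum_congr rfl fun j _ => by rw [show ((j : ℕ) : ZMod (q + 1)) = j from ZMod.natCast_zmod_val (n := q + 1) j]

theorem gr1_sum [Fact p.Prime] {r : ℕ} {f : ℕ → ZMod p} (hf : f ∈ (gr1 p).S r) (h : r + 2 ≤ p) :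
    ∑ j ∈ Finset.range p, f j = 0 := by
  induction hf using Submodule.span_induction with
  | mem g hg => obtain ⟨a, k, rfl⟩ := hg; exact sum_pow_zero (by omega)
  | zero => simp
  | add f g _ _ hf hg => simp [Finset.sum_add_distrib, hf, hg]
  | smul c f _ hf => simp [← Finset.mul_sum, hf]

theorem gr2_sum [Fact p.Prime] {k r : ℕ} {f : ℕ × ℕ → ZMod p} (hf : f ∈ (gr2 p k).S r) (h : r < (k + 1) * (p - 1)) :
    ∑ a ∈ Finset.range p, ∑ b ∈ Finset.range p, f (a, b) = 0 := by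
  induction hf using Submodule.span_induction with
  | mem g hg =>
    obtain ⟨a, b, l, rfl⟩ := hg
    simp only
    rw [← Finset.sum_mul_sum]
    by_cases ha : a + 2 ≤ p
    · rw [sum_pow_zero ha, zero_mul]
    · rw [sum_pow_zero (a := b) (by_contra fun hb => ?_), mul_zero]
      have := Nat.mul_le_mul_left k (show p - 1 ≤ b by omega)
      rw [Nat.succ_mul] at h
      omega
  | zero => simp
  | add f g _ _ hf hg => simp [Finset.sum_add_distrib, hf, hg]
  | smul c f _ hf => simp [← Finset.mul_sum, hf]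

end Deg

/-! ### sums over cosets -/

section Sm
variable {G : Type u} [Group G] [Finite G] {M M' : Type} [AddCommGroup M] [AddCommGroup M'] {H B L : Subgroup G}
  {F F' : G → M}

open Classical in
/-- the sum of `F` over representatives of the cosets `g H` with `g ∈ L` -/
noncomputable def sm (H L : Subgroup G) (F : G → M) : M :=
  letI := Fintype.ofFinite (G ⧸ H)
  ∑ ω : G ⧸ H with ω.out ∈ L, F ω.out

/-- right invariance on `L` -/
def RI (H L : Subgroup G) (F : G → M) : Prop := ∀ g ∈ L, ∀ h ∈ H, F (g * h) = F g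

omit [Finite G] in
theorem out_mem_iff (hHL : H ≤ L) (g : G) : (g : G ⧸ H).out ∈ L ↔ g ∈ L := by
  obtain ⟨h, e⟩ := QuotientGroup.mk_out_eq_mul H g
  rw [e]
  exact L.mul_mem_cancel_right (hHL h.2)

omit [Finite G] [AddCommGroup M] in
theorem RI.out (hF : RI H L F) {g : G} (hg : g ∈ L) : F (g : G ⧸ H).out = F g := by
  obtain ⟨h, e⟩ := QuotientGroup.mk_out_eq_mul H g
  rw [e, hF g hg h h.2]

theorem sm_congr (h : ∀ g ∈ L, F g = F' g) : sm H L F = sm H L F' := by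
  classical
  exact Finset.sum_congr rfl fun _ hω => h _ (by simpa using hω)

theorem sm_map (φ : M →+ M') : φ (sm H L F) = sm H L fun g => φ (F g) := map_sum φ _ _

theorem sm_left (hHL : H ≤ L) (hF : RI H L F) {k : G} (hk : k ∈ L) : sm H L (fun g => F (k * g)) = sm H L F := by
  have e : ∀ (k : G) (ω : G ⧸ H), k • ω = ((k * ω.out : G) : G ⧸ H) := fun k ω => by
    conv_lhs => rw [← QuotientGroup.out_eq' ω]
    rfl
  refine Finset.sum_equiv (MulAction.toPerm k) (fun ω => ?_) fun ω hω => ?_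
  · simp only [Finset.mem_filter, Finset.mem_univ, true_and, MulAction.toPerm_apply]
    rw [e, out_mem_iff hHL, L.mul_mem_cancel_left hk]
  · rw [MulAction.toPerm_apply, e, hF.out (L.mul_mem hk (by simpa using hω))]

theorem sm_const (hHL : H ≤ L) {c : M} (h : ∀ g ∈ L, F g = c) : sm H L F = H.relIndex L • c := by
  classical
  letI := Fintype.ofFinite (G ⧸ H)
  rw [sm_congr h, sm, Finset.sum_const, ← Fintype.card_subtype, ← Nat.card_eq_fintype_card]
  congr 1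
  refine (Nat.card_congr (Equiv.ofBijective (fun q : L ⧸ H.subgroupOf L =>
    (⟨((q.out : L) : G), (out_mem_iff hHL _).2 q.out.2⟩ : {ω : G ⧸ H // ω.out ∈ L})) ⟨fun a b e => ?_, fun ω => ?_⟩)).symm
  · rw [← QuotientGroup.out_eq' a, ← QuotientGroup.out_eq' b, QuotientGroup.eq]
    exact mem_subgroupOf.2 (QuotientGroup.eq.1 (show ((a.out : G) : G ⧸ H) = (b.out : G) from congrArg Subtype.val e))
  · refine ⟨((⟨ω.1.out, ω.2⟩ : L) : L ⧸ H.subgroupOf L), Subtype.ext ?_⟩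
    obtain ⟨h, e⟩ := QuotientGroup.mk_out_eq_mul (H.subgroupOf L) ⟨ω.1.out, ω.2⟩
    simp only [e]
    conv_rhs => rw [← QuotientGroup.out_eq' ω.1]
    exact QuotientGroup.eq.2 (by simpa using mem_subgroupOf.1 h.2)

theorem sm_self (hF : RI H H F) : sm H H F = F 1 := by
  rw [sm_const le_rfl (c := F 1) fun g hg => by simpa using hF 1 (one_mem _) g hg, relIndex_self, one_smul]

end Sm

/-! ### the linear configurations -/

section Lin
variable {G : Type u} [Group G]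

/-- every element of `L` stabilises the member `x` of the flag -/
def Inv {p d : ℕ} (ρ : G →* Mt p d) (L : Subgroup G) (x : ℕ) : Prop := ∀ g ∈ L, St x (ρ g)

/-- `x < y` are consecutive `L`-invariant members of the flag -/
structure Nx {p d : ℕ} (ρ : G →* Mt p d) (L : Subgroup G) (x y : ℕ) : Prop where
  lt : x < y
  le : y ≤ d
  ix : Inv ρ L x
  iy : Inv ρ L y
  no : ∀ z, x < z → z < y → ¬ Inv ρ L z

/-- the action of a minimal counterexample on `E = O_p(G)`, with `P = γ₁(S)` -/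
structure Lin (p d : ℕ) (ρ : G →* Mt p d) (E P S : Subgroup G) (s t : G) : Prop where
  dp : d < p
  ker : ∀ g, ρ g = 1 ↔ g ∈ E
  EP : E ≤ P
  PS : P ≤ S
  pg : IsPGroup p S
  syl : ¬ p ∣ S.index
  idx : P.relIndex S = p
  core : ∀ U : Subgroup G, U.Normal → IsPGroup p U → U ≤ E
  sS : s ∈ S
  sP : s ∉ P
  ρs : ρ s = 1 + Jm p d
  rP : ∀ y ∈ P, Rs 2 (ρ y - 1)
  tP : t ∈ P
  tE : t ∉ E
  tc : ∀ y ∈ S, Commute (ρ t) (ρ y)
  top : ∀ h ∈ normalizer (S : Set G), ∃ α c : ℕ,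
    (s ^ α)⁻¹ * (h * s * h⁻¹) ∈ P ∧ ρ (h * t * h⁻¹) = ρ t ^ c ∧ en (ρ h) 0 0 = α * c
  cas : P = E ⊔ zpowers t ∨ ∃ t' ∈ P, t = ⁅t', s⁆
  mx : ∀ L : Subgroup G, S ≤ L → L ≠ ⊤ → L ≤ normalizer (P : Set G)

/-- `Lin` with its first consequences; `k` is the degree of `t` -/
structure Lk (p d k : ℕ) (ρ : G →* Mt p d) (E P S : Subgroup G) (s t : G) : Prop extends Lin p d ρ E P S s t where
  k2 : 2 ≤ k
  kd : k < d
  rt : Rs k (ρ t - 1)
  nt : ∀ u, u + k < d → en (ρ t) (u + k) u ≠ 0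
  rS : ∀ y ∈ S, Rs 1 (ρ y - 1)
  reg : ∀ y ∈ S, y ∉ P → ∀ u, u + 1 < d → en (ρ y) (u + 1) u ≠ 0
  memP : ∀ y ∈ S, y ∈ P ↔ (ρ y - 1) ^ (d - 1) = 0
  pw : ∀ y ∈ S, y ^ p ∈ E
  gen : ∀ y ∈ S, ∃ a < p, (s ^ a)⁻¹ * y ∈ P
  tri : ∀ h ∈ normalizer (S : Set G),
    Rs 0 (ρ h) ∧ wa (ρ h) ≠ 0 ∧ ∀ u < d, en (ρ h) u u = wa (ρ h) ^ (k + 1 + u)
  wmul : ∀ g ∈ normalizer (S : Set G), ∀ h ∈ normalizer (S : Set G), wa (ρ (g * h)) = wa (ρ g) * wa (ρ h)
  w1 : ∀ h ∈ normalizer (S : Set G), wa (ρ h) = 1 ↔ h ∈ S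
  BH : normalizer (S : Set G) ≤ normalizer (P : Set G)
  big : P = E ⊔ zpowers t ∨ (3 ≤ k ∧ d < 2 * k)

/-- an irreducible section for a group `L` in which `P` is normal of index `p` in a Sylow subgroup -/
structure Cyc (p w ε : ℕ) (β : G → Mt p w) (P S L : Subgroup G) (s : G) (a : G → ZMod p) : Prop where
  wp : w < p
  PS : P ≤ S
  SL : S ≤ L
  nP : L ≤ normalizer (P : Set G)
  syl : ¬ p ∣ S.relIndex L
  sS : s ∈ S
  sp : s ^ p ∈ P
  gen : ∀ y ∈ S, ∃ a < p, (s ^ a)⁻¹ * y ∈ P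
  one : β 1 = 1
  mul : ∀ g ∈ L, ∀ h ∈ L, β (g * h) = β g * β h
  βs : β s = 1 + Jm p w
  βP : ∀ y ∈ P, β y = 1
  tri : ∀ h ∈ L, h ∈ normalizer (S : Set G) → Rs 0 (β h) ∧ a h ≠ 0 ∧ ∀ u < w, en (β h) u u = a h ^ (ε + u)
  irr : ∀ y, 0 < y → y < w → ∃ g ∈ L, ¬ St y (β g)

/-- sums over `G / N(P)` collapse when the conjugates of `t` have zero trace -/
def WC (p : ℕ) [Finite G] (P : Subgroup G) (t : G) : Prop :=
  ∀ F : G → ZMod p, RI (normalizer (P : Set G)) ⊤ F →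
    (∀ g g₀, ∑ j ∈ Finset.range p, F ((g₀ * t * g₀⁻¹) ^ j * g) = 0) → sm (normalizer (P : Set G)) ⊤ F = F 1

/-- the conclusions of the determinant lemmas -/
structure QL (p d : ℕ) (ρ : G →* Mt p d) (H : Subgroup G) : Prop where
  top : ∀ x w o, 1 ≤ o → w * o + 2 ≤ p → x + w ≤ d → Inv ρ ⊤ x → Inv ρ H (x + w) →
    (∀ h ∈ H, dt x w (ρ h) ^ o = 1) → Inv ρ ⊤ (x + w)
  bot : ∀ x w o, 1 ≤ o → w * o + 2 ≤ p → x + w ≤ d → Inv ρ H x → Inv ρ ⊤ (x + w) →
    (∀ h ∈ H, dt x w (ρ h) ^ o = 1) → Inv ρ ⊤ x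
  mix : ∀ x r, 1 ≤ r → r + 4 ≤ p → x + 2 ≤ d → Inv ρ ⊤ x → Inv ρ H (x + 1) → Inv ρ H (x + 2) →
    (∀ h ∈ H, dt x 1 (ρ h) ^ r * dt x 2 (ρ h) = 1) → Inv ρ ⊤ (x + 1)

/-- the conclusions of the cyclic lemmas inside `N(P)` -/
structure CyL (p d k : ℕ) (ρ : G →* Mt p d) (P S : Subgroup G) : Prop where
  c1 : ∀ L x w, S ≤ L → L ≤ normalizer (P : Set G) → Nx ρ L x (x + w) → 2 ≤ w →
    (∀ h ∈ L, h ∈ normalizer (S : Set G) → wa (ρ h) ^ (k + 1 + x) = 1) → False
  c2 : ∀ L x w j, S ≤ L → L ≤ normalizer (P : Set G) → Nx ρ L x (x + w) → 1 ≤ j → j < w → j + w < p →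
    (∀ h ∈ L, h ∈ normalizer (S : Set G) → wa (ρ h) ^ j = 1) → False
  c3 : ∀ L x w j, S ≤ L → L ≤ normalizer (P : Set G) → Nx ρ L x (x + w) → 1 ≤ j → j < w → j + 2 * w ≤ p →
    (∀ h ∈ L, h ∈ normalizer (S : Set G) → wa (ρ h) ^ j = wa (ρ h) ^ (k + 1 + x)) → False
  /-- `P` is trivial on the chief factors -/
  triv : ∀ L x w, S ≤ L → L ≤ normalizer (P : Set G) → Nx ρ L x (x + w) → ∀ y ∈ P, bk x w (ρ y) = 1
  /-- a group stabilising the flag normalises `S` -/
  bor : ∀ L, S ≤ L → (∀ x, Inv ρ L x) → L ≤ normalizer (S : Set G)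
  chain : ∀ L, S ≤ L → L ≤ normalizer (P : Set G) → (∀ h ∈ L, h ∈ normalizer (S : Set G) → h ∈ S) →
    L ≤ normalizer (S : Set G)
  /-- `t` is nontrivial on some chief factor -/
  gap : ∃ x y, x + k < y ∧ Nx ρ ⊤ x y

end Lin

/-! ### chains of maximal class -/

section Ch
variable {G : Type u} [Group G]

/-- `Γ 0 = S`, `Γ 1 = γ₁(S)`, `Γ j = γ_j(S)` in a group of maximal class of order `p ^ n` -/
structure Ch (p n : ℕ) (S : Subgroup G) (Γ : ℕ → Subgroup G) : Prop where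
  pg : IsPGroup p S
  zero : Γ 0 = S
  bot : ∀ j, n ≤ j → Γ j = ⊥
  anti : Antitone Γ
  idx : ∀ j < n, (Γ (j + 1)).relIndex (Γ j) = p
  c00 : ⁅S, S⁆ ≤ Γ 2
  cm : ∀ j, 1 ≤ j → ⁅Γ j, S⁆ = Γ (j + 1)
  c2 : ⁅Γ 2, Γ 1⁆ ≤ Γ 4
  cc0 : ∀ a b, ⁅Γ a, Γ b⁆ ≤ Γ (a + b)
  cc : ∀ a b, 1 ≤ a → 1 ≤ b → a + b + 2 ≤ n → ⁅Γ a, Γ b⁆ ≤ Γ (a + b + 1)
  un : ∀ j, 1 ≤ j → j + 3 ≤ n → ∀ x ∈ Γ j, x ∉ Γ (j + 1) → ∀ y ∈ S, y ∉ Γ 1 → ⁅x, y⁆ ∉ Γ (j + 2)
  pm : ∀ j, 2 ≤ j → ∀ x ∈ Γ j, x ^ p ∈ Γ (j + (p - 1))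
  pw : ∀ j, 2 ≤ j → j + p ≤ n → ∀ x ∈ Γ j, x ∉ Γ (j + 1) → x ^ p ∉ Γ (j + p)

/-- the chain of a group that is not exceptional -/
structure Cs (p n : ℕ) (S : Subgroup G) (Γ : ℕ → Subgroup G) : Prop extends Ch p n S Γ where
  sc : ∀ a b, 1 ≤ a → 1 ≤ b → ⁅Γ a, Γ b⁆ ≤ Γ (a + b + 1)
  sun : ∀ j, 1 ≤ j → j + 2 ≤ n → ∀ x ∈ Γ j, x ∉ Γ (j + 1) → ∀ y ∈ S, y ∉ Γ 1 → ⁅x, y⁆ ∉ Γ (j + 2)

/-- `M / E` is strongly `p`-embedded in `G / E` -/
structure SE (E S M : Subgroup G) : Prop where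
  le : S ≤ M
  ne : M ≠ ⊤
  cj : ∀ x ∈ S, x ∉ E → ∀ g, g * x * g⁻¹ ∈ M → g ∈ M

end Ch

/-! ### the parts -/

/-- orbits of a cyclic group -/
def SmCyc : Prop := ∀ (G : Type u) [Group G] [Finite G] (M : Type) [AddCommGroup M] (p : ℕ) [Fact p.Prime]
  (H B L : Subgroup G) (y : G) (F : G → M), H ≤ B → B ≤ L → y ∈ B → (∀ g ∈ L, g⁻¹ * y ^ p * g ∈ H) →
  (∀ g ∈ L, g⁻¹ * y * g ∈ H → g ∈ B) → RI H L F → (∀ g ∈ L, ∑ j ∈ Finset.range p, F (y ^ j * g) = 0) →
  sm H L F = sm H B F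

/-- orbits of a group of order `p ^ 2` -/
def SmTwo : Prop := ∀ (G : Type u) [Group G] [Finite G] (M : Type) [AddCommGroup M] (p : ℕ) [Fact p.Prime]
  (E H B : Subgroup G) (y z : G) (F : G → M), E.Normal → E ≤ H → H ≤ B → y ∈ B → z ∈ B → y ^ p ∈ E → z ^ p ∈ E →
  ⁅y, z⁆ ∈ E → (∀ g ∉ B, ∀ a < p, ∀ b < p, g⁻¹ * (y ^ a * z ^ b) * g ∈ H → a = 0 ∧ b = 0) → RI H ⊤ F →
  (∀ g, ∑ a ∈ Finset.range p, ∑ b ∈ Finset.range p, F (y ^ a * z ^ b * g) = 0) → sm H ⊤ F = sm H B F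

def LbThm : Prop := ∀ (G : Type u) [Group G] [Finite G] (p d : ℕ) [Fact p.Prime] (ρ : G →* Mt p d) (E P S : Subgroup G)
  (s t : G), Lin p d ρ E P S s t → ∃ k, Lk p d k ρ E P S s t

def WcThm : Prop := ∀ (G : Type u) [Group G] [Finite G] (p d k : ℕ) [Fact p.Prime] (ρ : G →* Mt p d) (E P S : Subgroup G)
  (s t : G), Lk p d k ρ E P S s t → WC p P t

def C1 : Prop := ∀ (G : Type u) [Group G] [Finite G] (p w ε : ℕ) [Fact p.Prime] (β : G → Mt p w) (P S L : Subgroup G)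
  (s : G) (a : G → ZMod p), Cyc p w ε β P S L s a → 2 ≤ w →
  (∀ h ∈ L, h ∈ normalizer (S : Set G) → a h ^ ε = 1) → False

def C2 : Prop := ∀ (G : Type u) [Group G] [Finite G] (p w ε : ℕ) [Fact p.Prime] (β : G → Mt p w) (P S L : Subgroup G)
  (s : G) (a : G → ZMod p), Cyc p w ε β P S L s a → ∀ j, 1 ≤ j → j < w → j + w < p →
  (∀ h ∈ L, h ∈ normalizer (S : Set G) → a h ^ j = 1) → False

def C3 : Prop := ∀ (G : Type u) [Group G] [Finite G] (p w ε : ℕ) [Fact p.Prime] (β : G → Mt p w) (P S L : Subgroup G)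
  (s : G) (a : G → ZMod p), Cyc p w ε β P S L s a → ∀ j, 1 ≤ j → j < w → j + 2 * w ≤ p →
  (∀ h ∈ L, h ∈ normalizer (S : Set G) → a h ^ j = a h ^ ε) → False

def ClThm : Prop := ∀ (G : Type u) [Group G] [Finite G] (p d k : ℕ) [Fact p.Prime] (ρ : G →* Mt p d) (E P S : Subgroup G)
  (s t : G), Lk p d k ρ E P S s t → CyL p d k ρ P S

def QThm : Prop := ∀ (G : Type u) [Group G] [Finite G] (p d : ℕ) [Fact p.Prime] (ρ : G →* Mt p d) (P : Subgroup G)
  (t : G), WC p P t → (ρ t - 1) ^ 2 = 0 → QL p d ρ (normalizer (P : Set G))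

/-- the quadratic case -/
def I3 : Prop := ∀ (G : Type u) [Group G] [Finite G] (p d k : ℕ) [Fact p.Prime] (ρ : G →* Mt p d) (E P S : Subgroup G)
  (s t : G), Lk p d k ρ E P S s t → CyL p d k ρ P S → QL p d ρ (normalizer (P : Set G)) → 3 ≤ k → False

/-- the case `|S : E| = p ^ 2`, first step -/
def I2a : Prop := ∀ (G : Type u) [Group G] [Finite G] (p d k : ℕ) [Fact p.Prime] (ρ : G →* Mt p d) (E P S : Subgroup G)
  (s t : G), Lk p d k ρ E P S s t → CyL p d k ρ P S → P = E ⊔ zpowers t →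
  ∀ g ∉ normalizer (S : Set G), ∀ a < p, ∀ b < p, g⁻¹ * (s ^ a * t ^ b) * g ∈ S → a = 0 ∧ b = 0

/-- the case `|S : E| = p ^ 2`, second step -/
def I2b : Prop := ∀ (G : Type u) [Group G] [Finite G] (p d k : ℕ) [Fact p.Prime] (ρ : G →* Mt p d) (E P S : Subgroup G)
  (s t : G), Lk p d k ρ E P S s t → CyL p d k ρ P S → P = E ⊔ zpowers t →
  (∀ g ∉ normalizer (S : Set G), ∀ a < p, ∀ b < p, g⁻¹ * (s ^ a * t ^ b) * g ∈ S → a = 0 ∧ b = 0) → False

def LinThm : Prop := ∀ (G : Type u) [Group G] [Finite G] (p d : ℕ) [Fact p.Prime] (ρ : G →* Mt p d) (E P S : Subgroup G)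
  (s t : G), ¬ Lin p d ρ E P S s t

theorem linThm_of (h1 : LbThm.{u}) (h2 : WcThm.{u}) (h3 : ClThm.{u}) (h4 : QThm.{u}) (h5 : I3.{u}) (h6 : I2a.{u})
    (h7 : I2b.{u}) : LinThm.{u} := fun G _ _ p d _ ρ E P S s t h => by
  obtain ⟨k, h⟩ := h1 G p d ρ E P S s t h
  have c := h3 G p d k ρ E P S s t h
  rcases h.big with e | ⟨e, l⟩
  · exact h7 G p d k ρ E P S s t h c e (h6 G p d k ρ E P S s t h c e)
  · exact h5 G p d k ρ E P S s t h c (h4 G p d ρ P t (h2 G p d k ρ E P S s t h) ((h.rt.pow 2).eq_zero (by omega))) e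

/-- coordinates -/
def CoThm : Prop := ∀ (G : Type u) [Group G] [Finite G] (p n i : ℕ) [Fact p.Prime] (S : Subgroup G) (Γ : ℕ → Subgroup G),
  Cs p n S Γ → ¬ p ∣ S.index → 2 ≤ i → i < n → pCore p G = Γ i → centralizer (Γ i : Set G) = Γ i → (∀ x ∈ Γ i, x ^ p = 1) →
  (∀ L : Subgroup G, S ≤ L → L ≠ ⊤ → L ≤ normalizer (Γ 1 : Set G)) →
  ∃ (ρ : G →* Mt p (n - i)) (s t : G), Lin p (n - i) ρ (Γ i) (Γ 1) S s t

/-- the main theorem for groups that are not exceptional -/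
def ThmA : Prop := ∀ (G : Type u) [Group G] [Finite G] (p n : ℕ) [Fact p.Prime] (S : Subgroup G) (Γ : ℕ → Subgroup G),
  Cs p n S Γ → ¬ p ∣ S.index → 1 ≤ n → centralizer (pCore p G : Set G) ≤ pCore p G → ¬ pCore p G ≤ Γ 2

/-- the exceptional elementary abelian case -/
def ExThm : Prop := ∀ (G : Type u) [Group G] [Finite G] (p n i : ℕ) [Fact p.Prime] (S M : Subgroup G) (Γ : ℕ → Subgroup G),
  Ch p n S Γ → 4 ≤ n → ⁅Γ (n - 2), Γ 1⁆ ≠ ⊥ → 2 ≤ i → (Γ i).Normal → centralizer (Γ i : Set G) = Γ i → ¬ SE (Γ i) S M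

/-- the group form of the theorem on normal essential subgroups -/
def ThmB : Prop := ∀ (G : Type u) [Group G] [Finite G] (p n : ℕ) [Fact p.Prime] (S M : Subgroup G) (Γ : ℕ → Subgroup G),
  Ch p n S Γ → ¬ p ∣ S.index → 4 ≤ n → centralizer (pCore p G : Set G) ≤ pCore p G → pCore p G ≠ S →
  SE (pCore p G) S M → (pCore p G).relIndex S = p ∧
    (pCore p G = Γ 1 ∨ pCore p G = S ⊓ centralizer (Γ (n - 2) : Set G) ∨ n = 4)

/-- the chain of a group of maximal class -/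
def ChThm : Prop := ∀ (G : Type u) [Group G] (p n : ℕ) [Fact p.Prime] (S : Subgroup G) [Finite S], p ≠ 2 → 4 ≤ n →
  CL.Fgs.MaxCl p n S → ∃ Γ, Ch p n S Γ ∧ Γ 1 = (CL.Fgs.twoStep S 1).map S.subtype ∧
    ∀ j, Γ (j + 2) = S.lowerCentralSeries (j + 1)

end CL.MX
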