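/-
Project MX: chains of maximal class, basic consequences and transport.
-/
import Cfsg.Agent.MX.Defs

set_option autoImplicit false

namespace CL.MX

open Subgroup Cfsg
open scoped commutatorElement

universe u v

variable {G : Type u} [Group G] {p n : ℕ} {S : Subgroup G} {Γ : ℕ → Subgroup G} {x y s : G} {A : Subgroup G}

/-- uniform elements -/
def Un (n : ℕ) (S : Subgroup G) (Γ : ℕ → Subgroup G) (s : G) : Prop :=
  s ∈ S ∧ s ∉ Γ 1 ∧ ∀ j, 1 ≤ j → j + 2 ≤ n → ∀ x ∈ Γ j, x ∉ Γ (j + 1) → ⁅x, s⁆ ∉ Γ (j + 2)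

theorem comm_symm_mem {N : Subgroup G} (h : ⁅x, y⁆ ∈ N) : ⁅y, x⁆ ∈ N := by
  rw [← commutatorElement_inv]; exact N.inv_mem h

theorem Cs.un' (h : Cs p n S Γ) (hs : s ∈ S) (h1 : s ∉ Γ 1) : Un n S Γ s :=
  ⟨hs, h1, fun j a b x hx hx' => h.sun j a b x hx hx' s hs h1⟩

namespace Ch
variable (h : Ch p n S Γ)
include h

theorem le (j : ℕ) : Γ j ≤ S := h.zero ▸ h.anti (Nat.zero_le j)

theorem comm {j : ℕ} (hx : x ∈ Γ j) (hy : y ∈ S) : ⁅x, y⁆ ∈ Γ (j + 1) := by
  rcases Nat.eq_zero_or_pos j with rfl | hj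
  · exact h.anti (by omega) (h.c00 (commutator_mem_commutator (h.le 0 hx) hy))
  · exact h.cm j hj ▸ commutator_mem_commutator hx hy

theorem conj {j : ℕ} (hx : x ∈ Γ j) (hy : y ∈ S) : y * x * y⁻¹ ∈ Γ j := by
  have := (Γ j).mul_mem (h.anti (Nat.le_succ j) (comm_symm_mem (h.comm hx hy))) hx
  simpa [commutatorElement_def, mul_assoc] using this

theorem norm (j : ℕ) : S ≤ normalizer (Γ j : Set G) := fun _ hy => mem_normalizer_iff.2 fun _ =>
  ⟨fun k => h.conj k hy, fun k => by simpa [mul_assoc] using h.conj k (S.inv_mem hy)⟩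

theorem central (hx : x ∈ Γ (n - 1)) (hy : y ∈ S) : Commute x y := commutatorElement_eq_one_iff_commute.1 (by
  have := h.comm hx hy
  rwa [h.bot _ (by omega), mem_bot] at this)

variable [hp : Fact p.Prime]

theorem ex {j : ℕ} (hj : j < n) : ∃ x ∈ Γ j, x ∉ Γ (j + 1) := by
  by_contra! k
  have := h.idx j hj
  rw [relIndex_eq_one.2 k] at this
  exact hp.out.one_lt.ne this

theorem lt_of {j : ℕ} (hx : x ∈ Γ j) (hx' : x ∉ Γ (j + 1)) : j < n := by
  by_contra k
  rw [h.bot j (by omega), mem_bot] at hx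
  exact hx' (hx ▸ one_mem _)

theorem sup {j : ℕ} (hx : x ∈ Γ j) (hx' : x ∉ Γ (j + 1)) : Γ (j + 1) ⊔ zpowers x = Γ j :=
  (CL.Grp.eq_or_eq_of_relIndex_prime le_sup_left (sup_le (h.anti (Nat.le_succ j)) (zpowers_le.2 hx))
    (h.idx j (h.lt_of hx hx') ▸ hp.out)).resolve_left fun e => hx' (e.le (mem_sup_right (mem_zpowers x)))

theorem relIndex_add (i : ℕ) : ∀ m, i + m ≤ n → (Γ (i + m)).relIndex (Γ i) = p ^ m
  | 0, _ => by simp
  | m + 1, hm => by
    rw [← relIndex_mul_relIndex _ (Γ (i + m)) _ (h.anti (by omega)) (h.anti (by omega)), relIndex_add i m (by omega),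
      ← add_assoc, h.idx _ (by omega), pow_succ']

theorem card {j : ℕ} (hj : j ≤ n) : Nat.card (Γ j) = p ^ (n - j) := by
  rw [← h.relIndex_add j (n - j) (by omega), h.bot (j + (n - j)) (by omega), relIndex_bot_left]

omit hp in
/-- every element outside `Γ m` has a level below `m` -/
theorem level {i : ℕ} (hx : x ∈ Γ i) {m : ℕ} (hm : x ∉ Γ m) : ∃ j, i ≤ j ∧ j < m ∧ x ∈ Γ j ∧ x ∉ Γ (j + 1) := by
  induction m with
  | zero => exact absurd (h.anti (Nat.zero_le i) hx) hm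
  | succ m ih =>
    by_cases k : x ∈ Γ m
    · exact ⟨m, by_contra fun l => hm (h.anti (by omega) hx), by omega, k, hm⟩
    · obtain ⟨j, a, b, c⟩ := ih k
      exact ⟨j, a, by omega, c⟩

theorem pow_mem {j : ℕ} (hx : x ∈ Γ j) : x ^ p ∈ Γ (j + 1) := by
  by_cases hj : j < n
  · have : ((Γ (j + 1)).subgroupOf (Γ j)).Normal :=
      (normal_subgroupOf_iff_le_normalizer (h.anti (Nat.le_succ j))).2 ((h.le j).trans (h.norm _))
    have := ((Γ (j + 1)).subgroupOf (Γ j)).pow_index_mem ⟨x, hx⟩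
    rwa [← relIndex, h.idx j hj] at this
  · rw [h.bot j (by omega), mem_bot] at hx
    simp [hx]

/-- an element of level `j` in a subgroup normalised by a uniform element gives all of `Γ j` -/
theorem le_of_level (hs : Un n S Γ s) (hA : ∀ a ∈ A, ⁅a, s⁆ ∈ A) {j : ℕ} (h1 : 1 ≤ j) (hxA : x ∈ A) (hx : x ∈ Γ j)
    (hx' : x ∉ Γ (j + 1)) : Γ j ≤ A := by
  obtain ⟨m, hm⟩ : ∃ m, n = j + m + 1 := ⟨n - j - 1, by have := h.lt_of hx hx'; omega⟩
  induction m generalizing j x with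
  | zero => rw [← h.sup hx hx', h.bot _ (by omega)]; exact sup_le bot_le (zpowers_le.2 hxA)
  | succ m ih =>
    rw [← h.sup hx hx']
    exact sup_le (ih (by omega) (hA x hxA) (h.comm hx hs.1) (hs.2.2 j h1 (by omega) x hx hx') (by omega))
      (zpowers_le.2 hxA)

/-- subgroups of `Γ 1` normalised by a uniform element belong to the chain -/
theorem eq_of_le (hs : Un n S Γ s) (hA : ∀ a ∈ A, ⁅a, s⁆ ∈ A) (h1 : A ≤ Γ 1) (hn : 1 ≤ n) :
    ∃ j, 1 ≤ j ∧ j ≤ n ∧ A = Γ j := by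
  classical
  have ex : ∃ j, Γ (j + 1) ≤ A := ⟨n, by rw [h.bot _ (by omega)]; exact bot_le⟩
  refine ⟨Nat.find ex + 1, by omega, ?_, le_antisymm (fun a ha => by_contra fun k => ?_) (Nat.find_spec ex)⟩
  · have := Nat.find_min' ex (m := n - 1) (by rw [h.bot _ (by omega)]; exact bot_le)
    omega
  · obtain ⟨j, a1, a2, a3, a4⟩ := h.level (h1 ha) k
    have := Nat.find_min' ex (m := j - 1) (by rw [Nat.sub_add_cancel a1]; exact h.le_of_level hs hA a1 ha a3 a4)
    omega

/-- elements outside `Γ 1` and `C(Γ (n - 2))` are uniform -/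
theorem un_of (hs : s ∈ S) (h1 : s ∉ Γ 1) (h2 : s ∉ centralizer (Γ (n - 2) : Set G)) : Un n S Γ s := by
  refine ⟨hs, h1, fun j a b x hx hx' k => ?_⟩
  by_cases l : j + 3 ≤ n
  · exact h.un j a l x hx hx' s hs h1 k
  obtain rfl : j = n - 2 := by omega
  rw [h.bot _ (by omega), mem_bot] at k
  refine h2 (le_centralizer_iff.1 ?_ (mem_zpowers s))
  rw [← h.sup hx hx', show n - 2 + 1 = n - 1 by omega]
  refine sup_le (fun z hz => le_centralizer_iff.1 (zpowers_le.2 ?_) hz) (zpowers_le.2 ?_)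
  · exact fun w hw => (h.central hw hs).eq
  · rintro _ ⟨m, rfl⟩
    exact ((commutatorElement_eq_one_iff_commute.1 k).symm.zpow_left m).eq

theorem not_cent (h3 : 3 ≤ n) : ¬ S ≤ centralizer (Γ (n - 2) : Set G) := fun k => by
  obtain ⟨x, hx, hx'⟩ := h.ex (j := n - 1) (by omega)
  have := h.cm (n - 2) (by omega)
  rw [commutator_comm, commutator_eq_bot_iff_le_centralizer.2 k, show n - 2 + 1 = n - 1 by omega] at this
  rw [← this, mem_bot] at hx
  exact hx' (hx ▸ one_mem _)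

theorem exists_un (h3 : 3 ≤ n) : ∃ s, Un n S Γ s := by
  obtain ⟨a, ha, ha'⟩ := h.ex (j := 0) (by omega)
  rw [h.zero] at ha
  obtain ⟨b, hb, hb'⟩ := SetLike.not_le_iff_exists.1 (h.not_cent h3)
  by_cases k : a ∈ centralizer (Γ (n - 2) : Set G)
  · by_cases l : b ∈ Γ 1
    · exact ⟨a * b, h.un_of (S.mul_mem ha hb) (fun e => ha' ((mul_mem_cancel_right l).1 e))
        fun e => hb' ((mul_mem_cancel_left k).1 e)⟩
    · exact ⟨b, h.un_of hb l hb'⟩
  · exact ⟨a, h.un_of ha ha' k⟩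

omit hp in
theorem comm_last_succ {j : ℕ} (h1 : 1 ≤ j) (hj : j + 3 ≤ n) (k : ⁅Γ (n - 1 - j), Γ j⁆ = ⊥) :
    ⁅Γ (n - 2 - j), Γ (j + 1)⁆ = ⊥ := by
  rw [commutator_comm, ← h.cm j h1]
  refine commutator_commutator_eq_bot_of_rotate ?_ (le_bot_iff.1 ?_)
  · rw [commutator_comm S, h.cm _ (by omega), show n - 2 - j + 1 = n - 1 - j by omega, k]
  · refine (commutator_mono (h.cc _ _ (by omega) h1 (by omega)) le_rfl).trans ?_
    rw [h.cm _ (by omega), h.bot _ (by omega)]

omit hp in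
theorem comm_last_pred {j : ℕ} (h1 : 1 ≤ j) (hj : j + 3 ≤ n) (k : ⁅Γ (n - 2 - j), Γ (j + 1)⁆ = ⊥) :
    ⁅Γ (n - 1 - j), Γ j⁆ = ⊥ := by
  have := h.comm_last_succ (j := n - 2 - j) (by omega) (by omega) (by
    rwa [show n - 1 - (n - 2 - j) = j + 1 by omega, commutator_comm])
  rwa [show n - 2 - (n - 2 - j) = j by omega, show n - 2 - j + 1 = n - 1 - j by omega, commutator_comm] at this

omit hp in
theorem comm_last_iff {j : ℕ} (h1 : 1 ≤ j) (hj : j + 2 ≤ n) : ⁅Γ (n - 1 - j), Γ j⁆ = ⊥ ↔ ⁅Γ (n - 2), Γ 1⁆ = ⊥ := by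
  induction j, h1 using Nat.le_induction with
  | base => rfl
  | succ j h1 ih =>
    rw [← ih (by omega), show n - 1 - (j + 1) = n - 2 - j by omega]
    exact ⟨h.comm_last_pred h1 (by omega), h.comm_last_succ h1 (by omega)⟩

/-- the chain of a group that is not exceptional -/
theorem cs (h3 : 3 ≤ n) (k : ⁅Γ (n - 2), Γ 1⁆ = ⊥) : Cs p n S Γ := by
  refine ⟨h, fun a b ha hb => ?_, fun j a b x hx hx' y hy hy' => (h.un_of hy hy' fun c => h.not_cent h3 ?_).2.2 j a b x hx hx'⟩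
  · by_cases l : a + b + 2 ≤ n
    · exact h.cc a b ha hb l
    by_cases l' : n ≤ a + b
    · exact (h.cc0 a b).trans (by rw [h.bot _ l']; exact bot_le)
    · obtain rfl : a = n - 1 - b := by omega
      rw [(h.comm_last_iff hb (by omega)).2 k]; exact bot_le
  · rw [← h.zero, ← h.sup (h.zero ▸ hy) hy']
    exact sup_le (commutator_eq_bot_iff_le_centralizer.1 (by rwa [commutator_comm])) (zpowers_le.2 c)

end Ch

section Map
variable {G' : Type v} [Group G'] (f : G →* G') {m : ℕ}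

theorem Ch.mem_map (h : Ch p n S Γ) (hk : S ⊓ f.ker = Γ m) {j : ℕ} (hj : j ≤ m) (hx : x ∈ S) :
    f x ∈ (Γ j).map f ↔ x ∈ Γ j := by
  refine ⟨fun ⟨y, hy, e⟩ => ?_, mem_map_of_mem f⟩
  have : y⁻¹ * x ∈ Γ m := hk ▸ ⟨S.mul_mem (S.inv_mem (h.le j hy)) hx, by simp [e]⟩
  exact (mul_mem_cancel_left (inv_mem hy)).1 (h.anti hj this)

theorem Ch.map (h : Ch p n S Γ) (hk : S ⊓ f.ker = Γ m) (hm : m ≤ n) : Ch p m (S.map f) fun j => (Γ j).map f where
  pg := h.pg.map f
  zero := by rw [h.zero]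
  bot j hj := (Subgroup.map_eq_bot_iff _).2 (((h.anti hj).trans hk.ge).trans inf_le_right)
  anti _ _ k := map_mono (h.anti k)
  idx j hj := by
    rw [← h.idx j (by omega), ← relIndex_comap, ← inf_relIndex_right, ← inf_relIndex_right (Γ (j + 1))]
    congr 1
    ext x
    exact and_congr_left fun hx => h.mem_map f hk hj (h.le j hx)
  c00 := by rw [← map_commutator]; exact map_mono h.c00
  cm j hj := by rw [← map_commutator, h.cm j hj]
  c2 := by rw [← map_commutator]; exact map_mono h.c2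
  cc0 a b := by rw [← map_commutator]; exact map_mono (h.cc0 a b)
  cc a b ha hb k := by rw [← map_commutator]; exact map_mono (h.cc a b ha hb (by omega))
  un := by
    rintro j a b _ ⟨x, hx, rfl⟩ hx' _ ⟨y, hy, rfl⟩ hy' k
    rw [← map_commutatorElement, h.mem_map f hk (by omega) (h.le _ (h.comm hx hy))] at k
    exact h.un j a (by omega) x hx (fun e => hx' (mem_map_of_mem f e)) y hy (fun e => hy' (mem_map_of_mem f e)) k
  pm := by
    rintro j a _ ⟨x, hx, rfl⟩
    rw [← map_pow]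
    exact mem_map_of_mem f (h.pm j a x hx)
  pw := by
    rintro j a b _ ⟨x, hx, rfl⟩ hx' k
    rw [← map_pow, h.mem_map f hk b (S.pow_mem (h.le j hx) p)] at k
    exact h.pw j a (by omega) x hx (fun e => hx' (mem_map_of_mem f e)) k

theorem Cs.map (h : Cs p n S Γ) (hk : S ⊓ f.ker = Γ m) (hm : m ≤ n) : Cs p m (S.map f) fun j => (Γ j).map f where
  toCh := h.toCh.map f hk hm
  sc a b ha hb := by rw [← map_commutator]; exact map_mono (h.sc a b ha hb)
  sun := by
    rintro j a b _ ⟨x, hx, rfl⟩ hx' _ ⟨y, hy, rfl⟩ hy' k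
    rw [← map_commutatorElement, h.mem_map f hk (by omega) (h.le _ (h.comm hx hy))] at k
    exact h.sun j a (by omega) x hx (fun e => hx' (mem_map_of_mem f e)) y hy (fun e => hy' (mem_map_of_mem f e)) k

/-- proper quotients are not exceptional -/
theorem Ch.map_cs (h : Ch p n S Γ) (hk : S ⊓ f.ker = Γ m) (hm : m < n) : Cs p m (S.map f) fun j => (Γ j).map f where
  toCh := h.map f hk hm.le
  sc a b ha hb := by
    rw [← map_commutator]
    by_cases l : a + b + 2 ≤ n
    · exact map_mono (h.cc a b ha hb l)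
    · exact (map_mono (h.cc0 a b)).trans (((h.map f hk hm.le).bot _ (by omega)).le.trans bot_le)
  sun := by
    rintro j a b _ ⟨x, hx, rfl⟩ hx' _ ⟨y, hy, rfl⟩ hy' k
    rw [← map_commutatorElement, h.mem_map f hk (by omega) (h.le _ (h.comm hx hy))] at k
    exact h.un j a (by omega) x hx (fun e => hx' (mem_map_of_mem f e)) y hy (fun e => hy' (mem_map_of_mem f e)) k

end Map

section Sub
variable {L : Subgroup G}

theorem comm_subgroupOf {A B : Subgroup G} (hA : A ≤ L) (hB : B ≤ L) :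
    ⁅A.subgroupOf L, B.subgroupOf L⁆ = ⁅A, B⁆.subgroupOf L := map_injective L.subtype_injective (by
  rw [map_commutator, map_subgroupOf_eq_of_le hA, map_subgroupOf_eq_of_le hB,
    map_subgroupOf_eq_of_le ((commutator_mono hA hB).trans (commutator_le_self L))])

theorem Ch.subgroupOf (h : Ch p n S Γ) (hL : S ≤ L) : Ch p n (S.subgroupOf L) fun j => (Γ j).subgroupOf L :=
  have l := fun j => (h.le j).trans hL
  { pg := h.pg.comap_subtype
    zero := by rw [h.zero]
    bot := fun j hj => by rw [h.bot j hj, bot_subgroupOf]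
    anti := fun _ _ k => comap_mono (h.anti k)
    idx := fun j hj => by rw [relIndex_subgroupOf (l j), h.idx j hj]
    c00 := by rw [comm_subgroupOf hL hL]; exact comap_mono h.c00
    cm := fun j hj => by rw [comm_subgroupOf (l j) hL, h.cm j hj]
    c2 := by rw [comm_subgroupOf (l _) (l _)]; exact comap_mono h.c2
    cc0 := fun a b => by rw [comm_subgroupOf (l _) (l _)]; exact comap_mono (h.cc0 a b)
    cc := fun a b ha hb k => by rw [comm_subgroupOf (l _) (l _)]; exact comap_mono (h.cc a b ha hb k)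
    un := fun j a b x hx hx' y hy hy' => h.un j a b x hx hx' y hy hy'
    pm := fun j a x hx => h.pm j a x hx
    pw := fun j a b x hx hx' => h.pw j a b x hx hx' }

theorem Cs.subgroupOf (h : Cs p n S Γ) (hL : S ≤ L) : Cs p n (S.subgroupOf L) fun j => (Γ j).subgroupOf L where
  toCh := h.toCh.subgroupOf hL
  sc a b ha hb := by
    rw [comm_subgroupOf ((h.le _).trans hL) ((h.le _).trans hL)]; exact comap_mono (h.sc a b ha hb)
  sun j a b x hx hx' y hy hy' := h.sun j a b x hx hx' y hy hy'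

end Sub

end CL.MX
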