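/-
Project MX: the chain of a group of maximal class.
-/
import Cfsg.Agent.MX.Ch
import Cfsg.Agent.Fus.Weights
import Cfsg.Agent.Fus.McB

set_option autoImplicit false

namespace CL.MX

open Subgroup Cfsg CL.Fgs CL.Fus
open scoped commutatorElement

universe u

local notation "γ[" G ", " j "]" => Subgroup.lowerCentralSeries (⊤ : Subgroup G) j

namespace CHT

variable {G : Type*} [Group G]

/-- the chain -/
def gam (G : Type*) [Group G] : ℕ → Subgroup G
  | 0 => ⊤
  | 1 => twoStep G 1
  | j + 2 => γ[G, j + 1]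

theorem gam_succ : ∀ {j : ℕ}, 1 ≤ j → gam G (j + 1) = γ[G, j]
  | _ + 1, _ => rfl

theorem gam_le : ∀ j, gam G (j + 1) ≤ γ[G, j]
  | 0 => le_top
  | _ + 1 => le_rfl

instance normal_gam : ∀ j, (gam G j).Normal
  | 0 => normal_top
  | 1 => normal_twoStep 1
  | j + 2 => inferInstanceAs (γ[G, j + 1]).Normal

theorem anti : Antitone (gam G) := antitone_nat_of_succ_le fun
  | 0 => le_top
  | 1 => lcs_one_le_twoStep 1
  | _ + 2 => lcs_anti (Nat.le_succ _)

theorem zp_le (s : G) (N : Subgroup G) : ⁅zpowers s, zpowers s⁆ ≤ N :=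
  (commutator_eq_bot_iff_le_centralizer.2 (le_centralizer _)).le.trans bot_le

theorem cc0 : ∀ a b, ⁅gam G a, gam G b⁆ ≤ gam G (a + b)
  | 0, b => by rw [zero_add]; exact commutator_le_right _ _
  | _ + 1, 0 => commutator_le_left _ _
  | a + 1, b + 1 => by
    rw [show a + 1 + (b + 1) = a + b + 1 + 1 by omega, gam_succ (j := a + b + 1) (by omega)]
    exact (commutator_mono (gam_le a) (gam_le b)).trans (CL.Grp.commutator_lowerCentralSeries_le a b)

variable {p n : ℕ} [hp : Fact p.Prime] [Finite G] (h : MaxCl p n G) (h4 : 4 ≤ n)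
include h h4

theorem cm : ∀ j, 1 ≤ j → ⁅gam G j, ⊤⁆ = gam G (j + 1)
  | 1, _ => by
    have h1 := (index_twoStep h le_rfl h4).1
    obtain ⟨s, -, hs⟩ := SetLike.not_le_iff_exists.1 fun e : ⊤ ≤ twoStep G 1 =>
      hp.out.one_lt.ne' (h1.symm.trans (index_eq_one.2 (top_le_iff.1 e)))
    have h2 : twoStep G 1 ⊔ zpowers s = ⊤ := (CL.Grp.eq_or_eq_of_relIndex_prime le_sup_left le_top
      (by rw [relIndex_top_right, h1]; exact hp.out)).resolve_left fun e => hs (e.le (mem_sup_right (mem_zpowers s)))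
    refine le_antisymm (commutator_mono le_top le_rfl) ((commutator_mono h2.ge le_rfl).trans
      (CL.Grp.commutator_sup_left_le le_rfl ((commutator_mono le_rfl h2.ge).trans
        (CL.Grp.commutator_sup_right_le ?_ (zp_le s _)))))
    rw [commutator_comm]
    exact commutator_mono le_rfl le_top
  | _ + 2, _ => rfl

theorem cc (hp2 : p ≠ 2) (b : ℕ) (hb : 1 ≤ b) : ∀ a, 1 ≤ a → a + b + 2 ≤ n → ⁅gam G a, gam G b⁆ ≤ gam G (a + b + 1) := by
  induction b, hb using Nat.le_induction with
  | base =>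
    rintro (_ | _ | a) ha hn
    · omega
    · obtain ⟨t, h1, h2⟩ := exists_mem_twoStep h (j := 1) le_rfl
      have h3 := eq_sup_zpowers_of_maxCl h (fun e => hp.out.one_lt.ne' ((index_twoStep h le_rfl h4).1.symm.trans
        (index_eq_one.2 e))) (lcs_one_le_twoStep 1) h1 h2
      have h5 : ⁅γ[G, 1], twoStep G 1⁆ ≤ γ[G, 2] := commutator_mono le_rfl le_top
      refine (commutator_mono h3.le le_rfl).trans (CL.Grp.commutator_sup_left_le h5
        ((commutator_mono le_rfl h3.le).trans (CL.Grp.commutator_sup_right_le ?_ (zp_le t _))))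
      rw [commutator_comm]
      exact commutator_mono le_rfl le_top
    · exact (commutator_mono le_rfl (McB.twoStep_eq h hp2 (a + 1) (by omega) (by omega)).ge).trans
        (commutator_lcs_twoStep_le (a + 1))
  | succ b hb ih =>
    intro a ha hn
    rw [commutator_comm, ← cm h h4 b hb]
    refine CL.Grp.three_subgroups ?_ ((commutator_mono (ih a ha (by omega)) le_rfl).trans (cm h h4 _ (by omega)).le)
    rw [commutator_comm ⊤, cm h h4 a ha, show a + (b + 1) = a + 1 + b by omega]
    exact ih _ (by omega) (by omega)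

theorem ch (hp2 : p ≠ 2) : Ch p n ⊤ (gam G) where
  pg := h.isPGroup.to_subgroup ⊤
  zero := rfl
  bot j hj := by
    obtain ⟨i, rfl⟩ : ∃ i, j = i + 2 := ⟨j - 2, by omega⟩
    exact h.lcs_eq_bot hj
  anti := anti
  idx
    | 0, _ => (relIndex_top_right _).trans (index_twoStep h le_rfl h4).1
    | 1, _ => (index_twoStep h le_rfl h4).2
    | _ + 2, hj => h.relIndex_lcs (by omega) hj
  c00 := le_rfl
  cm := cm h h4
  c2 := commutator_lcs_twoStep_le 1
  cc0 := cc0
  cc a b ha hb := cc h h4 hp2 b hb a ha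
  un
    | 1, _, _ => fun x hx hx' _ _ hy k => h.comm_notMem_lcs_two hx'
      (fun e => hy (sup_le (lcs_one_le_twoStep 1) (zpowers_le.2 hx) e)) (comm_symm_mem k)
    | j + 2, _, hj => fun _ hx hx' _ _ hy k =>
      hy ((McB.twoStep_eq h hp2 (j + 1) (by omega) (by omega)).le (h.mem_twoStep_of (by omega) hx hx' k))
  pm
    | j + 2, _ => fun x hx => by
      rw [show j + 2 + (p - 1) = j + 1 + (p - 1) + 1 by omega, gam_succ (by omega)]
      exact h.pow_mem_lcs (by omega) hx
  pw
    | j + 2, _, hj => fun x hx hx' => by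
      have := hp.out.pos
      rw [show j + 2 + p = j + 1 + (p - 1) + 1 + 1 by omega, gam_succ (by omega)]
      exact h.pow_notMem_lcs (by omega) (by omega) hx hx'

end CHT

theorem chThm : ChThm.{u} := fun G _ p n _ S _ hp2 h4 h => by
  have h1 := CHT.ch h h4 hp2
  have e : (⊤ : Subgroup S).map S.subtype = S := by rw [← MonoidHom.range_eq_map, range_subtype]
  have h2 := h1.map S.subtype (m := n) (by rw [ker_subtype, inf_bot_eq, h1.bot n le_rfl]) le_rfl
  rw [e] at h2
  exact ⟨_, h2, rfl, fun j => (Subgroup.map_lowerCentralSeries _ _ _).trans (by rw [e])⟩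

end CL.MX
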