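/-
Project MX: the main theorem for groups that are not exceptional (the induction).
-/
import Cfsg.Agent.MX.Ch
import Cfsg.Agent.Loc.FusMisc
import Cfsg.Agent.Grp.Coprime2
import Cfsg.Agent.Grp.PGroupFrattini
import Cfsg.Agent.Grp.PNilp

set_option autoImplicit false

namespace CL.MX

open Subgroup Cfsg CL.Grp
open scoped commutatorElement

universe u

namespace A

variable {G : Type u} [Group G] [Finite G] {p n i : ℕ} [hp : Fact p.Prime] {S L O : Subgroup G} {Γ : ℕ → Subgroup G}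

theorem pg_of {U E : Subgroup G} (hE : IsPGroup p E) (h : ∀ g ∈ U, (orderOf g).Coprime p → g ∈ E) : IsPGroup p U := by
  intro g
  obtain ⟨k, m, hm, e⟩ := Nat.exists_eq_pow_mul_and_not_dvd (orderOf_pos (g : G)).ne' p hp.out.ne_one
  have h1 : (orderOf ((g : G) ^ p ^ k)).Coprime p := Nat.Coprime.coprime_dvd_left
    (orderOf_dvd_of_pow_eq_one (by rw [← pow_mul, ← e, pow_orderOf_eq_one])) (hp.out.coprime_iff_not_dvd.2 hm).symm
  exact ⟨k, Subtype.ext (eq_one_of_coprime_of_mem hE (h _ (pow_mem g.2 _) h1) h1)⟩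

omit [Finite G] in
theorem cmem {A : Subgroup G} {s : G} (hs : s ∈ normalizer (A : Set G)) (a : G) (ha : a ∈ A) : ⁅a, s⁆ ∈ A := by
  rw [show ⁅a, s⁆ = a * (s * a⁻¹ * s⁻¹) by rw [commutatorElement_def]; group]
  exact mul_mem ha ((mem_normalizer_iff.1 hs _).1 (inv_mem ha))

theorem ex_un (h : Cs p n S Γ) (hn : 1 ≤ n) : ∃ s, Un n S Γ s := by
  obtain ⟨s, h1, h2⟩ := h.ex (j := 0) hn
  exact ⟨s, h.un' (h.le 0 h1) h2⟩

theorem norm_ge (h : Cs p n S Γ) (h1 : 1 ≤ i) (hN : L ≤ normalizer (Γ i : Set G)) (hO : O ≤ S)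
    (hn : L ≤ normalizer (O : Set G)) (h2 : ¬ O ≤ Γ 1) {j : ℕ} (hj : i ≤ j) : L ≤ normalizer (Γ j : Set G) := by
  obtain ⟨s, hs, hs'⟩ := SetLike.not_le_iff_exists.1 h2
  have hu := h.un' (hO hs) hs'
  induction j, hj using Nat.le_induction with
  | base => exact hN
  | succ j hj ih =>
    have h3 : ⁅Γ j, O⁆ ≤ Γ (j + 1) := commutator_le.2 fun x hx y hy => h.comm hx (hO hy)
    have h4 : Γ (j + 1) ≤ ⁅Γ j, O⁆ := by
      by_cases k : j + 2 ≤ n
      · obtain ⟨x, hx, hx'⟩ := h.ex (j := j) (by omega)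
        exact h.le_of_level hu (fun a ha => commutator_mem_commutator (h.anti (Nat.le_succ j) (h3 ha)) hs) (by omega)
          (commutator_mem_commutator hx hs) (h.comm hx hu.1) (hu.2.2 j (by omega) k x hx hx')
      · rw [h.bot _ (by omega)]; exact bot_le
    rw [le_antisymm h4 h3]
    intro g hg
    refine mem_normalizer_fintype fun x hx => ?_
    have h5 : ⁅Γ j, O⁆ ≤ ⁅Γ j, O⁆.comap (MulAut.conj g).toMonoidHom := commutator_le.2 fun a ha b hb => by
      rw [mem_comap, map_commutatorElement]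
      exact commutator_mem_commutator ((mem_normalizer_iff.1 (ih hg) _).1 ha) ((mem_normalizer_iff.1 (hn hg) _).1 hb)
    exact h5 hx

theorem norm_S (h : Cs p n S Γ) (hS : IsSylowIn p S L) (hC : centralizer (Γ i : Set G) ≤ Γ i)
    (hN : ∀ j, i ≤ j → L ≤ normalizer (Γ j : Set G)) : L ≤ normalizer (S : Set G) := by
  have cj : ∀ {j}, i ≤ j → ∀ g ∈ L, ∀ {x}, x ∈ Γ j → g * x * g⁻¹ ∈ Γ j := fun hj g hg x hx =>
    (mem_normalizer_iff.1 (hN _ hj hg) _).1 hx
  let U : Subgroup G :=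
    { carrier := {g | g ∈ L ∧ ∀ j, i ≤ j → ∀ x ∈ Γ j, ⁅x, g⁆ ∈ Γ (j + 1)}
      one_mem' := ⟨one_mem _, fun j _ x _ => by simp⟩
      mul_mem' := fun {a b} ha hb => ⟨mul_mem ha.1 hb.1, fun j hj x hx => by
        rw [show ⁅x, a * b⁆ = ⁅x, a⁆ * (a * ⁅x, b⁆ * a⁻¹) by simp only [commutatorElement_def]; group]
        exact mul_mem (ha.2 j hj x hx) (cj (by omega) a ha.1 (hb.2 j hj x hx))⟩
      inv_mem' := fun {a} ha => ⟨inv_mem ha.1, fun j hj x hx => by
        rw [show ⁅x, a⁻¹⁆ = a⁻¹ * ⁅x, a⁆⁻¹ * a⁻¹⁻¹ by simp only [commutatorElement_def]; group]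
        exact cj (by omega) _ (inv_mem ha.1) (inv_mem (ha.2 j hj x hx))⟩ }
  have hE : IsPGroup p (Γ i) := h.pg.to_le (h.le i)
  have h1 : U = S := hS.eq_of_le (pg_of hE fun g hg co => hC (CL.Loc.mem_cent_of_stab_chain hE (hN i le_rfl hg.1) co
    (fun k => Γ (n - k)) (h.bot _ (by omega)) (n := n) (h.anti (by omega)) fun k a ha ha' => by
      by_cases l : i ≤ n - (k + 1)
      · exact h.anti (by omega) (hg.2 _ l a ha')
      · exact h.anti (by omega) (hg.2 i le_rfl a ha))) (fun g hg => ⟨hS.le hg, fun j _ x hx => h.comm hx hg⟩)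
    fun g hg => hg.1
  rw [← h1]
  intro l hl
  refine mem_normalizer_fintype fun g hg => ⟨mul_mem (mul_mem hl hg.1) (inv_mem hl), fun j hj x hx => ?_⟩
  rw [show ⁅x, l * g * l⁻¹⁆ = l * ⁅l⁻¹ * x * l⁻¹⁻¹, g⁆ * l⁻¹ by simp only [commutatorElement_def]; group]
  exact cj (by omega) l hl (hg.2 j hj _ (cj hj _ (inv_mem hl) hx))

theorem norm_one (h : Cs p n S Γ) (hS : IsSylowIn p S L) (h1 : 1 ≤ i) (hi : i < n)
    (hN : L ≤ normalizer (Γ i : Set G)) (hC : centralizer (Γ i : Set G) ≤ Γ i) (hO : O ≤ S)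
    (hn : L ≤ normalizer (O : Set G)) (h2 : ¬ O ≤ Γ 2) : L ≤ normalizer (Γ 1 : Set G) := by
  by_cases h3 : O ≤ Γ 1
  · obtain ⟨s, hs⟩ := ex_un h (by omega)
    obtain ⟨j, a, -, e⟩ := h.eq_of_le hs (cmem (hn (hS.le hs.1))) h3 (by omega)
    obtain rfl : j = 1 := by_contra fun k => h2 (e ▸ h.anti (by omega))
    exact e ▸ hn
  have h4 := fun j => norm_ge h h1 hN hO hn h3 (j := j)
  have h5 := norm_S h hS hC h4
  intro l hl
  refine mem_normalizer_fintype fun y hy => by_contra fun k => ?_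
  have h6 : l * y * l⁻¹ ∈ S := (mem_normalizer_iff.1 (h5 hl) _).1 (h.le 1 hy)
  by_cases e : i + 2 ≤ n
  · obtain ⟨x, hx, hx'⟩ := h.ex hi
    refine h.sun i h1 e x hx hx' _ h6 k ?_
    rw [show ⁅x, l * y * l⁻¹⁆ = l * ⁅l⁻¹ * x * l⁻¹⁻¹, y⁆ * l⁻¹ by simp only [commutatorElement_def]; group]
    exact (mem_normalizer_iff.1 (h4 _ (by omega) hl) _).1 (h.sc i 1 h1 le_rfl
      (commutator_mem_commutator ((mem_normalizer_iff.1 (hN (inv_mem hl)) _).1 hx) hy))
  · obtain rfl : i = n - 1 := by omega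
    exact k (h.anti h1 (hC fun x hx => (h.central hx h6).eq))

/-- the centraliser condition passes to the quotient by the Frattini subgroup -/
theorem cent_quot {E F : Subgroup G} [E.Normal] [F.Normal] (hE : E = pCore p G) (hF : F = (frattini E).map E.subtype)
    (hC : centralizer (E : Set G) ≤ E) : centralizer (pCore p (G ⧸ F) : Set (G ⧸ F)) ≤ pCore p (G ⧸ F) := by
  have pE : IsPGroup p E := hE ▸ pCore_isPGroup p G
  have pF : IsPGroup p F := pE.to_le (hF ▸ map_subtype_le _)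
  have h1 : IsPGroup p ((centralizer (pCore p (G ⧸ F) : Set (G ⧸ F))).comap (QuotientGroup.mk' F)) :=
    pg_of pE fun g hg co => hC (le_centralizer_of_commutator_le_frattini (A := zpowers g) (K := E)
      (by rw [normalizer_eq_top]; exact le_top) (by
        obtain ⟨k, hk⟩ := IsPGroup.iff_card.1 (pE.to_subgroup (frattini E))
        rw [Nat.card_zpowers, hk]
        exact co.pow_right k) (hF ▸ commutator_le.2 fun a ha b hb => by
          rw [← QuotientGroup.eq_one_iff, ← QuotientGroup.mk'_apply, map_commutatorElement,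
            commutatorElement_eq_one_iff_mul_comm]
          exact zpowers_le.2 hg hb _ (map_pCore_quotient pF ▸ mem_map_of_mem _ (hE ▸ ha))) (mem_zpowers g))
  intro x hx
  obtain ⟨x, rfl⟩ := QuotientGroup.mk'_surjective F x
  exact map_pCore_quotient pF ▸ mem_map_of_mem _ (le_pCore h1 hx)

end A

open A

theorem thmA (h1 : CoThm.{u}) (h2 : LinThm.{u}) : ThmA.{u} := by
  intro G _ _ p n hp S Γ
  induction hN : Nat.card G using Nat.strong_induction_on generalizing G n with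
  | _ N ih =>
  subst hN
  intro h hS hn hC h0
  have syl : ∀ L, S ≤ L → IsSylowIn p S L := fun L hL => ⟨hL, h.pg, fun k => hS (k.trans (relIndex_dvd_index_of_le hL))⟩
  obtain ⟨s, hs⟩ := ex_un h hn
  have nm : ∀ (A : Subgroup G) [A.Normal] (L : Subgroup G), L ≤ normalizer (A : Set G) := fun A _ L => by
    rw [normalizer_eq_top]; exact le_top
  have h3 := h0.trans (h.anti one_le_two)
  obtain ⟨i, i1, i2, e⟩ := h.eq_of_le hs (cmem (nm _ S hs.1)) h3 hn
  have i3 : i < n := lt_of_le_of_ne i2 fun k => hs.2.1 (h3 (hC (by rw [e, h.bot i k.ge]; rintro _ rfl; simp)))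
  have i4 : 2 ≤ i := by_contra fun k => by
    obtain rfl : i = 1 := by omega
    obtain ⟨x, hx, hx'⟩ := h.ex i3
    exact hx' (h0 (e ▸ hx))
  have pE := pCore_isPGroup p G
  by_cases hF : frattini (pCore p G) = ⊥
  · obtain ⟨c1, c2⟩ := (frattini_eq_bot_iff_pGroup pE).1 hF
    have hC' := e ▸ hC
    have : (Γ i).Normal := e ▸ inferInstance
    obtain ⟨ρ, s, t, k⟩ := h1 G p n i S Γ h hS i4 i3 e (le_antisymm hC' (e ▸ le_centralizer _))
      (fun x hx => congrArg Subtype.val (c2 ⟨x, e ▸ hx⟩)) fun L hL hT => by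
        have h4 : pCore p G ≤ pCoreOf p L := le_pCoreOf (e ▸ (h.le i).trans hL) (nm _ L) pE
        refine norm_one h (syl L hL) i1 i3 (nm _ L) hC' ((syl L hL).le_of_normalized (pCoreOf_isPGroup p L)
          (pCoreOf_le p L) (le_normalizer_pCoreOf p L)) (le_normalizer_pCoreOf p L) fun k => ?_
        refine ih _ (lt_of_le_of_ne (card_le_card_group L) fun k => hT (eq_top_of_card_eq L k)) L n _ _ rfl
          (h.subgroupOf hL) (syl L hL).not_dvd hn (fun x hx => ?_) (pCoreOf_subgroupOf p L ▸ comap_mono k)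
        rw [← pCoreOf_subgroupOf]
        refine h4 (hC fun y hy => ?_)
        exact congrArg Subtype.val (hx ⟨y, pCoreOf_le p L (h4 hy)⟩ (pCoreOf_subgroupOf p L ▸ h4 hy))
    exact h2 G p _ ρ _ _ S s t k
  set F := (frattini (pCore p G)).map (pCore p G).subtype with hFd
  have hFE : F ≤ pCore p G := map_subtype_le _
  obtain ⟨m, m1, m2, e'⟩ := h.eq_of_le hs (cmem (nm F S hs.1)) (hFE.trans h3) hn
  have hk : S ⊓ (QuotientGroup.mk' F).ker = Γ m := by
    rw [QuotientGroup.ker_mk', inf_eq_right.2 (e' ▸ h.le m), e']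
  refine ih _ ?_ (G ⧸ F) m _ _ rfl (h.map _ hk m2) (fun k => hS (k.trans (index_map_dvd _ (QuotientGroup.mk'_surjective F))))
    m1 (cent_quot rfl hFd hC) (map_pCore_quotient (pE.to_le hFE) ▸ map_mono h0)
  rw [card_eq_card_quotient_mul_card_subgroup F]
  exact lt_mul_of_one_lt_right Nat.card_pos ((one_lt_card_iff_ne_bot F).2 fun k =>
    hF ((Subgroup.map_eq_bot_iff_of_injective _ (subtype_injective _)).1 k))

end CL.MX
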