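/-
Project MX: normal essential subgroups of groups with a Sylow `p`-subgroup of maximal class.
-/
import Cfsg.Agent.MX.Ch
import Cfsg.Agent.Loc.FusMisc
import Cfsg.Agent.Grp.Frattini
import Cfsg.Agent.Grp.Coprime2

set_option autoImplicit false

namespace CL.MX

open Subgroup Cfsg CL.Grp
open scoped commutatorElement

universe u

namespace B

variable {G : Type u} [Group G] {p n : ℕ} {S E U : Subgroup G} {Γ : ℕ → Subgroup G}

/-- the elements normalising `N` and acting trivially on `A` modulo `N` -/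
def Sb (A N : Subgroup G) : Subgroup G where
  carrier := {g | g ∈ normalizer (N : Set G) ∧ ∀ x ∈ A, ⁅x, g⁆ ∈ N}
  one_mem' := ⟨one_mem _, fun x _ => by simp⟩
  mul_mem' := fun {g k} hg hk => ⟨mul_mem hg.1 hk.1, fun x hx => by
    rw [show ⁅x, g * k⁆ = ⁅x, g⁆ * (g * ⁅x, k⁆ * g⁻¹) by simp only [commutatorElement_def]; group]
    exact mul_mem (hg.2 x hx) ((mem_normalizer_iff.1 hg.1 _).1 (hk.2 x hx))⟩
  inv_mem' := fun {g} hg => ⟨inv_mem hg.1, fun x hx => by
    rw [show ⁅x, g⁻¹⁆ = g⁻¹ * ⁅x, g⁆⁻¹ * g⁻¹⁻¹ by simp only [commutatorElement_def]; group]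
    exact (mem_normalizer_iff.1 (inv_mem hg.1) _).1 (inv_mem (hg.2 x hx))⟩

theorem sb_normal (A N : Subgroup G) [hA : A.Normal] [hN : N.Normal] : (Sb A N).Normal :=
  ⟨fun g hg k => ⟨by rw [normalizer_eq_top]; trivial, fun x hx => by
    rw [show ⁅x, k * g * k⁻¹⁆ = k * ⁅k⁻¹ * x * k⁻¹⁻¹, g⁆ * k⁻¹ by simp only [commutatorElement_def]; group]
    exact hN.conj_mem _ (hg.2 _ (hA.conj_mem x hx _)) k⟩⟩

theorem comm_mem [hE : E.Normal] {a : G} (ha : a ∈ E) (s : G) : ⁅a, s⁆ ∈ E := by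
  rw [show ⁅a, s⁆ = a * (s * a⁻¹ * s⁻¹) by simp only [commutatorElement_def]; group]
  exact mul_mem ha (hE.conj_mem _ (inv_mem ha) s)

variable [Finite G] [hp : Fact p.Prime]

theorem le_core [U.Normal] (h : ∀ g ∈ U, (orderOf g).Coprime p → g ∈ pCore p G) : U ≤ pCore p G := by
  refine le_pCore fun g => ?_
  obtain ⟨a, m, hm, e⟩ := Nat.exists_eq_pow_mul_and_not_dvd (orderOf_pos g.1).ne' p hp.out.ne_one
  have c : (orderOf (g.1 ^ p ^ a)).Coprime p := ((hp.out.coprime_iff_not_dvd.2 hm).symm).coprime_dvd_left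
    (orderOf_dvd_of_pow_eq_one (by rw [← pow_mul, ← e, pow_orderOf_eq_one]))
  obtain ⟨k, hk⟩ := pCore_isPGroup p G ⟨_, h _ (pow_mem g.2 _) c⟩
  exact ⟨a, Subtype.ext (orderOf_eq_one_iff.1 ((c.pow_right k).eq_one_of_dvd
    (orderOf_dvd_of_pow_eq_one (congrArg Subtype.val hk))))⟩

theorem cent_quot (hc : centralizer (pCore p G : Set G) ≤ pCore p G) (F : Subgroup G) [F.Normal]
    (hF : F ≤ ⁅pCore p G, pCore p G⁆) : centralizer (pCore p (G ⧸ F) : Set (G ⧸ F)) ≤ pCore p (G ⧸ F) := by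
  have hE := pCore_isPGroup p G
  have h1 := map_pCore_quotient (hE.to_le (hF.trans (commutator_le_self _)))
  have h2 : (centralizer (pCore p (G ⧸ F) : Set (G ⧸ F))).comap (QuotientGroup.mk' F) ≤ pCore p G := by
    refine le_core fun g hg c => hc (le_centralizer_of_commutator_le_frattini (A := zpowers g)
      (by rw [normalizer_eq_top]; exact le_top) ?_ (le_trans (commutator_le.2 fun x hx y hy => hF ?_) ?_)
      (mem_zpowers g))
    · obtain ⟨k, hk⟩ := IsPGroup.iff_card.1 (hE.to_subgroup (frattini (pCore p G)))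
      rw [Nat.card_zpowers, hk]
      exact c.pow_right k
    · refine (QuotientGroup.eq_one_iff _).1 ((map_commutatorElement (QuotientGroup.mk' F) x y).trans
        (commutatorElement_eq_one_iff_mul_comm.2 ?_))
      exact zpowers_le.2 hg hy _ (h1 ▸ mem_map_of_mem _ hx)
    · rw [← map_subtype_commutator]
      exact map_mono (commutator_le_frattini_of_isNilpotent hE.isNilpotent)
  rw [← map_comap_eq_self_of_surjective (QuotientGroup.mk'_surjective F) (centralizer _)]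
  exact (map_mono h2).trans h1.le

theorem core_le (h : Ch p n S Γ) (hi : ¬ p ∣ S.index) : pCore p G ≤ S :=
  IsSylowIn.le_of_normalized (H := ⊤) ⟨le_top, h.pg, by rwa [relIndex_top_right]⟩ (pCore_isPGroup p G) le_top
    (by rw [normalizer_eq_top])

theorem step1 (h1 : ThmA.{u}) (h2 : ExThm.{u}) {M : Subgroup G} (h : Ch p n S Γ) (hi : ¬ p ∣ S.index) (h4 : 4 ≤ n)
    (hc : centralizer (pCore p G : Set G) ≤ pCore p G) (hs : SE (pCore p G) S M) : ¬ pCore p G ≤ Γ 2 := fun hle => by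
  obtain ⟨s, us⟩ := h.exists_un (by omega)
  have l1 : pCore p G ≤ Γ 1 := hle.trans (h.anti one_le_two)
  by_cases e : ⁅pCore p G, pCore p G⁆ = ⊥
  · by_cases k : ⁅Γ (n - 2), Γ 1⁆ = ⊥
    · exact h1 G p n S Γ (h.cs (by omega) k) hi (by omega) hc hle
    obtain ⟨i, i1, -, ei⟩ := h.eq_of_le us (fun a ha => comm_mem ha s) l1 (by omega)
    refine h2 G p n i S M Γ h h4 k (by_contra fun l => ?_) (ei ▸ inferInstance)
      (ei ▸ le_antisymm hc (commutator_eq_bot_iff_le_centralizer.1 e)) (ei ▸ hs)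
    obtain rfl : i = 1 := by omega
    obtain ⟨x, x1, x2⟩ := h.ex (j := 1) (by omega)
    exact x2 (hle (ei ▸ x1))
  · obtain ⟨m, m1, m2, em⟩ := h.eq_of_le (A := ⁅pCore p G, pCore p G⁆) us (fun a ha => comm_mem ha s)
      ((commutator_le_self _).trans l1) (by omega)
    refine h1 _ p m _ _ (h.map_cs (QuotientGroup.mk' ⁅pCore p G, pCore p G⁆) (by
      rw [QuotientGroup.ker_mk', em, inf_eq_right.2 (h.le m)]) (lt_of_le_of_ne m2 fun l => e (em.trans (h.bot m l.ge))))
      (fun l => hi (l.trans (index_map_dvd S (QuotientGroup.mk'_surjective _)))) m1 (cent_quot hc _ le_rfl) ?_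
    rw [← map_pCore_quotient ((pCore_isPGroup p G).to_le (commutator_le_self _))]
    exact map_mono hle

theorem step3 (h : Ch p n S Γ) (h5 : 5 ≤ n) (hc : centralizer (pCore p G : Set G) ≤ pCore p G) (hS : pCore p G ≤ S)
    (h2 : Γ 2 ≤ pCore p G) {m : G} (hm : m ∈ pCore p G) (e : Γ 2 ⊔ zpowers m = pCore p G)
    (hu : ∀ y ∈ pCore p G, y ∉ Γ 2 → Un n S Γ y) (um : Un n S Γ m) : S ≤ pCore p G := by
  have b1 : ∀ j, 1 ≤ j → ⁅Γ j, pCore p G⁆ = Γ (j + 1) := fun j hj => by
    have l : ⁅Γ j, pCore p G⁆ ≤ Γ (j + 1) := (commutator_mono le_rfl hS).trans (h.cm j hj).le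
    refine le_antisymm l ?_
    by_cases k : j + 2 ≤ n
    · obtain ⟨x, x1, x2⟩ := h.ex (j := j) (by omega)
      exact h.le_of_level um (fun a ha => commutator_mem_commutator (h.anti (Nat.le_succ j) (l ha)) hm) (by omega)
        (commutator_mem_commutator x1 hm) (h.comm x1 um.1) (um.2.2 j hj k x x1 x2)
    · rw [h.bot _ (by omega)]; exact bot_le
  have b2 : ⁅pCore p G, pCore p G⁆ = Γ 3 := by
    refine le_antisymm (commutator_le.2 fun x hx y hy => ?_) ((b1 2 one_le_two).ge.trans (commutator_mono h2 le_rfl))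
    have k : ∀ A ≤ S, (∀ a ∈ A, ⁅a, m⁆ ∈ Γ 3) → pCore p G ≤ Sb A (Γ 3) := fun A hA k => by
      rw [← e]
      exact sup_le (fun y hy => ⟨h.norm 3 (h.le 2 hy), fun a ha => comm_symm_mem (h.comm hy (hA ha))⟩)
        (zpowers_le.2 ⟨h.norm 3 um.1, k⟩)
    refine (k _ hS (fun a ha => comm_symm_mem ((k (zpowers m) (zpowers_le.2 um.1) ?_ ha).2 m (mem_zpowers m))) hy).2 x hx
    rintro _ ⟨i, rfl⟩
    rw [commutatorElement_eq_one_iff_commute.2 ((Commute.refl m).zpow_left i)]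
    exact one_mem _
  have b3 : ∀ j, (Γ (j + 3)).Normal := fun j => by
    induction j with
    | zero => exact b2 ▸ inferInstance
    | succ j ih => exact b1 (j + 3) (by omega) ▸ inferInstance
  have b4 : (Γ 2).Normal := by
    have := b3 0
    have := b3 2
    have := sb_normal (Γ 3) (Γ 5)
    have e2 : pCore p G ⊓ Sb (Γ 3) (Γ 5) = Γ 2 := by
      refine le_antisymm (fun y hy => by_contra fun l => ?_) (le_inf h2 fun y hy =>
        ⟨h.norm 5 (h.le 2 hy), fun x hx => h.cc0 3 2 (commutator_mem_commutator hx hy)⟩)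
      obtain ⟨x, x1, x2⟩ := h.ex (j := 3) (by omega)
      exact (hu y hy.1 l).2.2 3 (by omega) h5 x x1 x2 (hy.2.2 x x1)
    exact e2 ▸ inferInstance
  have b5 : ∀ j, (Sb (Γ (j + 2)) (Γ (j + 3))).Normal := fun j => by
    have : (Γ (j + 2)).Normal := by
      cases j with
      | zero => exact b4
      | succ j => exact b3 j
    have := b3 j
    exact sb_normal _ _
  have := sb_normal (pCore p G) (Γ 2)
  have := normal_iInf_normal b5
  refine le_trans ?_ (le_core (U := Sb (pCore p G) (Γ 2) ⊓ ⨅ j, Sb (Γ (j + 2)) (Γ (j + 3))) fun g hg c => hc ?_)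
  · exact le_inf (fun g hg => ⟨h.norm 2 hg, fun x hx => h.c00 (commutator_mem_commutator (hS hx) hg)⟩)
      (le_iInf fun j g hg => ⟨h.norm _ hg, fun x hx => h.comm hx hg⟩)
  refine CL.Loc.mem_cent_of_stab_chain (pCore_isPGroup p G) (by rw [normalizer_eq_top]; trivial) c
    (fun i => if i + 2 ≤ n then Γ (n - i) else ⊤) (by rw [if_pos (by omega)]; exact h.bot _ le_rfl) (n := n)
    (by rw [if_neg (by omega)]; exact le_top) fun i a a1 a2 => ?_
  split_ifs with k
  · by_cases l : i + 1 + 2 ≤ n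
    · rw [if_pos l, show n - (i + 1) = n - i - 3 + 2 by omega] at a2
      rw [show n - i = n - i - 3 + 3 by omega]
      exact (mem_iInf.1 hg.2 _).2 a a2
    · rw [show n - i = 2 by omega]
      exact hg.1.2 a a1
  · trivial

end B

open B in
theorem thmB (h1 : ThmA.{u}) (h2 : ExThm.{u}) : ThmB.{u} := by
  intro G _ _ p n hp S M Γ h hi h4 hc hne hs
  have a1 := step1 h1 h2 h hi h4 hc hs
  have hS := core_le h hi
  have nS : ¬ S ≤ pCore p G := fun e => hne (le_antisymm hS e)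
  obtain ⟨s, us⟩ := h.exists_un (by omega)
  by_cases l1 : pCore p G ≤ Γ 1
  · obtain ⟨i, i1, -, ei⟩ := h.eq_of_le us (fun a ha => comm_mem ha s) l1 (by omega)
    obtain rfl : i = 1 := by_contra fun l => a1 (ei.le.trans (h.anti (by omega)))
    exact ⟨by rw [ei, ← h.zero]; exact h.idx 0 (by omega), .inl ei⟩
  obtain ⟨m, m1, m2⟩ := SetLike.not_le_iff_exists.1 l1
  obtain ⟨x, x1, x2⟩ := h.ex (j := 1) (by omega)
  have a2 : Γ 2 ≤ pCore p G := h.le_of_level us (fun a ha => comm_mem ha s) one_le_two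
    (comm_symm_mem (comm_mem m1 x)) (h.comm x1 (hS m1)) (h.un 1 le_rfl h4 x x1 x2 m (hS m1) m2)
  have a3 := relIndex_mul_relIndex _ _ _ a2 hS
  have a4 := h.relIndex_add 0 2 (by omega)
  rw [h.zero, zero_add, ← a3] at a4
  obtain ⟨k, k1, k2⟩ := (Nat.dvd_prime_pow hp.out).1 (Dvd.intro_left _ a4)
  obtain rfl : k = 1 := by
    interval_cases k
    · exact (nS (relIndex_eq_one.1 k2)).elim
    · rfl
    · rw [k2, mul_eq_right₀ (pow_pos hp.out.pos 2).ne'] at a4
      exact (a1 (relIndex_eq_one.1 a4)).elim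
  rw [pow_one] at k2
  rw [k2, pow_two, mul_left_inj' hp.out.ne_zero] at a4
  have a5 : ∀ y ∈ pCore p G, y ∉ Γ 2 → Γ 2 ⊔ zpowers y = pCore p G := fun y y1 y2 =>
    (eq_or_eq_of_relIndex_prime le_sup_left (sup_le a2 (zpowers_le.2 y1)) (by rw [a4]; exact hp.out)).resolve_left
      fun e => y2 (e.le (mem_sup_right (mem_zpowers y)))
  have a6 : Γ 2 ≤ centralizer (Γ (n - 2) : Set G) := commutator_eq_bot_iff_le_centralizer.1
    (le_bot_iff.1 ((h.cc0 2 (n - 2)).trans (h.bot _ (by omega)).le))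
  have m3 : m ∉ Γ 2 := fun e => m2 (h.anti one_le_two e)
  refine ⟨k2, .inr ?_⟩
  by_cases c : m ∈ centralizer (Γ (n - 2) : Set G)
  · exact .inl ((eq_or_eq_of_relIndex_prime (le_inf hS ((a5 m m1 m3).ge.trans (sup_le a6 (zpowers_le.2 c))))
      inf_le_left (by rw [k2]; exact hp.out)).resolve_right fun e => h.not_cent (by omega) (inf_eq_left.1 e)).symm
  · refine .inr (by_contra fun l => nS (step3 h (by omega) hc hS a2 m1 (a5 m m1 m3) (fun y y1 y2 => ?_)
      (h.un_of (hS m1) m2 c)))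
    exact h.un_of (hS y1) (fun e => l1 ((a5 y y1 y2).ge.trans (sup_le (h.anti one_le_two) (zpowers_le.2 e))))
      fun e => c ((a5 y y1 y2).ge.trans (sup_le a6 (zpowers_le.2 e)) m1)

end CL.MX
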