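/-
Project MX: the three cyclic lemmas.
-/
import Cfsg.Agent.MX.Defs

set_option autoImplicit false
set_option linter.unusedSectionVars false

namespace CL.MX

open Subgroup Cfsg

universe u

namespace C

theorem row {p d : ℕ} {A : Mt p d} (hA : Rs 0 A) (C : Mt p d) (v : ℕ) : en (A * C) 0 v = en A 0 0 * en C 0 v := by
  rw [en_mul, Finset.sum_eq_single 0 (fun w _ hw => by rw [hA 0 w (by omega), zero_mul]) fun k => by
    rw [en_left A (by simpa using k), zero_mul]]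

variable {G : Type u} [Group G] [Finite G] {p w ε : ℕ} [hp : Fact p.Prime] {β : G → Mt p w} {P S L : Subgroup G}
  {s : G} {a : G → ZMod p} (h : Cyc p w ε β P S L s a)
include h

theorem inv {g : G} (hg : g ∈ L) : β g⁻¹ * β g = 1 := by rw [← h.mul _ (inv_mem hg) _ hg, inv_mul_cancel, h.one]

theorem pow (m : ℕ) : β (s ^ m) = (1 + Jm p w) ^ m := by
  induction m with
  | zero => rw [pow_zero, pow_zero, h.one]
  | succ m ih => rw [pow_succ, pow_succ, h.mul _ (pow_mem (h.SL h.sS) m) _ (h.SL h.sS), ih, h.βs]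

theorem onS {y : G} (hy : y ∈ S) : ∃ m, β y = (1 + Jm p w) ^ m := by
  obtain ⟨m, -, e⟩ := h.gen y hy
  exact ⟨m, by rw [← mul_inv_cancel_left (s ^ m) y, h.mul _ (pow_mem (h.SL h.sS) m) _ (h.SL (h.PS e)), h.βP _ e,
    mul_one, pow h]⟩

theorem rowS {y : G} (hy : y ∈ S) (C : Mt p w) (v : ℕ) : en (β y * C) 0 v = en C 0 v := by
  obtain ⟨m, e⟩ := onS h hy
  rw [e]
  clear e
  induction m with
  | zero => rw [pow_zero, one_mul]
  | succ m ih =>
    rw [pow_succ', mul_assoc, row (rs_one.add (rs_Jm.mono zero_le_one)), ih, en_add, rs_Jm 0 0 one_pos, add_zero,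
      ← row rs_one, one_mul]

theorem dg1 : DgM (gr1 p) fun m => β (s ^ m) := by
  simpa only [pow h, one_mul] using dgM_pow (gr1_id 1) (M := 1 + Jm p w) (by simpa using rs_Jm) le_rfl h.wp.le

theorem dg2 : DgM (gr1 p) fun m => β (s ^ m)⁻¹ := by
  convert dgM_pow (gr1_id (p - 1)) (M := 1 + Jm p w) (by simpa using rs_Jm) le_rfl h.wp.le using 2 with m
  have e : (1 + Jm p w) ^ (m + (p - 1) * m) = 1 := by
    rw [add_comm m, ← Nat.succ_mul, Nat.succ_eq_add_one, Nat.sub_add_cancel hp.out.one_le, pow_mul, ← pow h,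
      h.βP _ h.sp, one_pow]
  rw [pow_add, ← pow h m] at e
  exact left_inv_eq_right_inv (inv h (pow_mem (h.SL h.sS) m)) e

theorem dgRow {g : G} (hg : g ∈ L) (C : Mt p w) (v : ℕ) :
    (fun m => en (β (s ^ m * g)⁻¹ * C) 0 v) ∈ (gr1 p).S (w - 1) := by
  simp only [mul_inv_rev, fun m => h.mul _ (inv_mem hg) _ (inv_mem (pow_mem (h.SL h.sS) m)), en_mul (_ * _)]
  exact Gr.sum _ fun x _ => Gr.le (Gr.mulc _ ((dg2 h).right _ 0 x)) (by omega)

theorem le0 : S ≤ L ⊓ normalizer (S : Set G) := le_inf h.SL le_normalizer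

theorem collapse (hS : SmCyc.{u}) {F : G → ZMod p} (ri : RI S L F) {r : ℕ} (hr : r + 2 ≤ p)
    (deg : ∀ g ∈ L, (fun m => F (s ^ m * g)) ∈ (gr1 p).S r) {c : ZMod p}
    (hc : ∀ g ∈ L, g ∈ normalizer (S : Set G) → F g = c) :
    sm S L F = (S.relIndex (L ⊓ normalizer (S : Set G)) : ZMod p) * c := by
  have nP : ∀ g ∈ L, ∀ y ∈ P, g⁻¹ * y * g ∈ S := fun g hg y hy =>
    h.PS ((mem_normalizer_iff''.1 (h.nP hg) y).1 hy)
  rw [hS G _ p S _ L s F (le0 h) inf_le_left (le0 h h.sS) (fun g hg => nP g hg _ h.sp) (fun g hg e => ⟨hg, ?_⟩) ri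
    fun g hg => gr1_sum (deg g hg) hr, sm_const (le0 h) fun g hg => hc g hg.1 hg.2, nsmul_eq_mul]
  refine (inv_mem_iff (H := normalizer (S : Set G))).1 (mem_normalizer_fintype fun y hy => ?_)
  obtain ⟨m, -, k⟩ := h.gen y hy
  have := mul_mem (pow_mem e m) (nP g hg _ k)
  rw [show g⁻¹ * s * g = g⁻¹ * s * g⁻¹⁻¹ by rw [inv_inv], conj_pow] at this
  simpa [mul_assoc] using this

theorem n0 : (S.relIndex (L ⊓ normalizer (S : Set G)) : ZMod p) ≠ 0 := fun e =>
  h.syl (((ZMod.natCast_eq_zero_iff _ _).1 e).trans ⟨_, (relIndex_mul_relIndex _ _ _ (le0 h) inf_le_left).symm⟩)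

theorem e00 {g : G} (hg : g ∈ L) (hn : g ∈ normalizer (S : Set G)) (hw : 0 < w) : en (β g⁻¹) 0 0 * a g ^ ε = 1 := by
  have := row (h.tri _ (inv_mem hg) (inv_mem hn)).1 (β g) 0
  rwa [inv h hg, en_one, if_pos ⟨rfl, hw⟩, (h.tri g hg hn).2.2 0 hw, add_zero, eq_comm] at this

theorem core (hS : SmCyc.{u}) {j e : ℕ} (h1 : 1 ≤ j) (h2 : j < w) (h3 : e + j + w < p) (l : Mt p w → G → ZMod p)
    (l1 : ∀ C, RI S L (l C)) (l2 : ∀ C, ∀ k ∈ L, ∀ g ∈ L, l (β k * C) (k * g) = l C g)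
    (l3 : ∀ C, ∀ g ∈ L, (fun m => l C (s ^ m * g)) ∈ (gr1 p).S e)
    (l4 : ∀ g ∈ L, g ∈ normalizer (S : Set G) → l 1 g * a g ^ j = 1) : False := by
  let Ad : G → Mt p w := fun g => β g * Jm p w ^ j * β g⁻¹
  have a1 : ∀ k ∈ L, ∀ g ∈ L, Ad (k * g) = β k * Ad g * β k⁻¹ := fun k hk g hg => by
    simp only [Ad, mul_inv_rev, h.mul _ hk _ hg, h.mul _ (inv_mem hg) _ (inv_mem hk), mul_assoc]
  have a2 : RI S L Ad := fun g hg y hy => by
    obtain ⟨m, e⟩ := onS h hy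
    have c : Commute (β y) (Jm p w ^ j) := e ▸ ((Commute.one_left _).add_left (Commute.refl _)).pow_pow m j
    have i := inv h (inv_mem (h.SL hy))
    rw [inv_inv] at i
    simp only [Ad, mul_inv_rev, h.mul _ hg _ (h.SL hy), h.mul _ (inv_mem (h.SL hy)) _ (inv_mem hg)]
    rw [mul_assoc (β g), c.eq, mul_assoc, mul_assoc, ← mul_assoc (β y), i, one_mul, mul_assoc]
  have rj : Rs j (Jm p w ^ j) := by simpa using rs_Jm.pow j
  have a3 : ∀ g ∈ L, g ∈ normalizer (S : Set G) → Rs j (Ad g) ∧ en (Ad g) j 0 = a g ^ j := fun g hg hn => by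
    obtain ⟨t1, -, t2⟩ := h.tri g hg hn
    have t3 := (h.tri _ (inv_mem hg) (inv_mem hn)).1
    have t4 := (t1.mul rj).en_mul t3 0
    have t5 := t1.en_mul rj 0
    simp only [zero_add, add_zero] at t4 t5
    refine ⟨by simpa using (t1.mul rj).mul t3, ?_⟩
    rw [t4, t5, t2 j h2, en_Jm_pow, if_pos ⟨(zero_add j).symm, h2⟩, mul_one, pow_add, mul_comm, ← mul_assoc,
      e00 h hg hn (by omega), one_mul]
  let Φ : Mt p w → Mt p w := fun C => sm S L fun g => l C g • Ad g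
  have r1 : ∀ C, RI S L fun g => l C g • Ad g := fun C g hg y hy => by simp only [l1 C g hg y hy, a2 g hg y hy]
  have f1 : ∀ k ∈ L, ∀ C, β k * Φ C = Φ (β k * C) * β k := fun k hk C => by
    refine (sm_map (AddMonoidHom.mulLeft (β k))).trans (.trans (sm_congr fun g hg => ?_)
      ((sm_map (AddMonoidHom.mulRight (β k))).symm.trans (congrArg (· * β k) (sm_left h.SL (r1 (β k * C)) hk))))
    simp [l2 C k hk g hg, a1 k hk g hg, mul_assoc, inv h hk]
  have f2 : ∀ C u v c, u + (w - 1 - v) ≤ j + (w - 1) →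
      (∀ g ∈ L, g ∈ normalizer (S : Set G) → l C g * en (Ad g) u v = c) →
      en (Φ C) u v = (S.relIndex (L ⊓ normalizer (S : Set G)) : ZMod p) * c := fun C u v c k hc =>
    (sm_map (enH p w u v).toAddMonoidHom).trans (collapse h hS (fun g hg y hy => congrArg (en · u v) (r1 C g hg y hy))
      (r := e + (j + (w - 1))) (by omega) (fun g hg => by
        refine Gr.le (a := e + (u + (w - 1 - v))) ?_ (by omega)
        convert (gr1 p).mul (l3 C g hg) ((dg1 h).conj (dg2 h) (Ad g) u v) using 2 with m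
        rw [← a1 _ (pow_mem (h.SL h.sS) m) g hg]
        exact en_smul _ _ _ _) fun g hg hn => (en_smul _ _ _ _).trans (hc g hg hn))
  let W := ⨆ C, LinearMap.range (Φ C).mulVecLin
  have w1 : ∀ k ∈ L, ∀ c ∈ W, (β k).mulVec c ∈ W := fun k hk =>
    (iSup_le fun C => by
      rintro _ ⟨c, rfl⟩
      refine Submodule.mem_iSup_of_mem (β k * C) ⟨(β k).mulVec c, ?_⟩
      simp [Matrix.mulVec_mulVec, f1 k hk] : W ≤ W.comap (β k).mulVecLin)
  obtain ⟨x, -, hx⟩ := eq_Fl W fun c hc => by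
    simpa [h.βs, Matrix.add_mulVec] using sub_mem (w1 s (h.SL h.sS) c hc) hc
  have w2 : W ≤ Fl p w 1 := iSup_le fun C => by
    rintro _ ⟨c, rfl⟩ u hu
    rw [Matrix.mulVecLin_apply, Matrix.mulVec, dotProduct]
    refine Finset.sum_eq_zero fun v _ => ?_
    rw [← en_val (Φ C), f2 C u v 0 (by omega) fun g hg hn => by rw [(a3 g hg hn).1 u v (by omega), mul_zero],
      mul_zero, zero_mul]
  obtain ⟨g, hg, k⟩ := h.irr x (Nat.pos_of_ne_zero fun e => by
    simpa using w2 (hx.ge (show (fun _ => 1) ∈ Fl p w x from fun u hu => absurd hu (by omega))) ⟨0, by omega⟩ one_pos)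
    (lt_of_not_ge fun e => n0 h (by
      have := hx.le (Submodule.mem_iSup_of_mem 1 ⟨Pi.single ⟨0, by omega⟩ 1, rfl⟩) ⟨j, h2⟩ (h2.trans_le e)
      rw [← mul_one (Nat.cast _ : ZMod p), ← f2 1 j 0 1 le_rfl fun g hg hn => by rw [(a3 g hg hn).2, l4 g hg hn],
        en_of_lt _ h2 (by omega)]
      simpa using this))
  exact k (st_iff.2 (hx ▸ w1 g hg))

theorem riRow (C : Mt p w) (v : ℕ) : RI S L fun g => en (β g⁻¹ * C) 0 v := fun g hg y hy => by
  simp only [mul_inv_rev]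
  rw [h.mul _ (inv_mem (h.SL hy)) _ (inv_mem hg), mul_assoc, rowS h (inv_mem hy)]

theorem shift {k g : G} (hk : k ∈ L) (hg : g ∈ L) (C : Mt p w) : β (k * g)⁻¹ * (β k * C) = β g⁻¹ * C := by
  rw [mul_inv_rev, h.mul _ (inv_mem hg) _ (inv_mem hk), mul_assoc, ← mul_assoc (β k⁻¹), inv h hk, one_mul]

end C

open C

theorem c1 (hS : SmCyc.{u}) : C1.{u} := fun G _ _ p w ε _ β P S L s a h hw ha => by
  have key : ∀ C v, (sm S L fun g => en (β g⁻¹ * C) 0 v) = _ * en C 0 v := fun C v =>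
    collapse h hS (riRow h C v) (by have := h.wp; omega) (fun g hg => dgRow h hg C v) fun g hg hn => by
      rw [row (h.tri _ (inv_mem hg) (inv_mem hn)).1, ← mul_one (en _ 0 0), ← ha g hg hn, e00 h hg hn (by omega),
        one_mul]
  obtain ⟨k, hk, n⟩ := h.irr 1 one_pos hw
  refine n fun u v hu hv => ?_
  obtain rfl : u = 0 := by omega
  have := key (β k * 1) v
  rw [← sm_left h.SL (riRow h _ v) hk, sm_congr fun g hg => by rw [shift h hk hg], key, mul_one, en_one,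
    if_neg (by omega)] at this
  exact (mul_left_cancel₀ (n0 h) this).symm

theorem c2 (hS : SmCyc.{u}) : C2.{u} := fun G _ _ p w ε _ β P S L s a h j h1 h2 h3 ha =>
  core h hS (e := 0) h1 h2 (by omega) (fun _ _ => 1) (fun _ _ _ _ _ => rfl) (fun _ _ _ _ _ => rfl)
    (fun _ _ _ => (gr1 p).one) fun g hg hn => by rw [ha g hg hn, one_mul]

theorem c3 (hS : SmCyc.{u}) : C3.{u} := fun G _ _ p w ε _ β P S L s a h j h1 h2 h3 ha =>
  core h hS (e := w - 1) h1 h2 (by omega) (fun C g => en (β g⁻¹ * C) 0 0) (fun C => riRow h C 0)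
    (fun C k hk g hg => by rw [shift h hk hg]) (fun C g hg => dgRow h hg C 0) fun g hg hn => by
      rw [ha g hg hn, mul_one, e00 h hg hn (by omega)]

end CL.MX
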