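/-
Project MX: the cyclic lemmas inside the normaliser of `P`, and the unipotent radical of a subgroup.
-/
import Cfsg.Agent.MX.Defs

set_option autoImplicit false

namespace CL.MX

open Subgroup Cfsg
open scoped commutatorElement

universe u

namespace CLa

variable {p d k x y z w : ℕ}

/-- `M` maps the member `x` of the flag into the member `y` -/
def Mp (x y : ℕ) (M : Mt p d) : Prop := ∀ u v, u < y → x ≤ v → en M u v = 0

theorem Mp.mul {A B : Mt p d} (hA : Mp y z A) (hB : Mp x y B) : Mp x z (A * B) := fun u v hu hv => by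
  rw [en_mul]
  refine Finset.sum_eq_zero fun w _ => ?_
  by_cases k : w < y
  · rw [hB w v k hv, mul_zero]
  · rw [hA u w hu (by omega), zero_mul]

theorem mp_iff {M : Mt p d} : Mp x y M ↔ ∀ c ∈ Fl p d x, M.mulVec c ∈ Fl p d y := by
  refine ⟨fun h c hc u hu => ?_, fun h u v hu hv => ?_⟩
  · rw [Matrix.mulVec, dotProduct]
    refine Finset.sum_eq_zero fun v _ => ?_
    by_cases k : (v : ℕ) < x
    · rw [hc v k, mul_zero]
    · rw [← en_val M, h u v hu (by omega), zero_mul]
  · by_cases hv' : v < d; swap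
    · exact en_right _ _ (by omega)
    by_cases hu' : u < d; swap
    · exact en_left _ (by omega) _
    have := h (Pi.single ⟨v, hv'⟩ 1) (fun w hw => Pi.single_eq_of_ne (fun e => by subst e; simp at hw; omega) _)
      ⟨u, hu'⟩ hu
    rw [en_of_lt _ hu' hv']
    simpa using this

theorem le_of_Fl [Fact p.Prime] (h : Fl p d x ≤ Fl p d y) (hy : y ≤ d) : y ≤ x := by
  by_contra! n
  simpa using h (x := Pi.single ⟨x, by omega⟩ 1)
    (fun w hw => Pi.single_eq_of_ne (fun e => by subst e; simp at hw) _) ⟨x, by omega⟩ n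

variable {G : Type u} [Group G] {ρ : G →* Mt p d} {E P S L : Subgroup G} {s t : G}

theorem exists_nx (hx : x < d) (h : Inv ρ L x) : ∃ y, Nx ρ L x y := by
  classical
  have ex : ∃ y, x < y ∧ Inv ρ L y := ⟨d, hx, fun g _ => st_top _ le_rfl⟩
  exact ⟨Nat.find ex, (Nat.find_spec ex).1, Nat.find_min' ex ⟨hx, fun g _ => st_top _ le_rfl⟩, h, (Nat.find_spec ex).2,
    fun z h1 h2 h3 => Nat.find_min ex h2 ⟨h1, h3⟩⟩

/-- the elements acting trivially on the chief factors -/
def U (ρ : G →* Mt p d) (L : Subgroup G) : Subgroup G where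
  carrier := {g | g ∈ L ∧ ∀ x y, Nx ρ L x y → Mp x y (ρ g - 1)}
  one_mem' := ⟨one_mem _, fun x y _ u v _ _ => by rw [map_one, sub_self, en_zero]⟩
  mul_mem' := fun {a b} ha hb => ⟨mul_mem ha.1 hb.1, fun x y n u v hu hv => by
    rw [show ρ (a * b) - 1 = ρ a * (ρ b - 1) + (ρ a - 1) by rw [map_mul]; noncomm_ring, en_add,
      Mp.mul (n.iy a ha.1) (hb.2 x y n) u v hu hv, ha.2 x y n u v hu hv, add_zero]⟩
  inv_mem' := fun {a} ha => ⟨inv_mem ha.1, fun x y n u v hu hv => by
    rw [show ρ a⁻¹ - 1 = -(ρ a⁻¹ * (ρ a - 1)) by rw [mul_sub, ← map_mul, inv_mul_cancel, map_one, mul_one, neg_sub], en_neg,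
      Mp.mul (n.iy _ (inv_mem ha.1)) (ha.2 x y n) u v hu hv, neg_zero]⟩

theorem le_norm_U : L ≤ normalizer (U ρ L : Set G) := le_normalizer_iff.2 fun g hg a ha =>
  ⟨mul_mem (mul_mem hg ha.1) (inv_mem hg), fun x y n => by
    rw [show ρ (g * a * g⁻¹) - 1 = ρ g * (ρ a - 1) * ρ g⁻¹ by
      rw [mul_sub, sub_mul, mul_one, ← map_mul, ← map_mul, ← map_mul, mul_inv_cancel, map_one]]
    exact (Mp.mul (n.iy g hg) (ha.2 x y n)).mul (n.ix _ (inv_mem hg))⟩

variable [Fact p.Prime] (h : Lk p d k ρ E P S s t)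
include h

theorem U_isP : IsPGroup p (U ρ L) := fun g => by
  have a : ∀ m, ∃ z ≤ d, min m d ≤ z ∧ Inv ρ L z ∧ Mp 0 z ((ρ g - 1) ^ m) := fun m => by
    induction m with
    | zero => exact ⟨0, d.zero_le, by simp, fun g _ => st_zero _, fun _ _ h => absurd h (by omega)⟩
    | succ m ih =>
      obtain ⟨z, z1, z2, z3, z4⟩ := ih
      rw [pow_succ']
      rcases z1.eq_or_lt with rfl | z1
      · exact ⟨z, le_rfl, min_le_right _ _, z3, Mp.mul (st_top _ le_rfl) z4⟩
      obtain ⟨y, n⟩ := exists_nx z1 z3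
      exact ⟨y, n.le, by have := n.lt; omega, n.iy, (g.2.2 z y n).mul z4⟩
  obtain ⟨z, z1, z2, -, z4⟩ := a p
  have := h.dp
  have : Nonempty (Fin d) := ⟨⟨0, h.kd.pos⟩⟩
  have e : (ρ g - 1) ^ p = 0 := ext_en fun u hu v _ => by rw [z4 u v (by omega) v.zero_le, en_zero]
  rw [sub_pow_char_of_commute p (Commute.one_right _), one_pow, sub_eq_zero, ← map_pow] at e
  obtain ⟨n, hn⟩ := h.pg ⟨_, h.PS (h.EP ((h.ker _).1 e))⟩
  exact ⟨n + 1, Subtype.ext (by rw [pow_succ', pow_mul]; exact congrArg S.subtype hn)⟩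

theorem triv (h1 : S ≤ L) (h2 : L ≤ normalizer (P : Set G)) (n : Nx ρ L x (x + w)) {a : G} (ha : a ∈ P) :
    bk x w (ρ a) = 1 := by
  let W := (⨆ (y : G) (_ : y ∈ P), (Fl p d x).map (ρ y - 1).mulVecLin) ⊔ Fl p d (x + w)
  have m : ∀ y ∈ P, ∀ c ∈ Fl p d x, (ρ y - 1).mulVec c ∈ W := fun y hy c hc =>
    Submodule.mem_sup_left (Submodule.mem_iSup_of_mem y (Submodule.mem_iSup_of_mem hy ⟨c, hc, rfl⟩))
  have i : ∀ g ∈ L, W ≤ W.comap (ρ g).mulVecLin := fun g hg => by
    refine sup_le (iSup₂_le ?_) fun c hc => Submodule.mem_sup_right (st_iff.1 (n.iy g hg) c hc)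
    rintro y hy _ ⟨c, hc, rfl⟩
    have := m _ ((mem_normalizer_iff.1 (h2 hg) y).1 hy) _ (st_iff.1 (n.ix g hg) c hc)
    rwa [Matrix.mulVec_mulVec, sub_mul, ← map_mul, inv_mul_cancel_right, map_mul, one_mul, ← mul_sub_one,
      ← Matrix.mulVec_mulVec] at this
  obtain ⟨z, z1, e⟩ := eq_Fl W fun c hc => by
    simpa [h.ρs, Matrix.add_mulVec] using W.sub_mem (i s (h1 h.sS) hc) hc
  have l := n.lt
  have z2 : z ≤ x + w := le_of_Fl (le_sup_right.trans e.le) z1
  have z3 : x + 1 ≤ z := le_of_Fl (e.ge.trans (sup_le (iSup₂_le (by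
    rintro y hy _ ⟨c, hc, rfl⟩
    exact mp_iff.1 (fun u v hu hv => h.rP y hy u v (by omega)) c hc)) fun c hc u hu => hc u (by omega)))
    (l.trans_le n.le)
  obtain rfl : z = x + w := by_contra fun k => n.no z z3 (by omega) fun g hg => st_iff.2 fun c hc =>
    e.le (i g hg (e.ge hc))
  rw [← bk_one n.le]
  funext u v
  exact sub_eq_zero.1 ((en_sub _ _ _ _).symm.trans (mp_iff.2 (fun c hc => e.le (m a ha c hc)) _ _
    (Nat.add_lt_add_left u.2 x) (by omega)))

theorem cyc (h1 : S ≤ L) (h2 : L ≤ normalizer (P : Set G)) (n : Nx ρ L x (x + w)) :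
    Cyc p w (k + 1 + x) (fun g => bk x w (ρ g)) P S L s fun g => wa (ρ g) where
  wp := by have := n.le; have := h.dp; omega
  PS := h.PS
  SL := h1
  nP := h2
  syl e := h.syl (e.trans (relIndex_dvd_index_of_le h1))
  sS := h.sS
  sp := h.EP (h.pw s h.sS)
  gen := h.gen
  one := by rw [map_one, bk_one n.le]
  mul g hg a ha := by rw [map_mul, bk_mul (n.iy g hg) (n.ix a ha) n.le]
  βs := ext_en fun a ha b hb => by
    have := n.le
    rw [en_bk _ ha hb, h.ρs, en_add, en_add, en_one, en_one, en_Jm, en_Jm]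
    congr 1 <;> exact if_congr (by omega) rfl rfl
  βP a ha := triv h h1 h2 n ha
  tri a _ ha := by
    obtain ⟨t1, t2, t3⟩ := h.tri a ha
    refine ⟨fun u v huv => ?_, t2, fun u hu => ?_⟩
    · by_cases k : v < w
      · rw [en_bk _ (by omega) k, t1 _ _ (by omega)]
      · exact en_right _ _ (by omega)
    · rw [en_bk _ hu hu, t3 _ (by have := n.le; omega), add_assoc (k + 1)]
  irr y y1 y2 := by
    by_contra! a
    refine n.no (x + y) (by omega) (by omega) fun g hg u v hu hv => ?_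
    by_cases k1 : u < x
    · exact n.ix g hg u v k1 (by omega)
    by_cases k2 : x + w ≤ v
    · exact n.iy g hg u v (by omega) k2
    have := a g hg (u - x) (v - x) (by omega) (by omega)
    rwa [en_bk _ (by omega) (by omega), Nat.add_sub_cancel' (by omega), Nat.add_sub_cancel' (by omega)] at this

theorem bor [Finite G] (h1 : S ≤ L) (h2 : ∀ x, Inv ρ L x) : L ≤ normalizer (S : Set G) := by
  have a : S ≤ U ρ L := fun g hg => ⟨h1 hg, fun x y n u v hu hv => h.rS g hg u v (by
    have : ¬ x + 1 < y := fun k => n.no _ x.lt_succ_self k (h2 _)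
    omega)⟩
  obtain ⟨n, hn⟩ := (U_isP (L := L) h).index (S.subgroupOf (U ρ L))
  have b : U ρ L ≤ S := relIndex_eq_one.1 (by
    rcases n with _ | n
    · exact hn
    · exact (h.syl ((dvd_pow_self p n.succ_ne_zero).trans (hn.symm.dvd.trans (relIndex_dvd_index_of_le a)))).elim)
  rw [le_antisymm a b]
  exact le_norm_U

end CLa

open CLa in
theorem clThm (h1 : C1.{u}) (h2 : C2.{u}) (h3 : C3.{u}) : ClThm.{u} := by
  intro G _ _ p d k _ ρ E P S s t h
  refine ⟨fun L x w a b n => h1 G p w _ _ P S L s _ (cyc h a b n), fun L x w j a b n => h2 G p w _ _ P S L s _ (cyc h a b n) j,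
    fun L x w j a b n => h3 G p w _ _ P S L s _ (cyc h a b n) j, fun L x w a b n y hy => triv h a b n hy,
    fun L a b => bor h a b, fun L a b c => bor h a fun x => ?_, ?_⟩
  · induction x with
    | zero => exact fun g _ => st_zero _
    | succ x ih =>
      by_cases e : x < d; swap
      · exact fun g _ => st_top _ (by omega)
      obtain ⟨y, n⟩ := exists_nx e ih
      obtain ⟨w, rfl⟩ := Nat.exists_eq_add_of_le n.lt.le
      have := n.lt
      obtain rfl : w = 1 := by_contra fun k => h1 G p w _ _ P S L s _ (cyc h a b n) (by omega) fun g g1 g2 => by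
        rw [(h.w1 g g2).2 (c g g1 g2), one_pow]
      exact n.iy
  · by_contra! a
    exact h.tE (h.core (U ρ ⊤) (normalizer_eq_top_iff.1 (top_le_iff.1 le_norm_U)) (U_isP h)
      ⟨trivial, fun x y n u v hu hv => h.rt u v (by have : ¬ x + k < y := fun k => a x y k n; omega)⟩)

end CL.MX
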