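/-
Project MX: coordinates on `O_p(G)`.
-/
import Cfsg.Agent.MX.Ch

set_option autoImplicit false

namespace CL.MX

open Subgroup Cfsg
open scoped commutatorElement

universe u

namespace CO

variable {G : Type u} [Group G] {p n d k : ℕ} {S : Subgroup G} {Γ : ℕ → Subgroup G} {x y s t : G}
  {φ : (Fin d → ZMod p) → G}

/-- additive maps -/
def Ad (φ : (Fin d → ZMod p) → G) : Prop := ∀ a c, φ (a + c) = φ a * φ c

theorem Ad.zero (h : Ad φ) : φ 0 = 1 := by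
  have := h 0 0
  rw [add_zero] at this
  exact left_eq_mul.1 this

theorem Ad.sub (h : Ad φ) (a c : Fin d → ZMod p) : φ (a - c) = φ a * (φ c)⁻¹ := by
  rw [eq_mul_inv_iff_mul_eq, ← h, sub_add_cancel]

theorem Ad.nsmul (h : Ad φ) (m : ℕ) (a : Fin d → ZMod p) : φ (m • a) = φ a ^ m := by
  induction m with
  | zero => simp [h.zero]
  | succ m ih => rw [succ_nsmul, h, ih, pow_succ]

theorem Ad.mem [Fact p.Prime] (h : Ad φ) {H : Subgroup G} {c : Fin d → ZMod p}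
    (hc : ∀ u, c u ≠ 0 → φ (Pi.single u 1) ∈ H) : φ c ∈ H := by
  rw [← Finset.univ_sum_single c]
  refine Finset.sum_induction _ (fun a => φ a ∈ H) (fun a b ha hb => by rw [h]; exact mul_mem ha hb)
    (by rw [h.zero]; exact one_mem _) fun u _ => ?_
  by_cases k : c u = 0
  · rw [k, Pi.single_zero, h.zero]; exact one_mem _
  · have : (Pi.single u (c u) : Fin d → ZMod p) = (c u).val • Pi.single u 1 := by
      rw [← Pi.single_smul']; simp
    rw [this, h.nsmul]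
    exact pow_mem (hc u k) _

theorem exφ0 [Fact p.Prime] {A : Type u} [CommGroup A] (hp : ∀ x : A, x ^ p = 1) (b : Fin d → A) :
    ∃ φ : (Fin d → ZMod p) → A, Ad φ ∧ ∀ u, φ (Pi.single u 1) = b u := by
  refine ⟨fun c => ∏ u, b u ^ (c u).val, fun a c => ?_, fun u => ?_⟩
  · rw [← Finset.prod_mul_distrib]
    exact Finset.prod_congr rfl fun u _ => by rw [Pi.add_apply, ZMod.val_add, ← pow_eq_pow_mod _ (hp _), pow_add]
  · beta_reduce
    rw [Finset.prod_eq_single u (fun v _ hv => by simp [hv]) (by simp), Pi.single_eq_same, ZMod.val_one, pow_one]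

theorem exφ [Fact p.Prime] {E : Subgroup G} (hc : ∀ x ∈ E, ∀ y ∈ E, x * y = y * x) (hp : ∀ x ∈ E, x ^ p = 1) (b : Fin d → G)
    (hb : ∀ u, b u ∈ E) : ∃ φ : (Fin d → ZMod p) → G, Ad φ ∧ ∀ u, φ (Pi.single u 1) = b u := by
  letI : CommGroup E := { (inferInstance : Group E) with mul_comm := fun x y => Subtype.ext (hc _ x.2 _ y.2) }
  obtain ⟨φ, h1, h2⟩ := exφ0 (A := E) (fun x => Subtype.ext (hp _ x.2)) fun u => ⟨b u, hb u⟩
  exact ⟨fun c => φ c, fun a c => congrArg Subtype.val (h1 a c), fun u => congrArg Subtype.val (h2 u)⟩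

theorem exρ {E : Subgroup G} [hE : E.Normal] (h : Ad φ) (inj : Function.Injective φ) (mem : ∀ c, φ c ∈ E)
    (sur : ∀ g ∈ E, ∃ c, φ c = g) : ∃ ρ : G →* Mt p d, ∀ g c, φ ((ρ g).mulVec c) = g * φ c * g⁻¹ := by
  have : ∀ g, ∃ M : Mt p d, ∀ c, φ (M.mulVec c) = g * φ c * g⁻¹ := fun g => by
    choose T hT using fun c => sur _ (hE.conj_mem _ (mem c) g)
    refine ⟨LinearMap.toMatrix' ((AddMonoidHom.mk' T fun a c => inj ?_).toZModLinearMap p), fun c => ?_⟩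
    · rw [h, hT, hT, hT, h]; group
    · rw [LinearMap.toMatrix'_mulVec]; exact hT c
  choose R hR using this
  refine ⟨⟨⟨R, Matrix.ext_iff_mulVec.2 fun c => inj ?_⟩, fun a b => Matrix.ext_iff_mulVec.2 fun c => inj ?_⟩, hR⟩
  · rw [hR, Matrix.one_mulVec]; group
  · rw [← Matrix.mulVec_mulVec, hR, hR, hR]; group

theorem dec [Finite G] [Fact p.Prime] (h : Ch p n S Γ) {j : ℕ} (hx : x ∈ Γ j) (hx' : x ∉ Γ (j + 1)) (hy : y ∈ Γ j) :
    ∃ a : ℕ, (x ^ a)⁻¹ * y ∈ Γ (j + 1) := by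
  rw [← h.sup hx hx', sup_comm, CL.Grp.mem_sup_of_le_normalizer (zpowers_le.2 (h.norm _ (h.le _ hx)))] at hy
  obtain ⟨_, ha, e, he, rfl⟩ := hy
  obtain ⟨a, rfl⟩ := mem_powers_iff_mem_zpowers.2 ha
  exact ⟨a, by simpa using he⟩

theorem bimul {Q : Type*} [Group Q] {t s e y : Q} (c α : ℕ) (h1 : Commute t ⁅t, s⁆) (h2 : Commute s ⁅t, s⁆)
    (he : ∀ q, Commute e q) (hy : Commute t y) : ⁅t ^ c * e, s ^ α * y⁆ = ⁅t, s⁆ ^ (α * c) := by
  have e1 : ⁅t ^ c * e, s ^ α * y⁆ = t ^ c * (e * (s ^ α * y) * e⁻¹) * (t ^ c)⁻¹ * (s ^ α * y)⁻¹ := by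
    rw [commutatorElement_def]; group
  have e2 : t ^ c * (s ^ α * y) * (t ^ c)⁻¹ * (s ^ α * y)⁻¹ = t ^ c * s ^ α * (y * (t ^ c)⁻¹ * y⁻¹) * (s ^ α)⁻¹ := by group
  have e3 : ⁅t, s ^ α⁆ = ⁅t, s⁆ ^ α := CL.Grp.comm_pow_right h2 α
  rw [e1, (he _).mul_inv_cancel, e2, (hy.pow_left c).inv_left.symm.mul_inv_cancel, ← commutatorElement_def,
    CL.Grp.comm_pow_left (e3 ▸ h1.pow_right α), e3, pow_mul]

/-- the basis -/
def bb (s t : G) : ℕ → G
  | 0 => ⁅t, s⁆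
  | u + 1 => ⁅s, bb s t u⁆

theorem bb_mem (h : Ch p n S Γ) (sS : s ∈ S) (tk : t ∈ Γ k) : ∀ u, bb s t u ∈ Γ (k + 1 + u)
  | 0 => h.comm tk sS
  | u + 1 => comm_symm_mem (h.comm (bb_mem h sS tk u) sS)

theorem bb_not (h : Cs p n S Γ) (sS : s ∈ S) (sP : s ∉ Γ 1) (hk : 1 ≤ k) (tk : t ∈ Γ k) (tE : t ∉ Γ (k + 1)) :
    ∀ u, k + 1 + u < n → bb s t u ∉ Γ (k + 1 + u + 1)
  | 0, hu => h.sun k hk (by omega) t tk tE s sS sP
  | u + 1, hu => fun e => h.sun (k + 1 + u) (by omega) (by omega) _ (bb_mem h.toCh sS tk u)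
      (bb_not h sS sP hk tk tE u (by omega)) s sS sP (comm_symm_mem e)

variable [Finite G] [hp : Fact p.Prime]

theorem coord (h : Cs p n S Γ) (hk : 1 ≤ k) (hn : k + 1 + d = n) (hC : centralizer (Γ (k + 1) : Set G) = Γ (k + 1))
    (ex : ∀ x ∈ Γ (k + 1), x ^ p = 1) (sS : s ∈ S) (sP : s ∉ Γ 1) (tk : t ∈ Γ k) (tE : t ∉ Γ (k + 1)) :
    ∃ φ : (Fin d → ZMod p) → G, Ad φ ∧ (∀ u : Fin d, φ (Pi.single u 1) = bb s t u) ∧ Function.Injective φ ∧
      (∀ c, φ c ∈ Γ (k + 1)) ∧ (∀ g ∈ Γ (k + 1), ∃ c, φ c = g) ∧ ∀ x c, φ c ∈ Γ (k + 1 + x) → c ∈ Fl p d x := by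
  have bm := bb_mem h.toCh sS tk
  have bE : ∀ u, bb s t u ∈ Γ (k + 1) := fun u => h.anti (by omega) (bm u)
  obtain ⟨φ, ad, sg⟩ := exφ (d := d) (fun x hx y hy => hC.ge hy x hx) ex (fun u => bb s t u) fun u => bE u
  have mem : ∀ c, φ c ∈ Γ (k + 1) := fun c => ad.mem fun u _ => sg u ▸ bE u
  have sur : ∀ m x, x + m = d → ∀ g ∈ Γ (k + 1 + x), ∃ c ∈ Fl p d x, φ c = g := by
    intro m
    induction m with
    | zero =>
      intro x hx g hg
      rw [h.bot _ (by omega), mem_bot] at hg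
      exact ⟨0, zero_mem _, hg ▸ ad.zero⟩
    | succ m ih =>
      intro x hx g hg
      obtain ⟨a, ha⟩ := dec h.toCh (bm x) (bb_not h sS sP hk tk tE x (by omega)) hg
      obtain ⟨c, hc, e⟩ := ih (x + 1) (by omega) _ ha
      refine ⟨a • Pi.single ⟨x, by omega⟩ 1 + c, fun u hu => ?_, ?_⟩
      · rw [Pi.add_apply, hc u (by omega), Pi.smul_apply, Pi.single_eq_of_ne (fun e => by subst e; simp at hu)]
        simp
      · rw [ad, ad.nsmul, sg, e, mul_inv_cancel_left]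
  have sur0 : ∀ g ∈ Γ (k + 1), ∃ c, φ c = g := fun g hg => (sur d 0 (by omega) g hg).imp fun _ e => e.2
  have inj : Function.Injective φ := by
    have := (Nat.bijective_iff_surjective_and_card fun c => (⟨φ c, mem c⟩ : Γ (k + 1))).2
      ⟨fun g => (sur0 g g.2).imp fun _ e => Subtype.ext e, by
        rw [h.card (by omega), Nat.card_fun, Nat.card_zmod, Nat.card_eq_fintype_card, Fintype.card_fin]
        congr 1; omega⟩
    exact fun a c e => this.1 (Subtype.ext e)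
  refine ⟨φ, ad, sg, inj, mem, sur0, fun x c hc u hu => ?_⟩
  obtain ⟨c', hc', e⟩ := sur (d - (u + 1)) (u + 1) (by omega) _ (h.anti (by omega) hc)
  rw [← inj e]
  exact hc' u (by omega)

theorem core (h : Cs p n S Γ) (hs : ¬ p ∣ S.index) (hk : 1 ≤ k) (hd : 0 < d) (hn : k + 1 + d = n)
    (hE : pCore p G = Γ (k + 1)) (hC : centralizer (Γ (k + 1) : Set G) = Γ (k + 1))
    (ex : ∀ x ∈ Γ (k + 1), x ^ p = 1) (mx : ∀ L : Subgroup G, S ≤ L → L ≠ ⊤ → L ≤ normalizer (Γ 1 : Set G))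
    (sS : s ∈ S) (sP : s ∉ Γ 1) (tk : t ∈ Γ k) (tE : t ∉ Γ (k + 1))
    (cas : Γ 1 = Γ (k + 1) ⊔ zpowers t ∨ ∃ t' ∈ Γ 1, t = ⁅t', s⁆) :
    ∃ ρ : G →* Mt p d, Lin p d ρ (Γ (k + 1)) (Γ 1) S s t := by
  obtain ⟨φ, ad, sg, inj, mem, sur, fl⟩ := coord h hk hn hC ex sS sP tk tE
  haveI : (Γ (k + 1)).Normal := hE ▸ inferInstance
  obtain ⟨ρ, cj⟩ := exρ ad inj mem sur
  have bm := bb_mem h.toCh sS tk
  have EP : Γ (k + 1) ≤ Γ 1 := h.anti (by omega)
  have tS : t ∈ S := h.le _ tk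
  have ker : ∀ g, ρ g = 1 ↔ g ∈ Γ (k + 1) := fun g => by
    refine ⟨fun e => hC.le fun y hy => ?_, fun e => Matrix.ext_iff_mulVec.2 fun c => inj ?_⟩
    · obtain ⟨c, rfl⟩ := sur y hy
      have := cj g c
      rwa [e, Matrix.one_mulVec, eq_mul_inv_iff_mul_eq] at this
    · rw [cj, Matrix.one_mulVec, ← hC.ge e _ (mem c), mul_inv_cancel_right]
  have core : ∀ U : Subgroup G, U.Normal → IsPGroup p U → U ≤ Γ (k + 1) := fun U _ hU => hE ▸ CL.Grp.le_pCore hU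
  refine ⟨ρ, ?_, ker, EP, h.le 1, h.pg, hs, h.zero ▸ h.idx 0 (by omega), core, sS, sP, ?_, ?_, h.anti hk tk, tE, ?_, ?_,
    cas, mx⟩
  · by_contra k'
    obtain ⟨x, hx, hx'⟩ := h.ex (j := k + 1) (by omega)
    exact h.pw _ (by omega) (by omega) x hx hx' (ex x hx ▸ one_mem _)
  · refine Matrix.ext_of_mulVec_single fun v => inj ?_
    have e : φ ((Jm p d).mulVec (Pi.single v 1)) = bb s t (v + 1) := by
      by_cases l : (v : ℕ) + 1 < d
      · rw [← sg ⟨_, l⟩]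
        congr 1
        funext u
        simp [Jm, Pi.single_apply, Fin.ext_iff]
      · have := bm (v + 1)
        rw [h.bot _ (by omega), mem_bot] at this
        rw [this, ← ad.zero]
        congr 1
        funext u
        have : (u : ℕ) ≠ v + 1 := by omega
        simp [Jm, this]
    rw [cj, add_comm, Matrix.add_mulVec, ad, e, Matrix.one_mulVec, sg, bb, commutatorElement_def, inv_mul_cancel_right]
  · intro y hy u v huv
    by_cases hu : u < d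
    · by_cases hv : v < d
      · have : φ ((ρ y - 1).mulVec (Pi.single ⟨v, hv⟩ 1)) ∈ Γ (k + 1 + (v + 2)) := by
          rw [Matrix.sub_mulVec, ad.sub, cj, Matrix.one_mulVec, sg, ← commutatorElement_def]
          exact comm_symm_mem (h.sc (k + 1 + v) 1 (by omega) le_rfl (commutator_mem_commutator (bm v) hy))
        have := fl _ _ this ⟨u, hu⟩ huv
        rw [en_of_lt _ hu hv]
        simpa using this
      · exact en_right _ _ (by omega)
    · exact en_left _ (by omega) _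
  · intro y hy
    have := (ker _).2 (h.comm tk hy)
    show ρ t * ρ y = ρ y * ρ t
    rw [← map_mul, CL.Grp.mul_eq_comm_mul_mul, map_mul, this, one_mul, map_mul]
  · intro g hg
    have g1 : normalizer (S : Set G) ≤ normalizer (Γ 1 : Set G) := mx _ le_normalizer fun e =>
      sP (EP (core S (normalizer_eq_top_iff.1 e) h.pg sS))
    have gj : ∀ j, 1 ≤ j → normalizer (S : Set G) ≤ normalizer (Γ j : Set G) := fun j hj => by
      induction j, hj using Nat.le_induction with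
      | base => exact g1
      | succ j hj ih => rw [← h.cm j hj]; exact CL.Grp.le_normalizer_commutator' ih le_rfl
    obtain ⟨α, hα⟩ := dec h.toCh (j := 0) (h.zero ▸ sS) sP (h.zero ▸ (mem_normalizer_iff.1 hg s).1 sS)
    obtain ⟨c, hc⟩ := dec h.toCh tk tE ((mem_normalizer_iff.1 (gj k hk hg) t).1 tk)
    refine ⟨α, c, hα, ?_, ?_⟩
    · rw [← mul_inv_cancel_left (t ^ c) (g * t * g⁻¹), map_mul, (ker _).2 hc, mul_one, map_pow]
    haveI : ((Γ (k + 2)).subgroupOf S).Normal := (normal_subgroupOf_iff_le_normalizer (h.le _)).2 (h.norm _)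
    let π := QuotientGroup.mk' ((Γ (k + 2)).subgroupOf S)
    have cm : ∀ a b : S, ⁅(a : G), (b : G)⁆ ∈ Γ (k + 2) → Commute (π a) (π b) := fun a b hab =>
      commutatorElement_eq_one_iff_commute.1 (by
        rw [← map_commutatorElement]; exact (QuotientGroup.eq_one_iff _).2 hab)
    have c0 : ∀ a : S, Commute (π a) ⁅π ⟨t, tS⟩, π ⟨s, sS⟩⁆ := fun a => by
      rw [← map_commutatorElement]
      exact (cm _ a (h.comm (bm 0) a.2)).symm
    have := bimul (e := π ⟨_, h.le _ hc⟩) (y := π ⟨_, h.le _ hα⟩) c α (c0 _) (c0 _)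
      (fun q => by
        obtain ⟨q, rfl⟩ := QuotientGroup.mk'_surjective _ q
        exact cm _ q (h.comm hc q.2))
      (cm _ _ (h.sc k 1 hk le_rfl (commutator_mem_commutator tk hα)))
    simp only [← map_pow, ← map_mul, ← map_commutatorElement] at this
    have m : ⁅t ^ c * ((t ^ c)⁻¹ * (g * t * g⁻¹)), s ^ α * ((s ^ α)⁻¹ * (g * s * g⁻¹))⁆ / ⁅t, s⁆ ^ (α * c) ∈ Γ (k + 2) :=
      (QuotientGroup.eq_iff_div_mem (N := (Γ (k + 2)).subgroupOf S)).1 this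
    rw [mul_inv_cancel_left, mul_inv_cancel_left, ← conjugate_commutatorElement, div_eq_mul_inv] at m
    have : φ ((ρ g).mulVec (Pi.single ⟨0, hd⟩ 1) - (α * c) • Pi.single ⟨0, hd⟩ 1) ∈ Γ (k + 1 + 1) := by
      rw [ad.sub, cj, ad.nsmul, sg]; exact m
    have := fl _ _ this ⟨0, hd⟩ Nat.zero_lt_one
    rw [en_of_lt _ hd hd]
    simpa [sub_eq_zero] using this

end CO

theorem coThm : CoThm.{u} := by
  intro G _ _ p n i _ S Γ h hs hi hn hE hC ex mx
  obtain ⟨k, rfl⟩ : ∃ k, i = k + 1 := ⟨i - 1, by omega⟩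
  obtain ⟨s, sS, sP⟩ := h.ex (j := 0) (by omega)
  rw [h.zero] at sS
  obtain ⟨t, tk, tE, cas⟩ : ∃ t ∈ Γ k, t ∉ Γ (k + 1) ∧ (Γ 1 = Γ (k + 1) ⊔ zpowers t ∨ ∃ t' ∈ Γ 1, t = ⁅t', s⁆) := by
    by_cases e : k = 1
    · subst e
      obtain ⟨t, ht, ht'⟩ := h.ex (j := 1) (by omega)
      exact ⟨t, ht, ht', .inl (h.sup ht ht').symm⟩
    · obtain ⟨j, rfl⟩ : ∃ j, k = j + 1 := ⟨k - 1, by omega⟩
      obtain ⟨t, ht, ht'⟩ := h.ex (j := j) (by omega)
      exact ⟨⁅t, s⁆, h.comm ht sS, h.sun j (by omega) (by omega) t ht ht' s sS sP, .inr ⟨t, h.anti (by omega) ht, rfl⟩⟩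
  obtain ⟨ρ, L⟩ := CO.core (d := n - (k + 1)) h hs (by omega) (by omega) (by omega) hE hC ex mx sS sP tk tE cas
  exact ⟨ρ, s, t, L⟩

end CL.MX
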