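/-
Project MX: the exceptional case (commuting transvections).
-/
import Cfsg.Agent.MX.Ch

set_option autoImplicit false

namespace CL.MX

open Subgroup Cfsg
open scoped commutatorElement

universe u

namespace EX

variable {G : Type u} [Group G] {p n i : ℕ} {S : Subgroup G} {Γ : ℕ → Subgroup G} [Fact p.Prime]

theorem eq_zpowers (h : Ch p n S Γ) (hn : 1 ≤ n) {z : G} (hz : z ∈ Γ (n - 1)) (h1 : z ≠ 1) : zpowers z = Γ (n - 1) := by
  have e : Γ (n - 1 + 1) = ⊥ := h.bot _ (by omega)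
  rw [← h.sup hz (by rwa [e, mem_bot]), e, bot_sup_eq]

theorem exists_comm (h : Ch p n S Γ) (h2 : 2 ≤ i) (hi : i ≤ n) (hc : ⁅Γ i, Γ (i - 2)⁆ ≤ Γ (n - 1)) {e : G}
    (he : e ∈ Γ i) : ∃ x ∈ Γ (i - 2), x ∉ Γ i ∧ Commute e x := by
  obtain ⟨a, ha, ha'⟩ := h.ex (j := i - 2) (by omega)
  obtain ⟨b, hb, hb'⟩ := h.ex (j := i - 1) (by omega)
  rw [show i - 2 + 1 = i - 1 by omega] at ha'
  rw [show i - 1 + 1 = i by omega] at hb'
  have hbA : b ∈ Γ (i - 2) := h.anti (by omega) hb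
  by_cases k : ⁅e, b⁆ = 1
  · exact ⟨b, hbA, hb', commutatorElement_eq_one_iff_commute.1 k⟩
  have hZ : ∀ x ∈ Γ (i - 2), ⁅e, x⁆ ∈ Γ (n - 1) := fun x hx => hc (commutator_mem_commutator he hx)
  let φ : Γ (i - 2) →* G := MonoidHom.mk' (fun x => ⁅e, (x : G)⁆) fun x y => by
    have := (h.central (hZ y y.2) (h.le _ (inv_mem x.2))).eq
    calc ⁅e, ((x * y : Γ (i - 2)) : G)⁆ = e * x * e⁻¹ * (⁅e, (y : G)⁆ * (x : G)⁻¹) := by
          simp only [commutatorElement_def, coe_mul]; group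
      _ = _ := by rw [this]; simp only [commutatorElement_def]; group
  obtain ⟨m, hm⟩ := (eq_zpowers h (by omega) (hZ b hbA) k).ge (hZ a ha)
  refine ⟨a * (b ^ m)⁻¹, mul_mem ha (inv_mem (zpow_mem hbA m)), fun l => ha' ?_,
    commutatorElement_eq_one_iff_commute.1 ?_⟩
  · exact (mul_mem_cancel_right (inv_mem (zpow_mem hb m))).1 (h.anti (by omega) l)
  · have : φ (⟨a, ha⟩ * (⟨b, hbA⟩ ^ m)⁻¹) = 1 := by
      rw [map_mul, map_inv, map_zpow, mul_inv_eq_one]
      exact hm.symm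
    exact this

end EX

theorem exThm : ExThm.{u} := fun G _ _ p n i _ S M Γ h h4 hne h2 hN hC hS => by
  have hE : ∀ a ∈ Γ i, ∀ b ∈ Γ i, a * b = b * a := fun a ha b hb => (hC.ge hb) a ha
  have hi : i < n := by
    by_contra k
    obtain ⟨x, -, hx⟩ := h.ex (j := 0) (by omega)
    have e := h.bot i (by omega)
    have : x ∈ Γ i := hC.le fun y hy => by rw [e] at hy; rw [show y = 1 from hy, one_mul, mul_one]
    exact hx (h.anti (by omega) this)
  have h2i : n ≤ 2 * i := by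
    by_contra k
    refine hne ((h.comm_last_iff (j := i) (by omega) (by omega)).1 (commutator_eq_bot_iff_le_centralizer.2 ?_))
    exact (h.anti (by omega)).trans hC.ge
  have h3 : 3 ≤ i := by
    by_contra k
    obtain rfl : n = 4 := by omega
    exact hne (le_bot_iff.1 (h.c2.trans (h.bot 4 le_rfl).le))
  have hc : ⁅Γ i, Γ (i - 2)⁆ ≤ Γ (n - 1) := by
    by_cases k : n = 2 * i
    · exact (h.cc _ _ (by omega) (by omega) (by omega)).trans (h.anti (by omega))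
    · exact (h.cc0 _ _).trans (h.anti (by omega))
  have hZE : Γ (n - 1) ≤ Γ i := h.anti (by omega)
  obtain ⟨z, hz, hz'⟩ := h.ex (j := n - 1) (by omega)
  have hZ := EX.eq_zpowers h (by omega) hz fun e => hz' (e ▸ one_mem _)
  refine hS.ne (eq_top_iff.2 fun g _ => ?_)
  obtain ⟨x, hx, hx', cx⟩ := EX.exists_comm h h2 hi.le hc (hN.conj_mem z (hZE hz) g)
  obtain ⟨y, hy, hy', cy⟩ := EX.exists_comm h h2 hi.le hc (hN.conj_mem z (hZE hz) g⁻¹)
  have c1 : ∀ w ∈ Γ (n - 1), g * y * g⁻¹ * w = w * (g * y * g⁻¹) := fun w hw => by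
    obtain ⟨m, rfl⟩ := hZ.ge hw
    refine (Commute.zpow_right ?_ m).eq
    have := cy.eq
    calc g * y * g⁻¹ * z = g * (y * (g⁻¹ * z * g⁻¹⁻¹)) * g⁻¹ := by group
      _ = _ := by rw [← this]; group
  have c2 : ∀ w ∈ Γ (n - 1), x * (g * w * g⁻¹) = g * w * g⁻¹ * x := fun w hw => by
    obtain ⟨m, rfl⟩ := hZ.ge hw
    simp only [← conj_zpow]
    exact (cx.symm.zpow_right m).eq
  have hw : (g * y * g⁻¹ * x)⁻¹ * (x * (g * y * g⁻¹)) ∈ Γ i := hC.le fun v hv => by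
    have a1 : ⁅x, v⁆ ∈ Γ (n - 1) := comm_symm_mem (hc (commutator_mem_commutator hv hx))
    have a2 : ⁅y, g⁻¹ * v * g⁻¹⁻¹⁆ ∈ Γ (n - 1) :=
      comm_symm_mem (hc (commutator_mem_commutator (hN.conj_mem v hv g⁻¹) hy))
    have e1 : x * v = ⁅x, v⁆ * v * x := by rw [commutatorElement_def]; group
    have e2 : g * y * g⁻¹ * v = g * ⁅y, g⁻¹ * v * g⁻¹⁻¹⁆ * g⁻¹ * v * (g * y * g⁻¹) := by
      rw [commutatorElement_def]; group
    have e3 := c1 _ a1
    have e4 := c2 _ a2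
    have e5 := hE _ (hZE a1) _ (hN.conj_mem _ (hZE a2) g)
    generalize ⁅x, v⁆ = z1 at *
    generalize g * ⁅y, g⁻¹ * v * g⁻¹⁻¹⁆ * g⁻¹ = z2 at *
    generalize g * y * g⁻¹ = x' at *
    have f1 : x * x' * v = z1 * z2 * v * (x * x') := by
      calc x * x' * v = x * (x' * v) := by group
        _ = x * z2 * v * x' := by rw [e2]; group
        _ = z2 * (x * v) * x' := by rw [e4]; group
        _ = z2 * z1 * v * (x * x') := by rw [e1]; group
        _ = _ := by rw [e5]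
    have f2 : x' * x * v = z1 * z2 * v * (x' * x) := by
      calc x' * x * v = x' * (x * v) := by group
        _ = x' * z1 * v * x := by rw [e1]; group
        _ = z1 * (x' * v) * x := by rw [e3]; group
        _ = _ := by rw [e2]; group
    calc v * ((x' * x)⁻¹ * (x * x')) = (x' * x)⁻¹ * (x' * x * v) * ((x' * x)⁻¹ * (x * x')) := by group
      _ = (x' * x)⁻¹ * (z1 * z2 * v * (x * x')) := by rw [f2]; group
      _ = _ := by rw [← f1]; group
  have hm : (g * y * g⁻¹)⁻¹ ∈ M := hS.cj x (h.le _ hx) hx' _ (by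
    have := hS.le (mul_mem (h.le _ hx) (h.le _ hw))
    rwa [show x * ((g * y * g⁻¹ * x)⁻¹ * (x * (g * y * g⁻¹))) = (g * y * g⁻¹)⁻¹ * x * (g * y * g⁻¹)⁻¹⁻¹ by group] at this)
  exact hS.cj y (h.le _ hy) hy' g (inv_mem_iff.1 hm)

end CL.MX
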