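/-
Project MX: local models of a saturated fusion system at a fully normalized centric subgroup.
-/
import Cfsg.Agent.MX.Ch
import Cfsg.Agent.Fus.SubModel
import Cfsg.Agent.Fus.EssExt

set_option autoImplicit false

namespace CL.MX

open Subgroup Cfsg Cfsg.FusionSystem CL.Fus

universe u v

variable {Ω : Type u} [Group Ω] {S Q : Subgroup Ω} {p : ℕ} {F : FusionSystem S}

/-- `G` is a model of the normalizer system of `Q` -/
structure LM (p : ℕ) (F : FusionSystem S) (Q : Subgroup Ω) {G : Type v} [Group G] (i : normalizerIn S Q →* G)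
    (π : G →* MulAut Q) : Prop where
  inj : Function.Injective i
  idx : ¬ p ∣ i.range.index
  nrm : (img (Fus.ext i) Q).Normal
  cen : centralizer (img (Fus.ext i) Q : Set G) ≤ img (Fus.ext i) Q
  rng : π.range = F.autGroup Q
  act : ∀ g, ∀ x ∈ Q, Fus.ext i (autFun (π g) x) = g * Fus.ext i x * g⁻¹
  mor : ∀ P ≤ normalizerIn S Q, ∀ f g, (∀ x ∈ P, f x ∈ normalizerIn S Q) →
    (∀ x ∈ P, Fus.ext i (f x) = g * Fus.ext i x * g⁻¹) → Mor F P f

variable [Finite S] [Fact p.Prime]

theorem exists_loc (hS : IsPGroup p S) (hF : F.IsSaturated p) (hQ : F.IsFullyNormalized Q) (hc : F.IsCentric Q) :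
    ∃ (G : Type u) (_ : Group G) (_ : Finite G) (i : normalizerIn S Q →* G) (π : G →* MulAut Q), LM p F Q i π := by
  have hN := isNormalizerSystem_normalizerSystem F hQ.1
  have hL := le_normalizerIn hQ.1
  obtain ⟨G, _, i, h⟩ := exists_model (hS.to_le (normalizerIn_le S Q)) (IsNormalizerSystem.isConstrained hS hF hQ hc hN)
  have := h.1
  have n := IsNormalizerSystem.isNormal hN hQ.1
  have := IsModel.normal_img h n
  obtain ⟨η, k⟩ := exists_gIso_of_injective i h.2.1.1
  have act : ∀ g, ∀ x ∈ Q, Fus.ext i (autFun (MulAut.congr (k.equiv hL rfl).symm (MulAut.conjNormal g)) x) =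
      g * Fus.ext i x * g⁻¹ := fun g x hx => by
    rw [autFun_apply _ hx, ← k.equiv_apply hL rfl, MulAut.congr_apply]
    simp [k.equiv_apply]
  refine ⟨G, _, h.1, i, (MulAut.congr (k.equiv hL rfl).symm).toMonoidHom.comp MulAut.conjNormal, h.2.1.1,
    relIndex_top_right i.range ▸ (IsModel.sylIn h).not_dvd_relIndex, ‹_›,
    IsModel.centralizer_img_le h n fun _ hx => centralizerIn_le_of_centric hc ⟨hx.1.1, hx.2⟩, ?_, act,
    fun P hP f g h1 h2 => ((IsRealizedBy.mor_iff h.2.1).2 ⟨hP, h1, g, h2⟩).of_subsystem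
      (IsNormalizerSystem.isSubsystemOf hN)⟩
  ext α
  rw [← IsNormalizerSystem.autGroup_eq hN hQ.1, mem_autGroup_iff hL, IsRealizedBy.mor_iff h.2.1]
  refine ⟨?_, fun ⟨_, _, g, e⟩ => ⟨g, aut_ext fun x hx => k.injOn (hL (autFun_mem _ hx)) (hL (autFun_mem _ hx))
    ((act g x hx).trans (e x hx).symm)⟩⟩
  rintro ⟨g, rfl⟩
  exact ⟨hL, fun x hx => hL (autFun_mem _ hx), g, act g⟩

variable {G : Type v} [Group G] {i : normalizerIn S Q →* G} {π : G →* MulAut Q}

omit [Finite S] [Fact p.Prime] in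
theorem LM.pi_i (h : LM p F Q i π) (hQ : Q ≤ S) (a : normalizerIn S Q) : π (i a) = conjAut Q a.2.2 :=
  have hL := le_normalizerIn hQ
  aut_ext fun x hx => ext_injOn h.inj (hL (autFun_mem _ hx)) (hL (autFun_mem _ hx)) (by
    rw [h.act _ x hx, autFun_conjAut _ hx, (homOn_ext i).map_conj a.2 (hL hx), ext_coe])

theorem LM.se (h : LM p F Q i π) (hS : IsPGroup p S) (hF : F.IsSaturated p) (hE : F.IsEssential p Q) :
    SE (img (Fus.ext i) Q) i.range ((extAut F Q).comap π) := by
  refine ⟨?_, fun e => ?_, ?_⟩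
  · rintro _ ⟨a, rfl⟩
    rw [mem_comap, h.pi_i hE.1.1]
    exact IsEssential.conjAut_mem_extAut hS hF hE a.2.1 _
  · obtain ⟨γ, h1, h2⟩ := IsEssential.exists_notMem_extAut hS hF hE
    obtain ⟨g, rfl⟩ := h.rng.ge h1
    exact h2 (e.ge (mem_top g))
  · rintro _ ⟨a, rfl⟩ ha g k
    rw [mem_comap, map_mul, map_mul, map_inv, h.pi_i hE.1.1] at k
    refine IsEssential.mem_extAut_of_conj hS hF hE (IsEssential.conjAut_mem_extAut hS hF hE a.2.1 _)
      (IsEssential.conjAut_notMem_Inn hE a.2.1 _ fun c => ha (ext_coe i a ▸ mem_img_of_mem _ c)) ?_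
      (h.rng.le ⟨g, rfl⟩) k
    obtain ⟨m, hm⟩ := hS.to_le (normalizerIn_le S Q) a
    exact ⟨m, by rw [← h.pi_i hE.1.1, ← map_pow, ← map_pow, hm, map_one, map_one]⟩

theorem LM.pCore_eq [Finite G] (h : LM p F Q i π) (hS : IsPGroup p S) (hF : F.IsSaturated p) (hE : F.IsEssential p Q) :
    pCore p G = img (Fus.ext i) Q := by
  have s := h.se hS hF hE
  have r : IsPGroup p i.range := (hS.to_le (normalizerIn_le S Q)).of_surjective _ i.rangeRestrict_surjective
  have l : pCore p G ≤ i.range := (sylIn_of_not_dvd le_top r (relIndex_top_right i.range ▸ h.idx)).le_of_normalizes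
    (CL.Grp.pCore_isPGroup p G) le_top le_normalizer_of_normal
  have := h.nrm
  refine le_antisymm (fun x hx => by_contra fun k => s.ne (eq_top_iff.2 fun g _ =>
    s.cj x (l hx) k g (s.le (l (Normal.conj_mem inferInstance x hx g))))) (CL.Grp.le_pCore (r.to_le ?_))
  exact img_le_iff.2 fun x hx => ext_mem_range i (le_normalizerIn hE.1.1 hx)

theorem exists_loc_ess (hS : IsPGroup p S) (hF : F.IsSaturated p) (hE : F.IsEssential p Q) :
    ∃ (G : Type u) (_ : Group G) (_ : Finite G) (i : normalizerIn S Q →* G) (π : G →* MulAut Q), LM p F Q i π ∧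
      pCore p G = img (Fus.ext i) Q ∧ SE (img (Fus.ext i) Q) i.range ((extAut F Q).comap π) :=
  let ⟨G, _, _, i, π, h⟩ := exists_loc hS hF hE.2.1 hE.1
  ⟨G, _, ‹_›, i, π, h, h.pCore_eq hS hF hE, h.se hS hF hE⟩

end CL.MX
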