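/-
Project MX: normal essential subgroups of a group of maximal class, from the group form.
-/
import Cfsg.Agent.MX.Loc
import Cfsg.Agent.Fus.OrdFive

set_option autoImplicit false

namespace CL.MX

open Subgroup Cfsg Cfsg.FusionSystem CL.Fus CL.Fgs
open scoped commutatorElement

universe u

namespace FF
variable {Ω : Type u} [Group Ω] {S E : Subgroup Ω} [Finite S] {p n : ℕ} [hp : Fact p.Prime] {Γ : ℕ → Subgroup Ω}
  {F : FusionSystem S}

theorem zSer_eq (h : Ch p n S Γ) (m : MaxCl p n S) (h4 : 4 ≤ n) : Γ (n - 2) = zSer S 2 := by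
  have := finite_of_le (zSer_le S 2)
  refine eq_of_le_of_card_ge (fun x hx => ⟨⟨x, h.le _ hx⟩, Subgroup.mem_upperCentralSeries_succ_iff.2 fun y => ?_, rfl⟩) ?_
  · rw [Subgroup.upperCentralSeries_one, Subgroup.mem_center_iff]
    exact fun z => Subtype.ext (h.central (show n - 2 + 1 = n - 1 by omega ▸ h.comm hx y.2) z.2).symm.eq
  · rw [zSer, card_map_of_injective S.subtype_injective, card_upperCentralSeries_two m h4, h.card (by omega),
      show n - (n - 2) = 2 by omega]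

theorem extra (hS : IsPGroup p S) (hF : F.IsSaturated p) (hE : F.IsEssential p E) (h2 : p ≠ 2)
    (hk : Nat.card E = p ^ 3) (ab : ¬ ∀ x ∈ E, ∀ y ∈ E, x * y = y * x) : IsExtraspecial p E ∧ Monoid.exponent E = p := by
  have := finite_of_le hE.1.1
  obtain ⟨h1, h3⟩ := IsEssential.frat_of_cube hS hF hE hk ab
  have h6 := pow_eq_one_of_irred (F := F) h2 (hS.to_le hE.1.1) h1 h3.ge (fun x hx => pow_eq_one_of_card h1 hx)
    (fun C hC h => IsEssential.eq_or_eq hS hF hE (by rw [hk, h1, pow_succ]) hC h) ab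
  refine ⟨isExtraspecial_of_card_eq_cube hk fun c => ab fun x hx y hy =>
    congrArg Subtype.val (c.is_comm.comm ⟨x, hx⟩ ⟨y, hy⟩), ?_⟩
  refine ((Nat.dvd_prime hp.out).1 (Monoid.exponent_dvd_of_forall_pow_eq_one fun x : E =>
    Subtype.ext (h6 x x.2))).resolve_left fun c => ab fun x hx y hy => ?_
  have := Monoid.exp_eq_one_iff.1 c
  exact congrArg Subtype.val (Subsingleton.elim (⟨x * y, mul_mem hx hy⟩ : E) ⟨y * x, mul_mem hy hx⟩)

/-- the group form, pulled back to the fusion system -/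
theorem pull (h2 : ThmB.{u}) (hF : F.IsSaturated p) (hE : F.IsEssential p E) (hN : S ≤ normalizer (E : Set Ω))
    (h : Ch p n S Γ) (h4 : 4 ≤ n) :
    E.relIndex S = p ∧ (E = Γ 1 ∨ E = S ⊓ centralizer (Γ (n - 2) : Set Ω) ∨ n = 4) := by
  obtain ⟨G, _, _, i, π, l, c, s⟩ := exists_loc_ess h.pg hF hE
  have hL : S ≤ normalizerIn S E := le_inf le_rfl hN
  have hES := hE.1.1
  obtain ⟨η, k⟩ := exists_gIso_of_injective i l.inj
  have r : img (Fus.ext i) S = i.range := by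
    rw [img_ext_of_le i hL, subgroupOf_eq_top.2 (normalizerIn_le S E), MonoidHom.range_eq_map]
  have ch := (h.subgroupOf hL).map i (m := n) (by
    rw [(MonoidHom.ker_eq_bot_iff i).2 l.inj, inf_bot_eq, h.bot n le_rfl, bot_subgroupOf]) le_rfl
  rw [← img_ext_of_le i hL, r] at ch
  obtain ⟨a, b⟩ := h2 G p n _ _ _ ch l.idx h4 (c ▸ l.cen) (by
    rw [c, ← r, Ne, k.img_inj (hES.trans hL) hL]; exact (IsEssential.lt_top h.pg hF hE).ne) (c ▸ s)
  rw [c, ← r] at a b
  simp only [← img_ext_of_le i ((h.le _).trans hL)] at b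
  refine ⟨?_, b.imp (k.img_inj (hES.trans hL) ((h.le _).trans hL)).1 (Or.imp_left fun e => ?_)⟩
  · rwa [img_ext_of_le i hL, img_ext_of_le i (hES.trans hL), relIndex_map_map_of_injective _ _ l.inj,
      relIndex_subgroupOf hL] at a
  · exact (k.img_inj (hES.trans hL) (inf_le_left.trans hL)).1 (e.trans (k.img_centralizerIn' hL ((h.le _).trans hL)).symm)

end FF

theorem s5269_of (h1 : ChThm.{u}) (h2 : ThmB.{u}) {Ω : Type u} [Group Ω] {S : Subgroup Ω} [Finite S] (p : ℕ)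
    [Fact p.Prime] (hS : IsPGroup p ↥S) (n : ℕ) (hn : Nat.card S = p ^ n) (h4 : 4 ≤ n)
    (hmax : Subgroup.lowerCentralSeries S (n - 2) ≠ ⊥) (F : Cfsg.FusionSystem S) (hF : F.IsSaturated p) (hp : 5 ≤ p)
    (Γ₁ : Subgroup Ω) (hΓ₁ : ∀ x : Ω, x ∈ Γ₁ ↔ x ∈ S ∧ ∀ y ∈ Subgroup.lowerCentralSeries S 1,
      x * y * x⁻¹ * y⁻¹ ∈ Subgroup.lowerCentralSeries S 3) (E : Subgroup Ω) (hE : F.IsEssential p E)
    (hEn : (E.subgroupOf S).Normal) : (E.subgroupOf S).index = p ∧ (E = Γ₁ ∨ E = (S ⊓ Subgroup.centralizer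
      (((Subgroup.upperCentralSeries ↥S 2).map S.subtype) : Set Ω)) ∨
      (n = 4 ∧ Nat.card ↥E = p ^ 3 ∧ Cfsg.IsExtraspecial p ↥E ∧ Monoid.exponent ↥E = p)) := by
  have pr : p.Prime := Fact.out
  have hES := hE.1.1
  have m := maxCl_of_ne_bot hn (by omega) hmax
  obtain ⟨Γ, h, e1, e2⟩ := h1 Ω p n S (by omega) h4 m
  obtain rfl : Γ₁ = Γ 1 := by
    ext x
    rw [hΓ₁, e1, ← top_subtype_lowerCentralSeries, ← top_subtype_lowerCentralSeries S 3]
    refine ⟨fun ⟨a, b⟩ => ⟨⟨x, a⟩, mem_twoStep.2 fun y hy => comm_symm_mem ?_, rfl⟩, ?_⟩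
    · exact (mem_map_iff_mem S.subtype_injective).1 (b y (mem_map_of_mem _ hy))
    · rintro ⟨x, hx, rfl⟩
      refine ⟨x.2, ?_⟩
      rintro _ ⟨y, hy, rfl⟩
      exact mem_map_of_mem S.subtype (comm_symm_mem (mem_twoStep.1 hx y hy))
  obtain ⟨a, b⟩ := FF.pull h2 hF hE ((normal_subgroupOf_iff_le_normalizer hES).1 hEn) h h4
  rw [FF.zSer_eq h m h4] at b
  refine ⟨a, ?_⟩
  by_cases c : E = Γ 1
  · exact .inl c
  refine .inr ((b.resolve_left c).imp_right fun d => ?_)
  have hk : Nat.card E = p ^ 3 := by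
    have := (E.subgroupOf S).card_mul_index
    rw [Nat.card_congr (subgroupOfEquivOfLe hES).toEquiv, ← relIndex, a, hn, d, pow_succ] at this
    exact Nat.eq_of_mul_eq_mul_right pr.pos this
  refine ⟨d, hk, FF.extra hS hF hE (by omega) hk fun ab => c ?_⟩
  have l : S.lowerCentralSeries 1 ≤ E := by
    have := isCyclic_of_prime_card (p := p) (show Nat.card (S ⧸ E.subgroupOf S) = p from a)
    rw [← top_subtype_lowerCentralSeries, ← map_subgroupOf_eq_of_le hES]
    exact map_mono (Normal.quotient_commutative_iff_commutator_le.1 inferInstance)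
  refine ((CL.Grp.eq_or_eq_of_relIndex_prime (fun x hx => (hΓ₁ x).2 ⟨hES hx, fun y hy => ?_⟩) (h.le 1)
    (a ▸ pr)).resolve_right fun e => pr.one_lt.ne' ?_).symm
  · rw [ab x hx y (l hy), mul_inv_cancel_right, mul_inv_cancel]
    exact one_mem _
  · rw [← h.idx 0 (by omega), h.zero, zero_add, e, relIndex_self]

end CL.MX
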