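/-
Project MX: sums over cosets collapse along regular orbits.
-/
import Cfsg.Agent.MX.Defs

set_option autoImplicit false

namespace CL.MX

open Subgroup Cfsg
open scoped commutatorElement

universe u

theorem orb_sum {Om M I : Type*} [Fintype I] [AddCommMonoid M] [DecidableEq Om] (C : Finset Om) (F : Om → M)
    (q : I → Om → Om) (hmem : ∀ w ∈ C, ∀ j, q j w ∈ C) (hinj : ∀ w ∈ C, Function.Injective (fun j => q j w))
    (hself : ∀ w ∈ C, ∃ j, q j w = w) (horb : ∀ w ∈ C, ∀ w' ∈ C, ∀ i j, q i w' = q j w → ∃ l, q l w = w')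
    (h0 : ∀ w ∈ C, ∑ j, F (q j w) = 0) : ∑ w ∈ C, F w = 0 := by
  induction C using Finset.strongInduction with
  | H C ih =>
    rcases C.eq_empty_or_nonempty with rfl | ⟨w, hw⟩
    · simp
    have sub : Finset.univ.image (fun j => q j w) ⊆ C := fun x hx => by
      obtain ⟨j, -, rfl⟩ := Finset.mem_image.1 hx
      exact hmem w hw j
    have wO : w ∈ Finset.univ.image (fun j => q j w) := by
      obtain ⟨j, e⟩ := hself w hw
      exact Finset.mem_image.2 ⟨j, Finset.mem_univ _, e⟩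
    rw [← Finset.sum_sdiff sub, Finset.sum_image fun a _ b _ e => hinj w hw e, h0 w hw, add_zero]
    have le : ∀ x ∈ C \ Finset.univ.image (fun j => q j w), x ∈ C := fun x hx => (Finset.mem_sdiff.1 hx).1
    refine ih _ (Finset.sdiff_ssubset sub ⟨w, wO⟩) (fun x hx i => ?_) (fun x hx => hinj x (le x hx))
      (fun x hx => hself x (le x hx)) (fun x hx x' hx' => horb x (le x hx) x' (le x' hx')) fun x hx => h0 x (le x hx)
    refine Finset.mem_sdiff.2 ⟨hmem x (le x hx) i, fun k => ?_⟩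
    obtain ⟨j, -, e⟩ := Finset.mem_image.1 k
    obtain ⟨l, e'⟩ := horb w hw x (le x hx) i j e.symm
    exact (Finset.mem_sdiff.1 hx).2 (Finset.mem_image.2 ⟨l, Finset.mem_univ _, e'⟩)

namespace SM

theorem smul_eq {G : Type u} [Group G] {H : Subgroup G} (k : G) (ω : G ⧸ H) : k • ω = ((k * ω.out : G) : G ⧸ H) := by
  conv_lhs => rw [← QuotientGroup.out_eq' ω]
  rfl

/-- the general form -/
theorem sm_orb {G : Type u} [Group G] [Finite G] {M I : Type} [AddCommGroup M] [Fintype I] {H B L : Subgroup G}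
    (x : I → G) (o : I) {F : G → M} (hHB : H ≤ B) (hBL : B ≤ L) (hx : ∀ i, x i ∈ B) (ho : x o = 1)
    (hsub : ∀ i j, ∃ l, (l = o → i = j) ∧ ∀ g ∈ L, g⁻¹ * ((x l)⁻¹ * ((x i)⁻¹ * x j)) * g ∈ H)
    (hfree : ∀ g ∈ L, g ∉ B → ∀ l, g⁻¹ * x l * g ∈ H → l = o) (hF : RI H L F)
    (h0 : ∀ g ∈ L, ∑ i, F (x i * g) = 0) : sm H L F = sm H B F := by
  classical
  letI := Fintype.ofFinite (G ⧸ H)
  have hHL := hHB.trans hBL
  unfold sm
  rw [← Finset.sum_filter_add_sum_filter_not _ (fun ω : G ⧸ H => ω.out ∈ B), Finset.filter_filter, Finset.filter_filter]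
  have e1 : (Finset.univ.filter fun ω : G ⧸ H => ω.out ∈ L ∧ ω.out ∈ B) = Finset.univ.filter fun ω : G ⧸ H => ω.out ∈ B :=
    Finset.filter_congr fun ω _ => ⟨fun h => h.2, fun h => ⟨hBL h, h⟩⟩
  rw [e1, orb_sum (Finset.univ.filter fun ω : G ⧸ H => ω.out ∈ L ∧ ¬ ω.out ∈ B) (fun ω => F ω.out)
    (fun i ω => x i • ω), add_zero]
  · intro w hw i
    simp only [Finset.mem_filter, Finset.mem_univ, true_and] at hw ⊢
    rw [smul_eq, out_mem_iff hHL, out_mem_iff hHB, L.mul_mem_cancel_left (hBL (hx i)), B.mul_mem_cancel_left (hx i)]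
    exact hw
  · intro w hw i j e
    simp only [Finset.mem_filter, Finset.mem_univ, true_and] at hw
    simp only [smul_eq] at e
    obtain ⟨l, hl, k⟩ := hsub i j
    refine hl (hfree _ hw.1 hw.2 l ?_)
    have := H.mul_mem (QuotientGroup.eq.1 e) (H.inv_mem (k _ hw.1))
    convert this using 1
    group
  · exact fun w _ => ⟨o, by rw [ho, one_smul]⟩
  · intro w hw w' _ i j e
    simp only [Finset.mem_filter, Finset.mem_univ, true_and] at hw
    obtain ⟨l, -, k⟩ := hsub i j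
    refine ⟨l, ?_⟩
    rw [← inv_smul_smul (x i) w', e, smul_smul, smul_eq, smul_eq, QuotientGroup.eq]
    convert k _ hw.1 using 1
    group
  · intro w hw
    simp only [Finset.mem_filter, Finset.mem_univ, true_and] at hw
    rw [← h0 _ hw.1]
    exact Finset.sum_congr rfl fun i _ => by rw [smul_eq, hF.out (L.mul_mem (hBL (hx i)) hw.1)]

theorem sub_fin {p : ℕ} [NeZero p] (i j : Fin p) : ∃ l : Fin p, (l = 0 → i = j) ∧ ∃ k : ℕ, (i : ℕ) + l = j + p * k := by
  have hp := Nat.pos_of_ne_zero (NeZero.ne p)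
  have hi := i.2
  have hj := j.2
  by_cases h : (i : ℕ) ≤ j
  · refine ⟨⟨j - i, by omega⟩, fun e => Fin.ext ?_, 0, by simp; omega⟩
    have := congrArg Fin.val e
    simp at this
    omega
  · refine ⟨⟨j + p - i, by omega⟩, fun e => Fin.ext ?_, 1, by simp; omega⟩
    have := congrArg Fin.val e
    simp at this
    omega

theorem mem_of_coprime {G : Type u} [Group G] {H : Subgroup G} {c : G} {a b : ℕ} (ha : c ^ a ∈ H) (hb : c ^ b ∈ H)
    (h : a.Coprime b) : c ∈ H := by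
  have e := Nat.gcd_eq_gcd_ab a b
  rw [h, Nat.cast_one] at e
  rw [← zpow_one c, e, zpow_add, zpow_mul, zpow_mul, zpow_natCast, zpow_natCast]
  exact H.mul_mem (H.zpow_mem ha _) (H.zpow_mem hb _)

end SM

open SM

theorem smCyc : SmCyc.{u} := by
  intro G _ _ M _ p hp H B L y F hHB hBL hy h1 h2 hF h0
  haveI : NeZero p := ⟨hp.out.ne_zero⟩
  refine sm_orb (I := Fin p) (fun j => y ^ (j : ℕ)) 0 hHB hBL (fun i => B.pow_mem hy _) (by simp) (fun i j => ?_)
    (fun g hg hB l k => ?_) hF fun g hg => ?_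
  · obtain ⟨l, hl, k, e⟩ := sub_fin i j
    refine ⟨l, hl, fun g hg => ?_⟩
    have e1 : (y ^ (l : ℕ))⁻¹ * ((y ^ (i : ℕ))⁻¹ * y ^ (j : ℕ)) = ((y ^ p) ^ k)⁻¹ := by
      rw [← mul_assoc, ← mul_inv_rev, ← pow_add, e, pow_add, mul_inv_rev, inv_mul_cancel_right, pow_mul]
    have := H.inv_mem (H.pow_mem (h1 g hg) k)
    rw [show g⁻¹ * y ^ p * g = g⁻¹ * y ^ p * g⁻¹⁻¹ by rw [inv_inv], conj_pow, inv_inv] at this
    rw [e1]
    convert this using 1
    group
  · by_contra hl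
    refine hB (h2 g hg (mem_of_coprime (a := l) (b := p) ?_ ?_ ?_))
    · rwa [show g⁻¹ * y * g = g⁻¹ * y * g⁻¹⁻¹ by rw [inv_inv], conj_pow, inv_inv]
    · rw [show g⁻¹ * y * g = g⁻¹ * y * g⁻¹⁻¹ by rw [inv_inv], conj_pow, inv_inv]
      exact h1 g hg
    · exact (Nat.coprime_of_lt_prime (fun e => hl (Fin.ext (by simpa using e))) l.2 hp.out).symm
  · rw [← h0 g hg, Fin.sum_univ_eq_sum_range (fun j => F (y ^ j * g))]

theorem smTwo : SmTwo.{u} := by
  intro G _ _ M _ p hp E H B y z F hE hEH hHB hy hz yp zp hc h2 hF h0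
  haveI : NeZero p := ⟨hp.out.ne_zero⟩
  refine sm_orb (I := Fin p × Fin p) (fun j => y ^ (j.1 : ℕ) * z ^ (j.2 : ℕ)) 0 hHB le_top
    (fun i => B.mul_mem (B.pow_mem hy _) (B.pow_mem hz _)) (by simp) (fun i j => ?_) (fun g _ hB l k => ?_) hF
    fun g _ => ?_
  · obtain ⟨l, hl, k, e⟩ := sub_fin i.1 j.1
    obtain ⟨l', hl', k', e'⟩ := sub_fin i.2 j.2
    refine ⟨(l, l'), fun h => Prod.ext (hl (congrArg Prod.fst h)) (hl' (congrArg Prod.snd h)), fun g _ => hEH ?_⟩
    refine hE.conj_mem' _ ?_ g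
    rw [← mul_assoc, ← mul_inv_rev, ← QuotientGroup.eq]
    have c : Commute (y : G ⧸ E) (z : G ⧸ E) := by
      rw [← commutatorElement_eq_one_iff_commute]
      exact (QuotientGroup.eq_one_iff _).2 hc
    have y1 : (y : G ⧸ E) ^ p = 1 := (QuotientGroup.eq_one_iff _).2 yp
    have z1 : (z : G ⧸ E) ^ p = 1 := (QuotientGroup.eq_one_iff _).2 zp
    simp only [QuotientGroup.mk_mul, QuotientGroup.mk_pow]
    rw [(c.symm.pow_pow _ _).mul_mul_mul_comm, ← pow_add, ← pow_add, e, e', pow_add, pow_add, pow_mul, pow_mul, y1, z1]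
    simp
  · obtain ⟨a, b⟩ := h2 g hB l.1 l.1.2 l.2 l.2.2 k
    exact Prod.ext (Fin.ext (by simpa using a)) (Fin.ext (by simpa using b))
  · rw [← h0 g, Fintype.sum_prod_type, ← Fin.sum_univ_eq_sum_range (fun a => ∑ b ∈ Finset.range p, F (y ^ a * z ^ b * g))]
    exact Finset.sum_congr rfl fun a _ => Fin.sum_univ_eq_sum_range (fun b => F (y ^ (a : ℕ) * z ^ b * g)) p

end CL.MX
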