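/-
Project MX: the case `|S : E| = p ^ 2`, first step.
-/
import Cfsg.Agent.MX.SM

set_option autoImplicit false

namespace CL.MX

open Subgroup Cfsg
open scoped commutatorElement Pointwise

universe u

namespace I2A

theorem conj_into {G : Type u} [Group G] [Finite G] {p : ℕ} [Fact p.Prime] {S N Q : Subgroup G} (pS : IsPGroup p S)
    (hS : ¬ p ∣ S.index) (hSN : S ≤ N) (pQ : IsPGroup p Q) (hQ : Q ≤ N) : ∃ n ∈ N, ∀ x ∈ Q, n * x * n⁻¹ ∈ S := by
  have p1 : IsPGroup p (S.subgroupOf N) := pS.comap_subtype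
  have i1 : ¬ p ∣ (S.subgroupOf N).index := fun h => hS (h.trans (relIndex_dvd_index_of_le hSN))
  obtain ⟨T, hT⟩ := (pQ.comap_subtype (K := N)).exists_le_sylow
  obtain ⟨n, e⟩ := MulAction.exists_smul_eq N T (p1.toSylow i1)
  refine ⟨n, n.2, fun x hx => ?_⟩
  have : MulAut.conj n • (⟨x, hQ hx⟩ : N) ∈ ((n • T : Sylow p N) : Subgroup N) :=
    smul_mem_pointwise_smul _ _ _ (hT hx)
  rw [e] at this
  exact this

theorem frattini {G : Type u} [Group G] [Finite G] {p : ℕ} [Fact p.Prime] {S N : Subgroup G} (pS : IsPGroup p S)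
    (hS : ¬ p ∣ S.index) (hSN : S ≤ N) {h : G} (hh : ∀ g ∈ N, h * g * h⁻¹ ∈ N) :
    ∃ n ∈ N, ∃ b ∈ normalizer (S : Set G), h = n * b := by
  obtain ⟨n, hn, k⟩ := conj_into pS hS hSN (pS.map (MulAut.conj h).toMonoidHom) (by
    rintro _ ⟨x, hx, rfl⟩
    exact hh x (hSN hx))
  refine ⟨n⁻¹, N.inv_mem hn, n * h, mem_normalizer_fintype fun x hx => ?_, by group⟩
  have := k _ ⟨x, hx, rfl⟩
  convert this using 1
  simp [mul_assoc]

variable {p d : ℕ}

theorem lead_pow [Fact p.Prime] {N : Mt p d} (h : Rs 1 N) (k : ∀ u, u + 1 < d → en N (u + 1) u ≠ 0) :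
    ∀ m u, u < d → u + m < d → en (N ^ m) (u + m) u ≠ 0
  | 0, u, hu, _ => by simp [en_one, hu]
  | m + 1, u, hu, hm => by
    have := h.en_mul (h.pow m) u
    rw [one_mul, ← pow_succ'] at this
    rw [← add_assoc, this]
    exact mul_ne_zero (k _ (by omega)) (lead_pow h k m u hu (by omega))

theorem ker_iff [Fact p.Prime] {M : Mt p d} {m : ℕ} (h : Rs m M) (k : ∀ u, u < d → u + m < d → en M (u + m) u ≠ 0)
    (c : Fin d → ZMod p) : M.mulVec c = 0 ↔ c ∈ Fl p d (d - m) := by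
  refine ⟨fun e => ?_, fun hc => funext fun u => ?_⟩
  · have : ∀ n (u : Fin d), (u : ℕ) = n → (u : ℕ) < d - m → c u = 0 := by
      intro n
      induction n using Nat.strong_induction_on with
      | _ n ih =>
        intro u hu hl
        have e1 := congrFun e ⟨u + m, by omega⟩
        rw [Matrix.mulVec, dotProduct, Finset.sum_eq_single u] at e1
        · refine (mul_eq_zero.1 e1).resolve_left ?_
          rw [← en_val M]
          exact k u u.2 (by omega)
        · intro v _ hv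
          rcases lt_or_gt_of_ne (Fin.val_ne_of_ne hv) with l | l
          · rw [ih v (by omega) v rfl (by omega), mul_zero]
          · rw [← en_val M, h _ _ (by simpa using l), zero_mul]
        · simp
    exact fun u hu => this u u rfl hu
  · rw [Matrix.mulVec, dotProduct]
    refine Finset.sum_eq_zero fun v _ => ?_
    by_cases l : (v : ℕ) < d - m
    · rw [hc v l, mul_zero]
    · rw [← en_val M, h _ _ (by have := u.2; omega), zero_mul]

theorem en00 {A : Mt p d} (hA : St 1 A) (B : Mt p d) : en (A * B) 0 0 = en A 0 0 * en B 0 0 := by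
  rw [en_mul, Finset.sum_eq_single 0]
  · intro w _ hw
    rw [hA 0 w (by omega) (by omega), zero_mul]
  · intro k
    rw [en_left B (by simpa using k), mul_zero]

variable {G : Type u} [Group G] {k : ℕ} {ρ : G →* Mt p d} {E P S : Subgroup G} {s t : G}

theorem conj_pow_sub (ρ : G →* Mt p d) (g y : G) (m : ℕ) :
    ρ g * (ρ (g⁻¹ * y * g) - 1) ^ m = (ρ y - 1) ^ m * ρ g := by
  refine (SemiconjBy.pow_right ?_ m).eq
  rw [SemiconjBy, mul_sub, sub_mul, ← map_mul, ← map_mul, mul_one, one_mul]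
  congr 2
  group

theorem normE (h : Lin p d ρ E P S s t) : E.Normal := ⟨fun e he g => by
  rw [← h.ker, map_mul, map_mul, (h.ker e).2 he, mul_one, ← map_mul, mul_inv_cancel, map_one]⟩

theorem pow_of_mem [Finite G] (h : Lin p d ρ E P S s t) (hP : P = E ⊔ zpowers t) {y : G} (hy : y ∈ P) :
    ∃ m : ℕ, ρ y = ρ t ^ m := by
  have := normE h
  rw [hP, ← SetLike.mem_coe, normal_mul] at hy
  obtain ⟨e, he, x, hx, rfl⟩ := hy
  obtain ⟨m, rfl⟩ := (mem_powers_iff_mem_zpowers).2 hx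
  exact ⟨m, by rw [map_mul, (h.ker e).2 he, one_mul, map_pow]⟩

/-- the elements of `H` commuting with `t` in the representation -/
def H0 (ρ : G →* Mt p d) (H : Subgroup G) (t : G) : Subgroup G where
  carrier := {h | h ∈ H ∧ Commute (ρ h) (ρ t)}
  one_mem' := ⟨H.one_mem, by simp⟩
  mul_mem' := fun ha hb => ⟨H.mul_mem ha.1 hb.1, by rw [map_mul]; exact ha.2.mul_left hb.2⟩
  inv_mem' := fun {x} hx => ⟨H.inv_mem hx.1, by
    have e : ρ x⁻¹ * ρ x = 1 := by rw [← map_mul, inv_mul_cancel, map_one]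
    have e' : ρ x * ρ x⁻¹ = 1 := by rw [← map_mul, mul_inv_cancel, map_one]
    calc ρ x⁻¹ * ρ t = ρ x⁻¹ * (ρ t * ρ x) * ρ x⁻¹ := by rw [mul_assoc, mul_assoc, e', mul_one]
      _ = ρ t * ρ x⁻¹ := by rw [← hx.2.eq, ← mul_assoc, e, one_mul]⟩

theorem inv_k [Fact p.Prime] (h : Lk p d k ρ E P S s t) {g : G} (hg : Commute (ρ g) (ρ t)) : St k (ρ g) := by
  have cτ : ∀ {A : Mt p d}, Commute A (ρ t) → ∀ c ∈ LinearMap.range (ρ t - 1).mulVecLin,
      A.mulVec c ∈ LinearMap.range (ρ t - 1).mulVecLin := by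
    rintro A hA _ ⟨c, rfl⟩
    refine ⟨A.mulVec c, ?_⟩
    simp only [Matrix.mulVecLin_apply, Matrix.mulVec_mulVec]
    rw [(hA.sub_right (Commute.one_right A)).eq]
  have cJ : Commute (Jm p d) (ρ t) := by
    have := ((h.tc s h.sS).symm).sub_left (Commute.one_left (ρ t))
    rwa [h.ρs, add_sub_cancel_left] at this
  obtain ⟨z, hz, e⟩ := eq_Fl _ (cτ cJ)
  have kd := h.kd
  have k2 := h.k2
  have : z = k := by
    rcases lt_trichotomy z k with l | l | l
    · have : (Pi.single (⟨z, by omega⟩ : Fin d) 1 : Fin d → ZMod p) ∈ Fl p d z :=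
        fun w hw => Pi.single_eq_of_ne (fun e => by subst e; simp at hw) _
      rw [← e] at this
      obtain ⟨c, hc⟩ := this
      have := congrFun hc ⟨z, by omega⟩
      rw [Matrix.mulVecLin_apply, Matrix.mulVec, dotProduct, Finset.sum_eq_zero, Pi.single_eq_same] at this
      · exact absurd this zero_ne_one
      · intro v _
        rw [← en_val (ρ t - 1), h.rt _ _ (by simp; omega), zero_mul]
    · exact l
    · have : (ρ t - 1).mulVec (Pi.single (⟨0, by omega⟩ : Fin d) 1) ∈ Fl p d z := e ▸ ⟨_, rfl⟩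
      have := this ⟨k, kd⟩ l
      rw [Matrix.mulVec_single_one, Matrix.col_apply, ← en_val (ρ t - 1), en_sub, en_one, if_neg (by simp; omega),
        sub_zero] at this
      exact absurd this (by simpa using h.nt 0 (by omega))
  rw [st_iff, ← this, ← e]
  exact cτ hg

theorem stepA [Finite G] [hp : Fact p.Prime] (h : Lk p d k ρ E P S s t) (c : CyL p d k ρ P S) (hP : P = E ⊔ zpowers t) :
    normalizer (P : Set G) ≤ normalizer (S : Set G) := by
  have kd := h.kd
  have k2 := h.k2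
  have dp := h.dp
  have SH : S ≤ normalizer (P : Set G) := le_normalizer.trans h.BH
  have S0 : S ≤ H0 ρ (normalizer (P : Set G)) t := fun y hy => ⟨SH hy, (h.tc y hy).symm⟩
  have le0 : H0 ρ (normalizer (P : Set G)) t ≤ normalizer (P : Set G) := fun _ hy => hy.1
  have n0 : ∀ x ∈ normalizer (P : Set G), ∀ g ∈ H0 ρ (normalizer (P : Set G)) t,
      x * g * x⁻¹ ∈ H0 ρ (normalizer (P : Set G)) t := fun x hx g hg => by
    refine ⟨mul_mem (mul_mem hx hg.1) (inv_mem hx), ?_⟩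
    obtain ⟨m, e⟩ := pow_of_mem h.toLin hP (y := x⁻¹ * t * x) ((mem_normalizer_iff''.1 hx t).1 h.tP)
    have := (hg.2.pow_right m).eq
    rw [← e, ← map_mul, ← map_mul] at this
    have e2 : ρ x * ρ (g * (x⁻¹ * t * x)) * ρ x⁻¹ = ρ x * ρ (x⁻¹ * t * x * g) * ρ x⁻¹ := by rw [this]
    simp only [← map_mul] at e2
    show ρ _ * ρ _ = ρ _ * ρ _
    rw [← map_mul, ← map_mul]
    convert e2 using 2 <;> group
  have ak : ∀ g ∈ H0 ρ (normalizer (P : Set G)) t, g ∈ normalizer (S : Set G) → wa (ρ g) ^ k = 1 := fun g hg hB => by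
    obtain ⟨r, a0, dg⟩ := h.tri g hB
    have e1 := r.en_mul h.rt 0
    have e2 := h.rt.en_mul r 0
    simp only [zero_add, add_zero] at e1 e2
    rw [(hg.2.sub_right (Commute.one_right _)).eq, e2, dg k kd, dg 0 (by omega), mul_comm] at e1
    have n : en (ρ t - 1) k 0 ≠ 0 := by
      rw [en_sub, en_one, if_neg (by omega), sub_zero]
      simpa using h.nt 0 (by omega)
    have := mul_right_cancel₀ n e1
    rw [pow_add _ (k + 1) k, add_zero] at this
    exact (mul_eq_left₀ (pow_ne_zero _ a0)).1 this.symm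
  have ae : ∀ g ∈ H0 ρ (normalizer (P : Set G)) t, g ∈ normalizer (S : Set G) → wa (ρ g) ^ k.gcd (p - 1) = 1 :=
    fun g hg hB => pow_gcd_eq_one.2 ⟨ak g hg hB, ZMod.pow_card_sub_one_eq_one (h.tri g hB).2.1⟩
  have e1 : k.gcd (p - 1) ≤ k := Nat.le_of_dvd (by omega) (Nat.gcd_dvd_left _ _)
  have e2 : k.gcd (p - 1) ≤ p - 1 - k :=
    Nat.le_of_dvd (by omega) (Nat.dvd_sub (Nat.gcd_dvd_right _ _) (Nat.gcd_dvd_left _ _))
  have e3 : 0 < k.gcd (p - 1) := Nat.gcd_pos_of_pos_left _ (by omega)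
  have i1 : Inv ρ (H0 ρ (normalizer (P : Set G)) t) 1 := by
    classical
    have ex : ∃ z, 0 < z ∧ Inv ρ (H0 ρ (normalizer (P : Set G)) t) z := ⟨k, by omega, fun g hg => inv_k h hg.2⟩
    have zk : Nat.find ex ≤ k := Nat.find_min' ex ⟨by omega, fun g hg => inv_k h hg.2⟩
    obtain ⟨z0, zi⟩ := Nat.find_spec ex
    have nx : Nx ρ (H0 ρ (normalizer (P : Set G)) t) 0 (0 + Nat.find ex) :=
      ⟨by omega, by omega, fun _ _ => st_zero _, by rwa [zero_add],
        fun z a b l => Nat.find_min ex (by omega) ⟨a, l⟩⟩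
    by_cases l : Nat.find ex = 1
    · rwa [l] at zi
    by_cases l' : k.gcd (p - 1) < Nat.find ex
    · exact (c.c2 _ 0 _ _ S0 le0 nx e3 l' (by omega) ae).elim
    · refine (c.c3 _ 0 _ 1 S0 le0 nx le_rfl (by omega) (by omega) fun g hg hB => ?_).elim
      rw [add_zero, pow_succ _ k, ak g hg hB, one_mul, pow_one]
  have iH : ∀ x ∈ normalizer (P : Set G), St 1 (ρ x) := fun x hx => by
    obtain ⟨n, hn, b, hb, rfl⟩ := frattini h.pg h.syl S0 (n0 x hx)
    rw [map_mul]
    exact (i1 n hn).mul ((h.tri b hb).1.st 1)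
  have one : en (ρ 1) 0 0 = 1 := by rw [map_one, en_one, if_pos ⟨rfl, by omega⟩]
  have mul : ∀ x ∈ normalizer (P : Set G), ∀ y, en (ρ (x * y)) 0 0 = en (ρ x) 0 0 * en (ρ y) 0 0 := fun x hx y => by
    rw [map_mul, en00 (iH x hx)]
  let H1 : Subgroup G :=
    { carrier := {g | g ∈ H0 ρ (normalizer (P : Set G)) t ∧ en (ρ g) 0 0 = 1}
      one_mem' := ⟨one_mem _, one⟩
      mul_mem' := fun {a b} ha hb => ⟨mul_mem ha.1 hb.1, by rw [mul a ha.1.1, ha.2, hb.2, one_mul]⟩
      inv_mem' := fun {a} ha => ⟨inv_mem ha.1, by rw [← one, ← mul_inv_cancel a, mul a ha.1.1, ha.2, one_mul]⟩ }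
  have S1 : S ≤ H1 := fun y hy => ⟨S0 hy, by
    have := h.rS y hy 0 0 (by omega)
    rwa [en_sub, sub_eq_zero, en_one, if_pos ⟨rfl, by omega⟩] at this⟩
  have B1 : H1 ≤ normalizer (S : Set G) := c.chain H1 S1 (fun _ hg => hg.1.1) fun g hg hB => by
    rw [← h.w1 g hB]
    have := (h.tri g hB).2.2 0 (by omega)
    rwa [hg.2, add_zero, pow_succ, ak g hg.1 hB, one_mul, eq_comm] at this
  intro x hx
  obtain ⟨n, hn, b, hb, rfl⟩ := frattini h.pg h.syl S1 (h := x) fun g hg => ⟨n0 x hx g hg.1, by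
    rw [mul _ (mul_mem hx hg.1.1), mul x hx, hg.2, mul_one, ← mul x hx, mul_inv_cancel, one]⟩
  exact mul_mem (B1 hn) hb

end I2A

open I2A

theorem i2a : I2a.{u} := by
  intro G _ _ p d k hp ρ E P S s t h c hP g hg a ha b hb hy
  have cj : ∀ y, (ρ (g⁻¹ * y * g) - 1) ^ (d - 1) = 0 ↔ (ρ y - 1) ^ (d - 1) = 0 := fun y => by
    have e := conj_pow_sub ρ g y (d - 1)
    refine ⟨fun k => ?_, fun k => ?_⟩
    · rw [k, mul_zero] at e
      rw [← mul_one (_ ^ _), ← map_one ρ, ← mul_inv_cancel g, map_mul, ← mul_assoc, ← map_mul, mul_inv_cancel, map_one,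
        ← e, zero_mul]
    · rw [k, zero_mul] at e
      rw [← one_mul (_ ^ _), ← map_one ρ, ← inv_mul_cancel g, map_mul, mul_assoc (ρ g⁻¹), ← map_mul, inv_mul_cancel,
        map_one, e, mul_zero]
  have yS : s ^ a * t ^ b ∈ S := mul_mem (pow_mem h.sS _) (pow_mem (h.PS h.tP) _)
  have a0 : a = 0 := by
    by_contra a0
    have yP : s ^ a * t ^ b ∉ P := fun k => h.sP (SM.mem_of_coprime ((P.mul_mem_cancel_right (pow_mem h.tP _)).1 k)
      (h.EP (h.pw s h.sS)) (Nat.coprime_of_lt_prime a0 ha hp.out).symm)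
    have yP' : g⁻¹ * (s ^ a * t ^ b) * g ∉ P := by rwa [h.memP _ hy, cj, ← h.memP _ yS]
    have ker : ∀ y ∈ S, y ∉ P → ∀ x ≤ d, ∀ v, ((ρ y - 1) ^ (d - x)).mulVec v = 0 ↔ v ∈ Fl p d x := fun y hy hP x hx v => by
      have := ker_iff (m := d - x) (by simpa using (h.rS y hy).pow (d - x)) (lead_pow (h.rS y hy) (fun u hu => by
        rw [en_sub, en_one, if_neg (by omega), sub_zero]; exact h.reg y hy hP u hu) (d - x)) v
      rwa [show d - (d - x) = x by omega] at this
    let L : Subgroup G :=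
      { carrier := {g | Rs 0 (ρ g)}
        one_mem' := by simpa using rs_one
        mul_mem' := fun {a b} ha hb => by simpa using Rs.mul ha hb
        inv_mem' := fun {a} ha => by
          have e : a⁻¹ = a ^ (orderOf a - 1) := by
            rw [eq_comm, eq_inv_iff_mul_eq_one, ← pow_succ, Nat.sub_add_cancel (orderOf_pos a), pow_orderOf_eq_one]
          have := Rs.pow ha (orderOf a - 1)
          rwa [zero_mul, ← map_pow, ← e] at this }
    refine hg (c.bor L (fun y hy => (h.rS y hy).one_add) (fun x y hy => Rs.st hy x) (rs_of_st fun x => ?_))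
    by_cases hx : d ≤ x
    · exact st_top _ hx
    refine st_iff.2 fun v hv => ?_
    rw [← ker _ yS yP x (by omega), Matrix.mulVec_mulVec, ← conj_pow_sub, ← Matrix.mulVec_mulVec,
      (ker _ hy yP' x (by omega) v).2 hv, Matrix.mulVec_zero]
  refine ⟨a0, by_contra fun b0 => hg (stepA h c hP ?_)⟩
  subst a0
  rw [pow_zero, one_mul] at hy yS
  have yP : g⁻¹ * t ^ b * g ∈ P := by rw [h.memP _ hy, cj, ← h.memP _ yS]; exact pow_mem h.tP _
  have nE := normE h.toLin
  have le : P ≤ P.comap (MulAut.conj g⁻¹).toMonoidHom := by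
    conv_lhs => rw [hP]
    refine sup_le (fun e he => h.EP (nE.conj_mem e he g⁻¹)) (zpowers_le.2 (SM.mem_of_coprime (a := b) (b := p) ?_ ?_
      (Nat.coprime_of_lt_prime b0 hb hp.out).symm))
    · simpa using yP
    · exact h.EP (nE.conj_mem _ (h.pw t (h.PS h.tP)) g⁻¹)
  exact inv_mem_iff.1 (mem_normalizer_fintype fun x hx => le hx)

end CL.MX
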