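/-
Project MX: the case `|S : E| = p ^ 2`, second step.
-/
import Cfsg.Agent.MX.Defs
import Cfsg.Agent.Grp.Cores

set_option autoImplicit false

namespace CL.MX

open Subgroup Cfsg
open scoped commutatorElement

universe u

namespace I2B

variable {p d k x v j1 j2 : ℕ}

theorem en_tri {A C : Mt p d} (hA : Rs 0 A) (hC : St x C) (hv : x ≤ v) : en (A * C) x v = en A x x * en C x v := by
  rw [en_mul, Finset.sum_eq_single x]
  · intro w _ hw
    rcases lt_or_gt_of_ne hw with e | e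
    · rw [hC w v e hv, mul_zero]
    · rw [hA x w e, zero_mul]
  · intro e
    rw [en_left A (by simpa using e), zero_mul]

theorem dg1 {X : Type} {Γ : Gr p X} {A : X → Mt p d} (hA : DgM Γ A) (B C : Mt p d) (u v : ℕ) :
    (fun z => en (B * A z * C) u v) ∈ Γ.S (d - 1) := by
  simp only [en_mul (B * A _)]
  exact Gr.sum _ fun w _ => Gr.le (Gr.mulc _ (hA.right B u w)) (by omega)

theorem dg2 {X : Type} {Γ : Gr p X} {A A' : X → Mt p d} (hA : DgM Γ A) (hA' : DgM Γ A') (B C D : Mt p d) (u v : ℕ) :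
    (fun z => en (B * A z * C * (A' z * D)) u v) ∈ Γ.S (d - 1 + (d - 1)) := by
  simp only [en_mul (B * A _ * C)]
  exact Gr.sum _ fun w _ => Γ.mul (dg1 hA B C u w) (by simpa using dg1 hA' 1 D w v)

variable {G : Type u} [Group G] {ρ : G →* Mt p d} {E P S : Subgroup G} {s t : G}

/-- the summand -/
def F (ρ : G →* Mt p d) (x v j1 j2 : ℕ) (C X Y : Mt p d) (g : G) : ZMod p :=
  en (ρ g⁻¹ * C) x v * en (X * (ρ g * Jm p d ^ j1 * ρ g⁻¹) * Y) j1 0 * en (X * (ρ g * Jm p d ^ j2 * ρ g⁻¹) * Y) j2 0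

theorem mul_inv (g : G) : ρ g * ρ g⁻¹ = 1 := by rw [← map_mul, mul_inv_cancel, map_one]

variable [hp : Fact p.Prime] (h : Lk p d k ρ E P S s t)
include h

theorem inv_eq {y : G} (hy : y ∈ S) : ρ y⁻¹ = ρ y ^ (p - 1) := by
  rw [← mul_one (ρ y⁻¹), ← (h.ker _).2 (h.pw y hy), ← map_mul, ← map_pow]
  congr 1
  rw [inv_mul_eq_iff_eq_mul, ← pow_succ', Nat.sub_add_cancel hp.out.pos]

theorem diag {y : G} (hy : y ∈ S) (hx : x < d) : en (ρ y) x x = 1 := by
  simpa [en_sub, en_one, hx, sub_eq_zero] using h.rS y hy x x (by omega)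

theorem comm (hP : P = E ⊔ zpowers t) {y : G} (hy : y ∈ S) : Commute (ρ y) (Jm p d) := by
  have h1 : ∀ y, Commute (ρ y) (ρ s) → Commute (ρ y) (Jm p d) := fun y e => by
    simpa [h.ρs] using e.sub_right (Commute.one_right _)
  have h2 : ∀ y ∈ P, Commute (ρ y) (ρ s) := fun y hy => by
    have : E.Normal := (show E = ρ.ker from Subgroup.ext fun g => (h.ker g).symm) ▸ ρ.normal_ker
    obtain ⟨e, he, _, ⟨n, rfl⟩, rfl⟩ := mem_sup_of_normal_left.1 (hP ▸ hy)
    rw [map_mul, (h.ker e).2 he, one_mul]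
    rcases n with n | n
    · simpa using (h.tc s h.sS).pow_left n
    · simpa [inv_eq h (S.pow_mem (h.PS h.tP) _)] using ((h.tc s h.sS).pow_left (n + 1)).pow_left (p - 1)
  obtain ⟨a, -, ha⟩ := h.gen y hy
  refine h1 y ?_
  rw [← mul_inv_cancel_left (s ^ a) y, map_mul, map_pow]
  exact ((Commute.refl _).pow_left a).mul_left (h2 _ ha)

theorem ad {g : G} (hg : g ∈ normalizer (S : Set G)) {j : ℕ} (hj : j < d) :
    en (ρ g * Jm p d ^ j * ρ g⁻¹) j 0 = wa (ρ g) ^ (k + 1 + j) * wa (ρ g⁻¹) ^ (k + 1) := by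
  have h1 := h.tri g hg
  have h2 := h.tri g⁻¹ (inv_mem hg)
  have h3 : Rs j (Jm p d ^ j) := by simpa using rs_Jm.pow j
  have h4 := (h1.1.mul h3).en_mul h2.1 0
  have h5 := h1.1.en_mul h3 0
  simp only [Nat.zero_add, Nat.add_zero] at h4 h5
  rw [h4, h5, en_Jm_pow, if_pos (by omega), h1.2.2 j hj, h2.2.2 0 (by omega), mul_one]

variable [Finite G] (T : SmTwo.{u}) (hP : P = E ⊔ zpowers t)
  (hg : ∀ g ∉ normalizer (S : Set G), ∀ a < p, ∀ b < p, g⁻¹ * (s ^ a * t ^ b) * g ∈ S → a = 0 ∧ b = 0)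
  (hx : x < d) (hi : Inv ρ ⊤ x)
include hP hx hi

omit [Finite G] in
theorem ri {C : Mt p d} (hC : St x C) (hv : x ≤ v) (X Y : Mt p d) : RI S ⊤ (F ρ x v j1 j2 C X Y) := fun g _ y hy => by
  have h1 : ∀ j, ρ (g * y) * Jm p d ^ j * ρ (g * y)⁻¹ = ρ g * Jm p d ^ j * ρ g⁻¹ := fun j => by
    rw [mul_inv_rev, map_mul, map_mul, mul_assoc (ρ g), ((comm h hP hy).pow_right j).eq, ← mul_assoc, ← mul_assoc,
      mul_assoc _ (ρ y), mul_inv, mul_one]
  rw [F, F, h1, h1, mul_inv_rev, map_mul, mul_assoc (ρ y⁻¹), en_tri (h.rS _ (inv_mem hy)).one_add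
    ((hi _ trivial).mul hC) hv, diag h (inv_mem hy) hx, one_mul]

include T hg

theorem collapse (hc : j2 = 0 ∨ k + 1 = d) {C : Mt p d} (hC : St x C) (hv : x ≤ v) (X Y : Mt p d) :
    sm S ⊤ (F ρ x v j1 j2 C X Y) = sm S (normalizer (S : Set G)) (F ρ x v j1 j2 C X Y) := by
  have hE : E.Normal := (show E = ρ.ker from Subgroup.ext fun g => (h.ker g).symm) ▸ ρ.normal_ker
  have ht := h.PS h.tP
  have k2 := h.k2
  have dp := h.dp
  have kd := h.kd
  refine T G _ p E S _ s t _ hE (h.EP.trans h.PS) le_normalizer (le_normalizer h.sS) (le_normalizer ht)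
    (h.pw s h.sS) (h.pw t ht) ((h.ker _).1 ?_) hg (ri h hP hx hi hC hv X Y) fun g => ?_
  · rw [commutatorElement_def, map_mul, map_mul, map_mul, ← (h.tc s h.sS).eq, mul_assoc (ρ t), mul_inv, mul_one,
      mul_inv]
  have a1 : DgM (gr2 p k) fun z => ρ (s ^ z.1 * t ^ z.2) := by
    simpa using (dgM_pow (gr2_fst k 1) (h.rS s h.sS) le_rfl dp.le).mul (dgM_pow (gr2_snd k 1) h.rt (by omega) dp.le)
  have a2 : DgM (gr2 p k) fun z => ρ (s ^ z.1 * t ^ z.2)⁻¹ := by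
    simpa only [mul_inv_rev, map_mul, ← inv_pow, map_pow, inv_eq h h.sS, inv_eq h ht, pow_mul] using
      (dgM_pow (gr2_snd k (p - 1)) h.rt (by omega) dp.le).mul (dgM_pow (gr2_fst k (p - 1)) (h.rS s h.sS) le_rfl dp.le)
  have a3 : (fun z : ℕ × ℕ => en (ρ (s ^ z.1 * t ^ z.2 * g)⁻¹ * C) x v) ∈ (gr2 p k).S (d - 1) := by
    simpa only [mul_inv_rev (_ * _) g, map_mul ρ g⁻¹] using dg1 a2 (ρ g⁻¹) C x v
  have a4 : ∀ j, (fun z : ℕ × ℕ => en (X * (ρ (s ^ z.1 * t ^ z.2 * g) * Jm p d ^ j * ρ (s ^ z.1 * t ^ z.2 * g)⁻¹) * Y)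
      j 0) ∈ (gr2 p k).S (d - 1 + (d - 1)) := fun j => by
    simpa only [mul_inv_rev (_ * _) g, map_mul ρ g⁻¹, map_mul ρ (_ * _) g, mul_assoc (G := Mt p d)] using
      dg2 a1 a2 X (ρ g * Jm p d ^ j * ρ g⁻¹) Y j 0
  rcases hc with rfl | hc
  · refine gr2_sum (f := fun z => F ρ x v j1 0 C X Y (s ^ z.1 * t ^ z.2 * g)) (k := k) (r := d - 1 + (d - 1 + (d - 1)))
      (by simpa only [F, pow_zero, mul_one, mul_inv] using Gr.mulc _ ((gr2 p k).mul a3 (a4 j1))) ?_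
    have := Nat.mul_le_mul (show 3 ≤ k + 1 by omega) (show d ≤ p - 1 by omega)
    omega
  · refine gr2_sum (f := fun z => F ρ x v j1 j2 C X Y (s ^ z.1 * t ^ z.2 * g))
      ((gr2 p k).mul ((gr2 p k).mul a3 (a4 j1)) (a4 j2)) ?_
    have b1 : p ≠ 4 := by rintro rfl; exact absurd hp.out (by norm_num)
    rw [hc]
    by_cases b2 : 5 ≤ d
    · have := Nat.mul_le_mul_left d (show 5 ≤ p - 1 by omega)
      omega
    · have := Nat.mul_le_mul_left d (show 4 ≤ p - 1 by omega)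
      omega

theorem step (h1 : j1 < d) (h2 : j2 < d) (hc : j2 = 0 ∨ k + 1 = d)
    (ha : ∀ g ∈ normalizer (S : Set G), wa (ρ g) ^ (j1 + j2) = wa (ρ g) ^ (k + 1 + x)) : Inv ρ ⊤ (x + 1) := by
  intro k0 _ u v hu hv
  by_cases e : u < x
  · exact hi k0 trivial u v e (by omega)
  obtain rfl : u = x := by omega
  have a1 := sm_left le_top (ri (v := v) (j1 := j1) (j2 := j2) h hP hx hi (hi k0 trivial) (by omega) 1 1) (mem_top k0)
  have a2 : ∀ g, F ρ u v j1 j2 (ρ k0) 1 1 (k0 * g) = F ρ u v j1 j2 1 (ρ k0) (ρ k0⁻¹) g := fun g => by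
    have := mul_inv (ρ := ρ) k0⁻¹
    simp only [F, mul_inv_rev, map_mul, one_mul, mul_one, mul_assoc (G := Mt p d), inv_inv k0 ▸ this]
  simp only [a2] at a1
  rw [collapse h T hP hg hx hi hc (rs_one.st _) (by omega), collapse h T hP hg hx hi hc (hi k0 trivial) (by omega),
    sm_const le_normalizer (c := 0) fun g hg => by
      rw [F, mul_one, (h.tri _ (inv_mem hg)).1 u v (by omega), zero_mul, zero_mul],
    sm_const le_normalizer (c := en (ρ k0) u v) fun g hg => ?_, smul_zero, nsmul_eq_mul] at a1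
  · exact (mul_eq_zero.1 a1.symm).resolve_left fun e => h.syl (((ZMod.natCast_eq_zero_iff _ _).1 e).trans
      ⟨_, (relIndex_mul_index le_normalizer).symm⟩)
  have b1 := h.tri _ (inv_mem hg)
  have b2 : wa (ρ g) * wa (ρ g⁻¹) = 1 := by
    rw [← h.wmul g hg _ (inv_mem hg), mul_inv_cancel]; exact (h.w1 1 (one_mem _)).2 (one_mem _)
  rw [F, one_mul, one_mul, mul_one, mul_one, en_tri b1.1 (hi k0 trivial) (by omega), b1.2.2 u hx, ad h hg h1,
    ad h hg h2]
  calc _ = en (ρ k0) u v * (wa (ρ g) ^ (j1 + j2) * wa (ρ g⁻¹) ^ (k + 1 + u)) *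
      (wa (ρ g) * wa (ρ g⁻¹)) ^ (2 * (k + 1)) := by ring
    _ = _ := by rw [ha g hg, ← mul_pow, b2, one_pow, one_pow, mul_one, mul_one]

end I2B

theorem i2b (T : SmTwo.{u}) : I2b.{u} := fun G _ _ p d k hp ρ E P S s t h c hP hg => by
  have kd := h.kd
  have k2 := h.k2
  have h0 : Inv ρ ⊤ 0 := fun _ _ => st_zero _
  have h1 : Inv ρ ⊤ 1 := by
    by_cases e : k + 1 = d
    · exact I2B.step (j1 := 1) (j2 := k) h T hP hg (by omega) h0 (by omega) kd (.inr e) fun g _ => by rw [add_comm]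
    · exact I2B.step (j1 := k + 1) (j2 := 0) h T hP hg (by omega) h0 (by omega) (by omega) (.inl rfl) fun g _ => rfl
  let χ : G →* ZMod p := ⟨⟨fun g => en (ρ g) 0 0, by simpa using I2B.diag h (one_mem S) (x := 0) (by omega)⟩,
    fun a b => by
      change en (ρ (a * b)) 0 0 = en (ρ a) 0 0 * en (ρ b) 0 0
      rw [map_mul, en_mul, Finset.sum_eq_single 0 (fun w _ hw => by rw [h1 a trivial 0 w one_pos (by omega), zero_mul])
        fun e => absurd (Finset.mem_range.2 (by omega)) e]⟩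
  have h2 : S ≤ χ.ker := fun y hy => I2B.diag h hy (by omega)
  have h3 : χ.ker = ⊤ := by_contra fun e => h.tE (h.core (pCoreOf p χ.ker) (normalizer_eq_top_iff.1 (top_le_iff.1
    ((normalizer_eq_top χ.ker).ge.trans (Grp.normalizer_le_normalizer_pCoreOf p _)))) (Grp.pCoreOf_isPGroup p _)
    (Grp.le_pCoreOf (h.PS.trans h2) (h.mx _ h2 e) (h.pg.to_le h.PS) h.tP))
  have h4 : ∀ x, Inv ρ ⊤ x := fun x => by
    induction x with
    | zero => exact h0
    | succ x ih =>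
      by_cases e : x < d
      · refine I2B.step (j1 := x) (j2 := 0) h T hP hg e ih e (by omega) (.inl rfl) fun g hg => ?_
        rw [pow_add _ (k + 1), ← add_zero (k + 1), ← (h.tri g hg).2.2 0 (by omega),
          show en (ρ g) 0 0 = 1 from h3.ge (mem_top g), one_mul, add_zero]
      · exact fun _ _ => st_top _ (by omega)
  exact h.sP (h.EP (h.core S (normalizer_eq_top_iff.1 (top_le_iff.1 (c.bor ⊤ le_top h4))) h.pg h.sS))

end CL.MX
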