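/-
Project MX: the quadratic case.
-/
import Cfsg.Agent.MX.Defs
import Cfsg.Agent.Even.Amb2

set_option autoImplicit false
set_option linter.unusedSectionVars false

namespace CL.MX

open Subgroup Cfsg CL.Grp

universe u

namespace I3x

variable {G : Type u} [Group G] [Finite G] {p d k : ℕ} [hp : Fact p.Prime] {ρ : G →* Mt p d} {E P S : Subgroup G}
  {s t : G}

theorem exK {M : Type} [CommMonoid M] {H : Subgroup G} {f : G → M} (h1 : f 1 = 1)
    (hm : ∀ g ∈ H, ∀ h ∈ H, f (g * h) = f g * f h) :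
    ∃ K : Subgroup G, (∀ g, g ∈ K ↔ g ∈ H ∧ f g = 1) ∧ H ≤ normalizer (K : Set G) := by
  have hi : ∀ g ∈ H, f g * f g⁻¹ = 1 := fun g hg => by rw [← hm g hg _ (inv_mem hg), mul_inv_cancel, h1]
  refine ⟨{ carrier := {g | g ∈ H ∧ f g = 1}
            one_mem' := ⟨one_mem _, h1⟩
            mul_mem' := fun {a b} ha hb => ⟨mul_mem ha.1 hb.1, by rw [hm a ha.1 b hb.1, ha.2, hb.2, one_mul]⟩
            inv_mem' := fun {a} ha => ⟨inv_mem ha.1, by simpa [ha.2] using hi a ha.1⟩ }, fun _ => Iff.rfl,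
    fun g hg => mem_normalizer_fintype fun n hn => ⟨mul_mem (mul_mem hg hn.1) (inv_mem hg), ?_⟩⟩
  rw [hm _ (mul_mem hg hn.1) _ (inv_mem hg), hm g hg n hn.1, hn.2, mul_one, hi g hg]

theorem exGen (L : Lk p d k ρ E P S s t) : ∃ b ∈ normalizer (S : Set G), ∀ h ∈ normalizer (S : Set G),
    ∃ i : ℕ, wa (ρ h) = wa (ρ b) ^ i := by
  let φ : normalizer (S : Set G) →* ZMod p :=
    { toFun := fun h => wa (ρ h)
      map_one' := (L.w1 1 (one_mem _)).2 (one_mem _)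
      map_mul' := fun a b => L.wmul a a.2 b b.2 }
  obtain ⟨⟨_, b, rfl⟩, hb⟩ := IsCyclic.exists_monoid_generator (α := φ.toHomUnits.range)
  refine ⟨b, b.2, fun h hh => ?_⟩
  obtain ⟨i, e⟩ := hb ⟨_, ⟨h, hh⟩, rfl⟩
  exact ⟨i, by simpa [φ] using congrArg (fun u : φ.toHomUnits.range => ((u : (ZMod p)ˣ) : ZMod p)) e.symm⟩

theorem dtB (L : Lk p d k ρ E P S s t) {h : G} (hh : h ∈ normalizer (S : Set G)) {x w : ℕ} (hw : x + w ≤ d) :
    dt x w (ρ h) = wa (ρ h) ^ ∑ u ∈ Finset.range w, (k + 1 + x + u) := by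
  rw [dt_tri (L.tri h hh).1, ← Finset.prod_pow_eq_pow_sum]
  exact Finset.prod_congr rfl fun u hu => by
    rw [(L.tri h hh).2.2 _ (by have := Finset.mem_range.1 hu; omega), ← add_assoc]

theorem exMid (L : Lk p d k ρ E P S s t) (c : CyL p d k ρ P S) {x y : ℕ} (h : x + k < y) (N : Nx ρ ⊤ x y) :
    ∃ w₁ z w₂, x + w₁ ≤ z ∧ z + w₂ = y ∧ Nx ρ (normalizer (P : Set G)) x (x + w₁) ∧
      Nx ρ (normalizer (P : Set G)) z (z + w₂) := by
  classical
  have ix : Inv ρ (normalizer (P : Set G)) x := fun g _ => N.ix g trivial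
  have iy : Inv ρ (normalizer (P : Set G)) y := fun g _ => N.iy g trivial
  have ex : ∃ z, x < z ∧ z < y ∧ Inv ρ (normalizer (P : Set G)) z := by
    by_contra! e
    obtain ⟨w, rfl⟩ := Nat.exists_eq_add_of_le N.lt.le
    have h1 := c.triv _ x w (le_normalizer.trans L.BH) le_rfl ⟨N.lt, N.le, ix, iy, e⟩ t L.tP
    have h2 := L.k2
    refine L.nt x (h.trans_le N.le) ?_
    rw [← add_zero x, add_assoc, zero_add, ← en_bk (w := w) _ (by omega) (by omega), h1, en_one, if_neg (by omega)]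
  obtain ⟨h1, h2, h3⟩ := Nat.find_spec ex
  obtain ⟨h4, h5, h6⟩ := Nat.findGreatest_spec (P := fun z => x < z ∧ z < y ∧ Inv ρ (normalizer (P : Set G)) z)
    h2.le ⟨h1, h2, h3⟩
  have h7 := Nat.le_findGreatest (P := fun z => x < z ∧ z < y ∧ Inv ρ (normalizer (P : Set G)) z) h2.le ⟨h1, h2, h3⟩
  obtain ⟨w₁, e₁⟩ := Nat.exists_eq_add_of_le h1.le
  obtain ⟨w₂, e₂⟩ := Nat.exists_eq_add_of_le h5.le
  refine ⟨w₁, _, w₂, e₁ ▸ h7, e₂.symm, e₁ ▸ ⟨h1, h2.le.trans N.le, ix, h3, fun z a b c => ?_⟩,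
    e₂ ▸ ⟨h5, N.le, h6, iy, fun z a b c => ?_⟩⟩
  · exact Nat.find_min ex b ⟨a, b.trans h2, c⟩
  · exact Nat.findGreatest_is_greatest a b.le ⟨h4.trans a, b, c⟩

/-- the case that `N(P) = N(S)` -/
theorem borel (L : Lk p d k ρ E P S s t) (q : QL p d ρ (normalizer (P : Set G))) (k3 : 3 ≤ k) {x y : ℕ} (h : x + k < y)
    (N : Nx ρ ⊤ x y) (hB : normalizer (P : Set G) ≤ normalizer (S : Set G)) : False := by
  obtain ⟨b, hb, gen⟩ := exGen L
  have iv : ∀ z, Inv ρ (normalizer (P : Set G)) z := fun z g hg => (L.tri g (hB hg)).1.st z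
  have h0 := (L.tri b hb).2.1
  have h1 := N.le
  have h2 := L.dp
  generalize wa (ρ b) = α at *
  have top : ∀ w o, 1 ≤ w → w ≤ 3 → 1 ≤ o → w * o + 2 ≤ p → (α ^ ∑ u ∈ Finset.range w, (k + 1 + x + u)) ^ o ≠ 1 :=
    fun w o a₁ a₂ a₃ a₄ e => N.no (x + w) (by omega) (by omega) (q.top x w o a₃ a₄ (by omega) N.ix (iv _) fun g hg => by
      obtain ⟨i, hi⟩ := gen g (hB hg)
      rw [dtB L (hB hg) (by omega), hi, pow_right_comm _ i, pow_right_comm _ i, e, one_pow])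
  have h3 := ZMod.orderOf_dvd_card_sub_one (pow_ne_zero (k + 1 + x) h0)
  have h4 := Nat.pos_of_dvd_of_pos h3 (by omega)
  have h5 : orderOf (α ^ (k + 1 + x)) = p - 1 := le_antisymm (Nat.le_of_dvd (by omega) h3) (by
    by_contra! e
    exact top 1 _ le_rfl (by omega) h4 (by omega) (by simp))
  have : NeZero (p - 1) := ⟨by omega⟩
  obtain ⟨r, hr, e⟩ := (h5 ▸ IsPrimitiveRoot.orderOf (α ^ (k + 1 + x))).eq_pow_of_pow_eq_one
    (ZMod.pow_card_sub_one_eq_one (inv_ne_zero h0))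
  have e' : α ^ ((k + 1 + x) * r + 1) = 1 := by rw [pow_succ, pow_mul, e, inv_mul_cancel₀ h0]
  rcases r with _ | _ | _ | r
  · rw [show α = 1 by simpa using e', one_pow, orderOf_one] at h5
    omega
  · refine top 3 1 (by omega) le_rfl le_rfl (by omega) ?_
    rw [pow_one, show ∑ u ∈ Finset.range 3, (k + 1 + x + u) = ((k + 1 + x) * (0 + 1) + 1) * 3 by
      simp [Finset.sum_range_succ]; ring, pow_mul, e', one_pow]
  · refine top 2 1 (by omega) (by omega) le_rfl (by omega) ?_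
    rw [pow_one, ← e']
    congr 1
    simp [Finset.sum_range_succ]; ring
  · refine N.no (x + 1) (by omega) (by omega) (q.mix x (r + 1) (by omega) (by omega) (by omega) N.ix (iv _) (iv _)
      fun g hg => ?_)
    obtain ⟨i, hi⟩ := gen g (hB hg)
    rw [dtB L (hB hg) (by omega), dtB L (hB hg) (by omega), hi, ← pow_mul, ← pow_add, pow_right_comm,
      show (∑ u ∈ Finset.range 1, (k + 1 + x + u)) * (r + 1) + ∑ u ∈ Finset.range 2, (k + 1 + x + u) =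
        (k + 1 + x) * (r + 1 + 1 + 1) + 1 by simp [Finset.sum_range_succ]; ring, e', one_pow]

theorem last {α : ZMod p} {w ε : ℕ} (hw : 1 ≤ w) (h : orderOf α = 2 * w)
    (h1 : α ^ ∑ u ∈ Finset.range w, (ε + u) ≠ 1) (h2 : α ^ ∑ u ∈ Finset.range w, (ε + w + u) ≠ 1)
    (h3 : (α ^ ∑ u ∈ Finset.range w, (ε + u)) ^ 2 = 1) (h4 : (α ^ ∑ u ∈ Finset.range w, (ε + w + u)) ^ 2 = 1) :
    False := by
  have e1 : ∑ u ∈ Finset.range w, (ε + w + u) = ∑ u ∈ Finset.range w, (ε + u) + w * w := by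
    rw [Finset.sum_add_distrib, Finset.sum_add_distrib, Finset.sum_add_distrib]; simp; ring
  have e2 : (∑ u ∈ Finset.range w, (ε + u)) * 2 = 2 * w * ε + w * (w - 1) := by
    rw [Finset.sum_add_distrib, add_mul, Finset.sum_range_id_mul_two]; simp; ring
  have h5 := (sq_eq_one_iff.1 h4).resolve_left h2
  rw [e1, pow_add, (sq_eq_one_iff.1 h3).resolve_left h1, neg_one_mul, neg_inj, ← orderOf_dvd_iff_pow_eq_one, h,
    Nat.mul_dvd_mul_iff_right hw] at h5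
  rw [← pow_mul, ← orderOf_dvd_iff_pow_eq_one, h, e2, Nat.dvd_add_right (dvd_mul_right _ _), mul_comm 2,
    Nat.mul_dvd_mul_iff_left hw] at h3
  omega

end I3x

open I3x in
theorem i3 : I3.{u} := by
  intro G _ _ p d k hp ρ E P S s t L c q k3
  obtain ⟨x, y, h, N⟩ := c.gap
  obtain ⟨w₁, z, w₂, hz, rfl, N₁, N₂⟩ := exMid L c h N
  obtain ⟨b, hb, gen⟩ := exGen L
  have h0 := (L.tri b hb).2.1
  have h1 := N.le
  have h2 := L.dp
  have h3 := N₁.lt
  have h4 := N₂.lt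
  have SB : S ≤ normalizer (S : Set G) := le_normalizer
  have hm : ∀ g ∈ normalizer (P : Set G), ∀ h ∈ normalizer (P : Set G), (dt x w₁ (ρ (g * h)), dt z w₂ (ρ (g * h))) =
      (dt x w₁ (ρ g), dt z w₂ (ρ g)) * (dt x w₁ (ρ h), dt z w₂ (ρ h)) := fun g hg h hh => by
    rw [map_mul, dt_mul (N₁.iy g hg) (N₁.ix h hh) N₁.le, dt_mul (N₂.iy g hg) (N₂.ix h hh) N₂.le]; rfl
  have hS : ∀ g ∈ S, (dt x w₁ (ρ g), dt z w₂ (ρ g)) = 1 := fun g hg => by
    rw [dtB L (SB hg) N₁.le, dtB L (SB hg) N₂.le, (L.w1 g (SB hg)).2 hg, one_pow, one_pow]; rfl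
  obtain ⟨K, mK, nK⟩ := exK (f := fun g => (dt x w₁ (ρ g), dt z w₂ (ρ g))) (hS 1 (one_mem _)) hm
  have SK : S ≤ K := fun g hg => (mK g).2 ⟨L.BH (SB hg), hS g hg⟩
  have KH : K ≤ normalizer (P : Set G) := fun g hg => ((mK g).1 hg).1
  have syl : IsSylowIn p S ⊤ := ⟨le_top, L.pg, by rw [relIndex_top_right]; exact L.syl⟩
  have fr := fun h hh => CL.Even.frattini_mul (syl.of_le SK le_top) KH nK (h := h) hh
  have nx : ∀ {u v}, Nx ρ (normalizer (P : Set G)) u v → Nx ρ K u v := fun N => ⟨N.lt, N.le,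
    fun g hg => N.ix g (KH hg), fun g hg => N.iy g (KH hg), fun z a b c => N.no z a b fun g hg => by
      obtain ⟨a, ha, n, hn, rfl⟩ := fr g hg
      exact map_mul ρ a n ▸ ((L.tri a ha.2).1.st z).mul (c n hn)⟩
  generalize wa (ρ b) = α at *
  generalize e₁ : ∑ u ∈ Finset.range w₁, (k + 1 + x + u) = n₁
  generalize e₂ : ∑ u ∈ Finset.range w₂, (k + 1 + z + u) = n₂
  have fB : ∀ g ∈ normalizer (S : Set G), ∀ i, wa (ρ g) = α ^ i →
      (dt x w₁ (ρ g), dt z w₂ (ρ g)) = (α ^ n₁, α ^ n₂) ^ i := fun g hg i hi => by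
    rw [dtB L hg N₁.le, dtB L hg N₂.le, hi, e₁, e₂, pow_right_comm _ i, pow_right_comm _ i]; rfl
  have fH : ∀ g ∈ normalizer (P : Set G), ∃ i, dt x w₁ (ρ g) = (α ^ n₁) ^ i ∧ dt z w₂ (ρ g) = (α ^ n₂) ^ i :=
    fun g hg => by
      obtain ⟨a, ha, n, hn, rfl⟩ := fr g hg
      obtain ⟨i, hi⟩ := gen a ha.2
      exact ⟨i, Prod.ext_iff.1 ((hm a ha.1 n (KH hn)).trans (by rw [((mK n).1 hn).2, mul_one, fB a ha.2 i hi]))⟩
  have s₁ : ∀ o, 1 ≤ o → (α ^ n₁) ^ o = 1 → p ≤ w₁ * o + 1 := fun o a e => by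
    by_contra! l
    refine N.no (x + w₁) h3 (by omega) (q.top x w₁ o a l N₁.le N.ix N₁.iy fun g hg => ?_)
    obtain ⟨i, hi, -⟩ := fH g hg
    rw [hi, pow_right_comm, e, one_pow]
  have s₂ : ∀ o, 1 ≤ o → (α ^ n₂) ^ o = 1 → p ≤ w₂ * o + 1 := fun o a e => by
    by_contra! l
    refine N.no z (by omega) h4 (q.bot z w₂ o a l N₂.le N₂.ix N.iy fun g hg => ?_)
    obtain ⟨i, -, hi⟩ := fH g hg
    rw [hi, pow_right_comm, e, one_pow]
  have h5 := ZMod.orderOf_dvd_card_sub_one h0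
  obtain ⟨e₀, he⟩ : orderOf (α ^ n₁, α ^ n₂) ∣ orderOf α := orderOf_dvd_of_pow_eq_one (Prod.ext
    (by rw [Prod.pow_fst, pow_right_comm, pow_orderOf_eq_one, one_pow]; rfl)
    (by rw [Prod.pow_snd, pow_right_comm, pow_orderOf_eq_one, one_pow]; rfl))
  have h6 := Prod.ext_iff.1 (pow_orderOf_eq_one (α ^ n₁, α ^ n₂))
  have aK : ∀ g ∈ K, g ∈ normalizer (S : Set G) → wa (ρ g) ^ e₀ = 1 := fun g hg hg' => by
    obtain ⟨i, hi⟩ := gen g hg'
    obtain ⟨j, rfl⟩ := orderOf_dvd_of_pow_eq_one ((fB g hg' i hi).symm.trans ((mK g).1 hg).2)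
    rw [hi, ← pow_mul, mul_right_comm, ← he, pow_mul, pow_orderOf_eq_one, one_pow]
  generalize orderOf (α ^ n₁, α ^ n₂) = o at *
  have h7 := Nat.pos_of_dvd_of_pos h5 (by omega)
  have h8 := Nat.le_of_dvd (by omega) h5
  rw [he] at h7 h8
  have ho := Nat.pos_of_mul_pos_right h7
  have h9 := Nat.pos_of_mul_pos_left h7
  have t₁ := s₁ o ho h6.1
  have t₂ := s₂ o ho h6.2
  have l₁ : e₀ ≤ w₁ := Nat.le_of_mul_le_mul_left (by rw [mul_comm o w₁]; omega) ho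
  have l₂ : e₀ ≤ w₂ := Nat.le_of_mul_le_mul_left (by rw [mul_comm o w₂]; omega) ho
  obtain rfl : e₀ = w₁ := l₁.antisymm (not_lt.1 fun l => c.c2 K x w₁ e₀ SK KH (nx N₁) h9 l (by omega) aK)
  obtain rfl : e₀ = w₂ := l₂.antisymm (not_lt.1 fun l => c.c2 K z w₂ e₀ SK KH (nx N₂) h9 l (by omega) aK)
  by_cases a₁ : e₀ = 1
  · have := c.chain K SK KH fun g hg hg' => (L.w1 g hg').1 (by simpa [a₁] using aK g hg hg')
    refine borel L q k3 h N fun g hg => ?_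
    obtain ⟨a, ha, n, hn, rfl⟩ := fr g hg
    exact mul_mem ha.2 (this hn)
  by_cases a₂ : 3 * e₀ ≤ p + 1
  · have a₃ : ∀ g ∈ K, g ∈ normalizer (S : Set G) → wa (ρ g) ^ ((k + 1 + x) % e₀) = wa (ρ g) ^ (k + 1 + x) :=
      fun g hg hg' => (pow_eq_pow_mod _ (aK g hg hg')).symm
    have a₄ := Nat.mod_lt (k + 1 + x) h9
    by_cases a₅ : (k + 1 + x) % e₀ = 0
    · exact c.c1 K x e₀ SK KH (nx N₁) (by omega) fun g hg hg' => by rw [← a₃ g hg hg', a₅, pow_zero]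
    · exact c.c3 K x e₀ _ SK KH (nx N₁) (by omega) a₄ (by omega) a₃
  rw [mul_comm e₀] at t₁
  obtain rfl : o = 2 := le_antisymm (Nat.lt_succ_iff.1 (Nat.lt_of_mul_lt_mul_right (a := e₀) (by omega)))
    (Nat.le_of_mul_le_mul_right (by omega) h9)
  obtain rfl : z = x + e₀ := by omega
  subst e₁ e₂
  rw [← add_assoc] at s₂ h6
  exact last h9 he (fun e => by have := s₁ 1 le_rfl (by rw [e, one_pow]); omega)
    (fun e => by have := s₂ 1 le_rfl (by rw [e, one_pow]); omega) h6.1 h6.2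

end CL.MX
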