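/-
Project MX: first consequences of the linear configuration `Lin`.
-/
import Cfsg.Agent.MX.Defs

set_option autoImplicit false

namespace CL.MX

open Subgroup Cfsg
open scoped commutatorElement

universe u

namespace LB

section Mat
variable {p d : ℕ}

theorem en_mul_J (A : Mt p d) (u v : ℕ) : en (A * Jm p d) u v = en A u (v + 1) := by
  rw [en_mul, Finset.sum_eq_single (v + 1)]
  · rw [en_Jm]
    by_cases h : v + 1 < d
    · rw [if_pos ⟨rfl, h⟩, mul_one]
    · rw [en_right _ _ (not_lt.1 h), zero_mul]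
  · intro w _ hw
    rw [en_Jm, if_neg (by omega), mul_zero]
  · intro k
    rw [en_right _ _ (by simpa using k), zero_mul]

theorem en_J_mul (A : Mt p d) {u : ℕ} (hu : u + 1 < d) (v : ℕ) : en (Jm p d * A) (u + 1) v = en A u v := by
  rw [en_mul, Finset.sum_eq_single u]
  · rw [en_Jm, if_pos ⟨rfl, hu⟩, one_mul]
  · intro w _ hw
    rw [en_Jm, if_neg (by omega), zero_mul]
  · intro k
    exact absurd (Finset.mem_range.2 (by omega)) k

theorem en_mul_Jpow (A : Mt p d) (u : ℕ) : ∀ j v, en (A * Jm p d ^ j) u v = en A u (v + j)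
  | 0, v => by simp
  | j + 1, v => by rw [pow_succ, ← mul_assoc, en_mul_J, en_mul_Jpow A u j, add_assoc, add_comm 1 j]

theorem en_sub_one (A : Mt p d) {u v : ℕ} (h : u ≠ v) : en (A - 1) u v = en A u v := by
  rw [en_sub, en_one, if_neg (by omega), sub_zero]

theorem diag_one {A : Mt p d} (h : Rs 1 (A - 1)) {u : ℕ} (hu : u < d) : en A u u = 1 := by
  have := h u u (by omega)
  rwa [en_sub, en_one, if_pos ⟨rfl, hu⟩, sub_eq_zero] at this

theorem mul_sub {δ : ℕ} {A B : Mt p d} (hA : Rs δ (A - 1)) (hB : Rs δ (B - 1)) : Rs δ (A * B - 1) := by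
  rw [show A * B - 1 = (A - 1) * (B - 1) + (A - 1) + (B - 1) by noncomm_ring]
  exact (((hA.mul hB).mono (by omega)).add hA).add hB

theorem mul_en {δ : ℕ} (hδ : 1 ≤ δ) {A B : Mt p d} (hA : Rs δ (A - 1)) (hB : Rs δ (B - 1)) (u : ℕ) :
    en (A * B) (u + δ) u = en A (u + δ) u + en B (u + δ) u := by
  have n : u + δ ≠ u := by omega
  rw [← en_sub_one _ n, ← en_sub_one A n, ← en_sub_one B n,
    show A * B - 1 = (A - 1) * (B - 1) + (A - 1) + (B - 1) by noncomm_ring, en_add, en_add,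
    hA.mul hB _ _ (by omega), zero_add]

theorem pow_sub {δ : ℕ} {A : Mt p d} (hA : Rs δ (A - 1)) : ∀ c : ℕ, Rs δ (A ^ c - 1)
  | 0 => fun u v _ => by rw [pow_zero, sub_self, en_zero]
  | c + 1 => by rw [pow_succ]; exact mul_sub (pow_sub hA c) hA

theorem pow_en {δ : ℕ} (hδ : 1 ≤ δ) {A : Mt p d} (hA : Rs δ (A - 1)) (u : ℕ) :
    ∀ c : ℕ, en (A ^ c) (u + δ) u = c * en A (u + δ) u
  | 0 => by rw [pow_zero, en_one, if_neg (by omega)]; simp
  | c + 1 => by rw [pow_succ, mul_en hδ (pow_sub hA c) hA, pow_en hδ hA u c]; push_cast; ring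

theorem toep {A : Mt p d} (h : A * Jm p d = Jm p d * A) (m : ℕ) : ∀ u, u + m < d → en A (u + m) u = en A m 0
  | 0, _ => by rw [zero_add]
  | u + 1, hu => by
    rw [← toep h m u (by omega), ← en_J_mul A (show u + m + 1 < d by omega), ← h, en_mul_J, add_right_comm]

theorem diag_mul {A B : Mt p d} (hA : Rs 0 A) (hB : Rs 0 B) (u : ℕ) : en (A * B) u u = en A u u * en B u u := by
  simpa using hA.en_mul hB u

theorem pow_p [Fact p.Prime] (hd : 0 < d) (hp : d < p) {A : Mt p d} (hA : Rs 1 (A - 1)) : A ^ p = 1 := by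
  have : Nonempty (Fin d) := ⟨⟨0, hd⟩⟩
  have := add_pow_char_of_commute p (Commute.one_left (A - 1))
  rwa [add_sub_cancel, one_pow, (hA.pow p).eq_zero (by omega), add_zero] at this

theorem pow_ne [Fact p.Prime] {A : Mt p d} (hA : Rs 1 A) (h : ∀ u, u + 1 < d → en A (u + 1) u ≠ 0) :
    ∀ m < d, en (A ^ m) m 0 ≠ 0
  | 0, hm => by rw [pow_zero, en_one, if_pos ⟨rfl, hm⟩]; exact one_ne_zero
  | m + 1, hm => by
    have := hA.en_mul (one_mul m ▸ hA.pow m) 0
    rw [zero_add] at this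
    rw [pow_succ', this]
    exact mul_ne_zero (h m hm) (pow_ne hA h m (by omega))

/-- the commutator computation -/
theorem big_aux [Fact p.Prime] {k : ℕ} {σ τ : Mt p d} (hp : d < p) (k2 : 2 ≤ k) (kd : k < d) (rt : Rs k τ)
    (tJ : τ * Jm p d = Jm p d * τ) (c0 : en τ k 0 ≠ 0) (hσ : Rs 2 (σ - 1)) (hc : σ * τ = τ * σ)
    (e : σ * Jm p d - Jm p d * σ = τ * ((1 + Jm p d) * σ)) : 3 ≤ k ∧ d < 2 * k := by
  have hB : Rs 1 ((1 + Jm p d) * σ - 1) := mul_sub (by simpa using rs_Jm) (hσ.mono (by omega))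
  have rA : Rs k (σ * Jm p d - Jm p d * σ) := e ▸ (by simpa using rt.mul hB.one_add)
  have eA : ∀ u, u + k < d → en (σ * Jm p d - Jm p d * σ) (u + k) u = en τ k 0 := fun u hu => by
    have := rt.en_mul hB.one_add u
    rw [add_zero] at this
    rw [e, this, diag_one hB (by omega), mul_one, toep tJ k u hu]
  have df : ∀ u m, u + m + 1 < d →
      en (σ * Jm p d - Jm p d * σ) (u + m + 1) u = en σ (u + 1 + m) (u + 1) - en σ (u + m) u := fun u m hu => by
    rw [en_sub, en_mul_J, en_J_mul _ hu, add_right_comm u 1 m]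
  have f0 : ∀ m, m + 1 < k → ∀ u, u + m < d → en σ (u + m) u = en σ m 0 := fun m hm u => by
    induction u with
    | zero => intro _; rw [zero_add]
    | succ u ih =>
      intro hu
      rw [← ih (by omega), ← sub_eq_zero, ← df u m (by omega)]
      exact rA _ _ (by omega)
  have f1 : ∀ u, u + (k - 1) < d → en σ (u + (k - 1)) u = en σ (k - 1) 0 + u * en τ k 0 := fun u => by
    induction u with
    | zero => intro _; simp
    | succ u ih =>
      intro hu
      have := df u (k - 1) (by omega)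
      rw [show u + (k - 1) + 1 = u + k by omega, eA u (by omega), ih (by omega)] at this
      push_cast
      linear_combination -this
  constructor
  · by_contra h
    obtain rfl : k = 2 := by omega
    apply c0
    rw [← eA 0 (by omega), show σ * Jm p d - Jm p d * σ = (σ - 1) * Jm p d - Jm p d * (σ - 1) by noncomm_ring]
    exact ((hσ.mul rs_Jm).sub (rs_Jm.mul hσ)) _ _ (by omega)
  · by_contra h
    have r0 := (hσ.mono (show 1 ≤ 2 by omega)).one_add
    have s1 : en (σ * τ) (2 * k - 1) 0 =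
        ∑ m ∈ Finset.range (2 * k), en σ (2 * k - 1) (2 * k - 1 - m) * en τ (2 * k - 1 - m) 0 := by
      rw [Finset.sum_range_reflect (fun w => en σ (2 * k - 1) w * en τ w 0), en_mul]
      refine (Finset.sum_subset (Finset.range_mono (by omega)) fun w _ hw => ?_).symm
      rw [r0 _ _ (by simp at hw; omega), zero_mul]
    have s2 : en (τ * σ) (2 * k - 1) 0 = ∑ m ∈ Finset.range (2 * k), en τ (2 * k - 1) m * en σ m 0 := by
      rw [en_mul]
      refine (Finset.sum_subset (Finset.range_mono (by omega)) fun w _ hw => ?_).symm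
      rw [rt _ _ (by simp at hw; omega), zero_mul]
    rw [hc, s2, eq_comm, ← sub_eq_zero, ← Finset.sum_sub_distrib, Finset.sum_eq_single (k - 1)] at s1
    · have a1 := f1 k (by omega)
      have a2 := toep tJ k (k - 1) (by omega)
      rw [show k + (k - 1) = 2 * k - 1 by omega] at a1
      rw [show k - 1 + k = 2 * k - 1 by omega] at a2
      rw [show 2 * k - 1 - (k - 1) = k by omega, a1, a2] at s1
      have : (k : ZMod p) * (en τ k 0 * en τ k 0) = 0 := by linear_combination s1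
      rcases mul_eq_zero.1 this with z | z
      · exact absurd (Nat.le_of_dvd (by omega) ((ZMod.natCast_eq_zero_iff k p).1 z)) (by omega)
      · exact c0 (mul_self_eq_zero.1 z)
    · intro m hm n
      have hm := Finset.mem_range.1 hm
      by_cases l : k ≤ m
      · rw [rt (2 * k - 1 - m) 0 (by omega), rt (2 * k - 1) m (by omega), mul_zero, zero_mul, sub_zero]
      · have a1 := f0 m (by omega) (2 * k - 1 - m) (by omega)
        have a2 := toep tJ (2 * k - 1 - m) m (by omega)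
        rw [show 2 * k - 1 - m + m = 2 * k - 1 by omega] at a1
        rw [show m + (2 * k - 1 - m) = 2 * k - 1 by omega] at a2
        rw [a1, a2, mul_comm, sub_self]
    · intro n
      exact absurd (Finset.mem_range.2 (by omega)) n

end Mat

variable {G : Type u} [Group G] [Finite G] {p d : ℕ} [hp : Fact p.Prime] {ρ : G →* Mt p d} {E P S : Subgroup G}
  {s t : G}

theorem gen (h : Lin p d ρ E P S s t) : ∀ y ∈ S, ∃ a < p, (s ^ a)⁻¹ * y ∈ P := by
  intro y hy
  obtain ⟨n, hn⟩ := IsPGroup.iff_card.1 h.pg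
  have hi : (P.subgroupOf S).index = p := h.idx
  have n0 : n ≠ 0 := by
    rintro rfl
    have := (P.subgroupOf S).index_dvd_card
    rw [hi, hn, pow_zero, Nat.dvd_one] at this
    exact hp.out.ne_one this
  have : (P.subgroupOf S).Normal := normal_of_index_eq_minFac_card (by rw [hi, hn, hp.out.pow_minFac n0])
  have hc : Nat.card (S ⧸ P.subgroupOf S) = p := hi
  have h1 : ((⟨s, h.sS⟩ : S) : S ⧸ P.subgroupOf S) ≠ 1 := fun e =>
    h.sP (mem_subgroupOf.1 ((QuotientGroup.eq_one_iff _).1 e))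
  have hm : ((⟨y, hy⟩ : S) : S ⧸ P.subgroupOf S) ∈ zpowers ((⟨s, h.sS⟩ : S) : S ⧸ P.subgroupOf S) :=
    mem_zpowers_of_prime_card hc h1
  classical
  obtain ⟨a, ha, e⟩ := Finset.mem_image.1 (mem_zpowers_iff_mem_range_orderOf.1 hm)
  refine ⟨a, (Finset.mem_range.1 ha).trans_le (orderOf_le_card.trans_eq hc), ?_⟩
  rw [← QuotientGroup.mk_pow, QuotientGroup.eq, mem_subgroupOf] at e
  exact e

omit [Finite G] in
theorem rs (h : Lin p d ρ E P S s t) : Rs 1 (ρ s - 1) := by simpa [h.ρs] using rs_Jm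

omit [Finite G] in
theorem ent (h : Lin p d ρ E P S s t) {y : G} {a : ℕ} (ha : (s ^ a)⁻¹ * y ∈ P) :
    Rs 1 (ρ y - 1) ∧ ∀ u, u + 1 < d → en (ρ y) (u + 1) u = a := by
  have e : ρ y = ρ s ^ a * ρ ((s ^ a)⁻¹ * y) := by rw [← map_pow, ← map_mul, mul_inv_cancel_left]
  have r := h.rP _ ha
  rw [e]
  refine ⟨mul_sub (pow_sub (rs h) a) (r.mono (by omega)), fun u hu => ?_⟩
  rw [mul_en le_rfl (pow_sub (rs h) a) (r.mono (by omega)), pow_en le_rfl (rs h), ← en_sub_one (ρ (_ * y)) (by omega),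
    r _ _ (by omega), h.ρs, en_add, en_one, en_Jm, if_neg (by omega), if_pos ⟨rfl, hu⟩]
  simp

theorem rS (h : Lin p d ρ E P S s t) (y : G) (hy : y ∈ S) : Rs 1 (ρ y - 1) :=
  (gen h y hy).elim fun _ ha => (ent h ha.2).1

theorem reg (h : Lin p d ρ E P S s t) (y : G) (hy : y ∈ S) (n : y ∉ P) (u : ℕ) (hu : u + 1 < d) :
    en (ρ y) (u + 1) u ≠ 0 := by
  obtain ⟨a, ap, ha⟩ := gen h y hy
  rw [(ent h ha).2 u hu]
  intro z
  obtain rfl := Nat.eq_zero_of_dvd_of_lt ((ZMod.natCast_eq_zero_iff a p).1 z) ap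
  exact n (by simpa using ha)

omit [Finite G] in
theorem tJ (h : Lin p d ρ E P S s t) : (ρ t - 1) * Jm p d = Jm p d * (ρ t - 1) := by
  have := (h.tc s h.sS).eq
  rw [h.ρs] at this
  linear_combination (norm := noncomm_ring) this

omit [Finite G] in
theorem exk (h : Lin p d ρ E P S s t) : ∃ k, 2 ≤ k ∧ k < d ∧ Rs k (ρ t - 1) ∧ en (ρ t - 1) k 0 ≠ 0 := by
  classical
  have n0 : ρ t - 1 ≠ 0 := fun e => h.tE ((h.ker t).1 (sub_eq_zero.1 e))
  have ex : ∃ k, ¬ Rs (k + 1) (ρ t - 1) := ⟨d, fun r => n0 (r.eq_zero (by omega))⟩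
  have k2 : 2 ≤ Nat.find ex := (Nat.le_find_iff ex 2).2 fun m hm => not_not.2 ((h.rP t h.tP).mono (by omega))
  have rk : Rs (Nat.find ex) (ρ t - 1) := by
    have := Nat.find_min ex (m := Nat.find ex - 1) (by omega)
    rwa [not_not, show Nat.find ex - 1 + 1 = Nat.find ex by omega] at this
  refine ⟨_, k2, not_le.1 fun l => n0 (rk.eq_zero l), rk, fun z => Nat.find_spec ex fun u v huv => ?_⟩
  by_cases l : u < v + Nat.find ex
  · exact rk u v l
  · obtain rfl : u = v + Nat.find ex := by omega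
    by_cases l' : v + Nat.find ex < d
    · rw [toep (tJ h) _ _ l', z]
    · exact en_left _ (not_lt.1 l') _

theorem memP (h : Lin p d ρ E P S s t) (d3 : 2 < d) (y : G) (hy : y ∈ S) : y ∈ P ↔ (ρ y - 1) ^ (d - 1) = 0 := by
  refine ⟨fun k => ((h.rP y k).pow _).eq_zero (by omega), fun z => by_contra fun n => ?_⟩
  refine pow_ne (rS h y hy) (fun u hu => ?_) (d - 1) (by omega) (by rw [z, en_zero])
  rw [en_sub_one _ (by omega)]
  exact reg h y hy n u hu

omit [Finite G] in
theorem cj (g y : G) : ρ g * (ρ y - 1) = (ρ (g * y * g⁻¹) - 1) * ρ g := by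
  rw [_root_.mul_sub, sub_mul, ← map_mul, ← map_mul, inv_mul_cancel_right, mul_one, one_mul]

theorem tri0 (h : Lin p d ρ E P S s t) {g : G} (hg : g ∈ normalizer (S : Set G)) : Rs 0 (ρ g) := by
  intro u v huv
  have e : SemiconjBy (ρ g) (ρ s - 1) (ρ (g * s * g⁻¹) - 1) := cj g s
  have e' := congrArg (en · u 0) (e.pow_right v).eq
  simp only [h.ρs, add_sub_cancel_left] at e'
  rw [en_mul_Jpow, zero_add] at e'
  rw [e', en_mul]
  refine Finset.sum_eq_zero fun w _ => ?_
  rw [(rS h _ ((mem_normalizer_iff.1 hg s).1 h.sS)).pow v u w (by omega), zero_mul]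

theorem diag_ne (h : Lin p d ρ E P S s t) {g : G} (hg : g ∈ normalizer (S : Set G)) {u : ℕ} (hu : u < d) :
    en (ρ g) u u ≠ 0 := by
  have := diag_mul (tri0 h hg) (tri0 h (inv_mem hg)) u
  rw [← map_mul, mul_inv_cancel, map_one, en_one, if_pos ⟨rfl, hu⟩] at this
  exact left_ne_zero_of_mul_eq_one this.symm

theorem tri (h : Lin p d ρ E P S s t) {k : ℕ} (k2 : 2 ≤ k) (kd : k < d) (rt : Rs k (ρ t - 1))
    (c0 : en (ρ t - 1) k 0 ≠ 0) {g : G} (hg : g ∈ normalizer (S : Set G)) :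
    Rs 0 (ρ g) ∧ wa (ρ g) ≠ 0 ∧ ∀ u < d, en (ρ g) u u = wa (ρ g) ^ (k + 1 + u) := by
  obtain ⟨α, c, h1, h2, h3⟩ := h.top g hg
  have r := tri0 h hg
  have n0 := diag_ne h hg (show 0 < d by omega)
  have dg : ∀ u < d, en (ρ g) u u = α ^ u * en (ρ g) 0 0 := fun u => by
    induction u with
    | zero => simp
    | succ u ih =>
      intro hu
      have e := congrArg (en · (u + 1) u) (cj (ρ := ρ) g s)
      have e2 := (ent h h1).1.en_mul r u
      rw [add_zero] at e2
      simp only [h.ρs, add_sub_cancel_left] at e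
      rw [en_mul_J, e2, en_sub_one _ (by omega), (ent h h1).2 u hu, ih (by omega)] at e
      rw [e, pow_succ]
      ring
  have hw : wa (ρ g) = α := by rw [wa, dg 1 (by omega), pow_one, mul_inv_cancel_right₀ n0]
  have hc : (c : ZMod p) = α ^ k := by
    have e := congrArg (en · k 0) (cj (ρ := ρ) g t)
    have e1 := r.en_mul rt 0
    have e2 := (pow_sub rt c).en_mul r 0
    have e3 := pow_en (by omega) rt 0 c
    simp only [zero_add, add_zero] at e1 e2 e3
    simp only [h2] at e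
    rw [e1, e2, en_sub_one (ρ t ^ c) (by omega), e3, ← en_sub_one (ρ t) (by omega), dg k kd] at e
    refine mul_right_cancel₀ (mul_ne_zero c0 n0) ?_
    linear_combination -e
  refine ⟨r, fun z => n0 (by rw [h3, ← hw, z, zero_mul]), fun u hu => ?_⟩
  rw [dg u hu, h3, hc, hw]
  ring

omit [Finite G] in
theorem mem_of_pow (h : Lin p d ρ E P S s t) {g : G} (hg : g ∈ normalizer (S : Set G)) (k : g ^ p ∈ S) : g ∈ S := by
  obtain ⟨m, hm⟩ := h.pg ⟨_, k⟩
  have hm' : g ^ p ^ (m + 1) = 1 := by rw [pow_succ', pow_mul]; exact congrArg Subtype.val hm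
  have hz : IsPGroup p (zpowers g) := by
    rintro ⟨x, hx⟩
    obtain ⟨n, rfl⟩ := mem_zpowers_iff.1 hx
    refine ⟨m + 1, Subtype.ext ?_⟩
    change (g ^ n) ^ p ^ (m + 1) = 1
    rw [← zpow_natCast, ← zpow_mul, mul_comm, zpow_mul, zpow_natCast, hm', one_zpow]
  have := (h.pg.toSylow h.syl).is_maximal' (h.pg.to_sup_of_normal_left' hz (zpowers_le.2 hg)) le_sup_left
  exact (show S ⊔ zpowers g ≤ S from this.le) (mem_sup_right (mem_zpowers g))

theorem cjP (h : Lin p d ρ E P S s t) (d3 : 2 < d) {g : G} (hg : g ∈ normalizer (S : Set G)) {y : G} (hy : y ∈ P) :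
    g * y * g⁻¹ ∈ P := by
  rw [memP h d3 _ ((mem_normalizer_iff.1 hg y).1 (h.PS hy))]
  have e : SemiconjBy (ρ g) (ρ y - 1) (ρ (g * y * g⁻¹) - 1) := cj g y
  have e' := (e.pow_right (d - 1)).eq
  rw [(memP h d3 y (h.PS hy)).1 hy, mul_zero] at e'
  have := congrArg (· * ρ g⁻¹) e'
  simp only [zero_mul] at this
  rw [mul_assoc, ← map_mul, mul_inv_cancel, map_one, mul_one] at this
  exact this.symm

end LB

open LB in
theorem lbThm : LbThm.{u} := by
  intro G _ _ p d hp ρ E P S s t h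
  obtain ⟨k, k2, kd, rt, c0⟩ := exk h
  have d3 : 2 < d := by omega
  refine ⟨k, h, k2, kd, rt, fun u hu => ?_, rS h, reg h, memP h d3, fun y hy => ?_, gen h,
    fun g hg => tri h k2 kd rt c0 hg, fun g hg g' hg' => ?_, fun g hg => ⟨fun e => ?_, fun e => ?_⟩, fun g hg => ?_, ?_⟩
  · rwa [← en_sub_one _ (by omega), toep (tJ h) k u hu]
  · rw [← h.ker, map_pow, pow_p (by omega) h.dp (rS h y hy)]
  · rw [map_mul, wa, wa, wa, diag_mul (tri0 h hg) (tri0 h hg'), diag_mul (tri0 h hg) (tri0 h hg'), mul_inv]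
    ring
  · obtain ⟨r, -, dg⟩ := tri h k2 kd rt c0 hg
    refine mem_of_pow h hg (h.PS (h.EP ?_))
    rw [← h.ker, map_pow]
    refine pow_p (by omega) h.dp fun u v huv => ?_
    by_cases l : u = v
    · subst l
      by_cases l' : u < d
      · rw [en_sub, dg u l', e, one_pow, en_one, if_pos ⟨rfl, l'⟩, sub_self]
      · exact en_left _ (not_lt.1 l') _
    · rw [en_sub_one _ l, r u v (by omega)]
  · rw [wa, diag_one (rS h g e) (by omega), diag_one (rS h g e) (by omega), inv_one, mul_one]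
  · refine mem_normalizer_iff.2 fun y => ⟨cjP h d3 hg, fun k => ?_⟩
    simpa [mul_assoc] using cjP h d3 (inv_mem hg) k
  · refine h.cas.imp_right ?_
    rintro ⟨t', ht', e⟩
    refine big_aux h.dp k2 kd rt (tJ h) c0 (h.rP t' ht') ?_ ?_
    · have := (h.tc t' (h.PS ht')).eq
      linear_combination (norm := noncomm_ring) -this
    · have : ρ t' * ρ s = ρ t * (ρ s * ρ t') := by
        rw [← map_mul, ← map_mul, ← map_mul, e, commutatorElement_def]
        congr 1
        group
      rw [h.ρs] at this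
      linear_combination (norm := noncomm_ring) this

end CL.MX
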