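/-
Project MX: invariance of determinant functions.
-/
import Cfsg.Agent.MX.Defs

set_option autoImplicit false

namespace CL.MX

open Subgroup Cfsg Matrix

universe u

namespace Q

variable {p d : ℕ} {x w u v : ℕ}

theorem pow_eq {M : Mt p d} (h : (M - 1) ^ 2 = 0) (j : ℕ) : M ^ j = 1 + (j : ZMod p) • (M - 1) := by
  obtain ⟨N, rfl⟩ : ∃ N, M = 1 + N := ⟨M - 1, by abel⟩
  rw [add_sub_cancel_left] at h ⊢
  induction j with
  | zero => simp
  | succ j ih =>
    rw [pow_succ, ih, add_mul, mul_add, mul_add, smul_mul_assoc, smul_mul_assoc, ← pow_two N, h]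
    simp only [mul_one, one_mul, smul_zero, add_zero, Nat.cast_succ, add_smul, one_smul]
    abel

theorem deg_dt {M : Mt p d} (h : (M - 1) ^ 2 = 0) (A B : Mt p d) (x w : ℕ) :
    (fun j : ℕ => dt x w (A * M ^ j * B)) ∈ (gr1 p).S w := by
  have := Gr.det (Γ := gr1 p) (A := fun j : ℕ => bk x w (A * M ^ j * B)) (r := fun _ => 1) fun a b => by
    simp only [bk, pow_eq h, mul_add, add_mul, mul_smul_comm, smul_mul_assoc, en_add, en_smul]
    exact Gr.add (Gr.const _ _ _) (Gr.mulc _ (by simpa using gr1_id (p := p) 1))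
  simpa [dt] using this

theorem en_tr (A : Mt p d) (u v : ℕ) : en Aᵀ u v = en A v u := by
  unfold en
  by_cases h : u < d ∧ v < d
  · rw [dif_pos h, dif_pos h.symm]; rfl
  · rw [dif_neg h, dif_neg fun e => h e.symm]

theorem dt_tr (A : Mt p d) : dt x w Aᵀ = dt x w A := by
  rw [dt, dt, ← det_transpose]
  exact congrArg det (Matrix.ext fun a b => en_tr A _ _)

/-- the identity with column `u` replaced by column `v` of `M` -/
def uc (u : ℕ) (M : Mt p d) (v : ℕ) : Mt p d := fun a b => if (b : ℕ) = u then en M a v else (1 : Mt p d) a b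

theorem en_uc (hu : u < d) (M : Mt p d) (a b : ℕ) :
    en (uc u M v) a b = if b = u then en M a v else en (1 : Mt p d) a b := by
  by_cases ha : a < d
  · by_cases hb : b < d
    · rw [en_of_lt _ ha hb, en_of_lt 1 ha hb]; rfl
    · rw [en_right _ _ (not_lt.1 hb), if_neg (by omega), en_right _ _ (not_lt.1 hb)]
  · simp only [en_left _ (not_lt.1 ha), ite_self]

theorem en_mul_uc (hu : u < d) (A M : Mt p d) (a : ℕ) : en (A * uc u M v) a u = en (A * M) a v := by
  simp only [en_mul, en_uc hu, if_true]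

theorem dt_uc (h1 : x ≤ u) (h2 : u < x + w) (h3 : x + w ≤ d) (M : Mt p d) : dt x w (uc u M v) = en M u v := by
  obtain ⟨c, rfl⟩ := Nat.exists_eq_add_of_le h1
  have : bk x w (uc (x + c) M v) = (1 : Mt p w).updateCol ⟨c, by omega⟩ fun a => en M (x + a) v := by
    ext a b
    rw [bk, en_uc (by omega), updateCol_apply, ← bk_one (p := p) h3]
    exact if_congr (by simp [Fin.ext_iff]) rfl rfl
  rw [dt, this, ← cramer_apply, cramer_one]
  rfl

theorem dt_zero (h1 : x ≤ u) (h2 : u < x + w) {A : Mt p d} (h : ∀ a < w, en A (x + a) u = 0) : dt x w A = 0 := by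
  obtain ⟨c, rfl⟩ := Nat.exists_eq_add_of_le h1
  exact det_eq_zero_of_column_eq_zero ⟨c, by omega⟩ fun a => h a a.2

theorem st_uc (hu : u < d) {M : Mt p d} (hM : St x M) (hv : x ≤ v) : St x (uc u M v) := fun a b ha hb => by
  rw [en_uc hu]
  split_ifs
  exacts [hM a v ha hv, rs_one.st x a b ha hb]

variable {G : Type u} [Group G] {ρ : G →* Mt p d} {P : Subgroup G} {t : G}

theorem sq_conj (h : (ρ t - 1) ^ 2 = 0) (g : G) : (ρ (g * t * g⁻¹) - 1) ^ 2 = 0 := by
  have e : ρ g⁻¹ * ρ g = 1 := by rw [← map_mul, inv_mul_cancel, map_one]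
  have : ρ (g * t * g⁻¹) - 1 = ρ g * (ρ t - 1) * ρ g⁻¹ := by
    rw [mul_sub, sub_mul, mul_one, ← map_mul, ← map_mul, ← map_mul, mul_inv_cancel, map_one]
  rw [this, pow_two, mul_assoc, ← mul_assoc (ρ g⁻¹), ← mul_assoc (ρ g⁻¹), e, one_mul, mul_assoc, ← mul_assoc (ρ t - 1),
    ← pow_two, h, zero_mul, mul_zero]

theorem sq_inv (h : (ρ t - 1) ^ 2 = 0) : (ρ t⁻¹ - 1) ^ 2 = 0 := by
  have e : ρ t⁻¹ * ρ t = 1 := by rw [← map_mul, inv_mul_cancel, map_one]
  have e' : ρ t * ρ t⁻¹ = 1 := by rw [← map_mul, mul_inv_cancel, map_one]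
  have h1 : ρ t⁻¹ - 1 = -(ρ t⁻¹ * (ρ t - 1)) := by rw [mul_sub, e, mul_one, neg_sub]
  have h2 : ρ t⁻¹ - 1 = -((ρ t - 1) * ρ t⁻¹) := by rw [sub_mul, e', one_mul, neg_sub]
  rw [pow_two]
  refine (congrArg₂ (· * ·) h1 h2).trans ?_
  rw [neg_mul_neg, mul_assoc, ← mul_assoc (ρ t - 1), ← pow_two, h, zero_mul, mul_zero]

theorem deg_l (h : (ρ t - 1) ^ 2 = 0) (C : Mt p d) (x w : ℕ) (g g₀ : G) :
    (fun j : ℕ => dt x w (ρ ((g₀ * t * g₀⁻¹) ^ j * g)⁻¹ * C)) ∈ (gr1 p).S w := by
  simpa only [_root_.mul_inv_rev (_ ^ _), ← inv_pow, map_mul ρ g⁻¹, map_pow] using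
    deg_dt (sq_inv (sq_conj h g₀)) (ρ g⁻¹) C x w

theorem deg_r (h : (ρ t - 1) ^ 2 = 0) (R : Mt p d) (x w : ℕ) (g g₀ : G) :
    (fun j : ℕ => dt x w (R * ρ ((g₀ * t * g₀⁻¹) ^ j * g))) ∈ (gr1 p).S w := by
  simpa only [map_mul ρ (_ ^ _), map_pow, ← mul_assoc R] using deg_dt (sq_conj h g₀) R (ρ g) x w

theorem const [Finite G] [Fact p.Prime] (hW : WC p P t) {F : G → ZMod p} (hF : RI (normalizer (P : Set G)) ⊤ F) {r : ℕ}
    (hr : r + 2 ≤ p) (h : ∀ g g₀, (fun j : ℕ => F ((g₀ * t * g₀⁻¹) ^ j * g)) ∈ (gr1 p).S r) (k : G) : F k = F 1 := by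
  have h1 := hW F hF fun g g₀ => gr1_sum (h g g₀) hr
  have h2 := hW (fun g => F (k * g)) (fun g _ y hy => by simpa only [mul_assoc] using hF (k * g) trivial y hy)
    fun g g₀ => by
      rw [← gr1_sum (h (k * g) (k * g₀)) hr]
      exact Finset.sum_congr rfl fun j _ => congrArg F (by rw [conj_pow, conj_pow]; group)
  rw [sm_left le_top hF (mem_top k), h1, mul_one] at h2
  exact h2.symm

end Q

open Q

theorem qThm : QThm.{u} := by
  intro G _ _ p d _ ρ P t hW h
  have e1 : ∀ g, ρ g⁻¹ * ρ g = 1 := fun g => by rw [← map_mul, inv_mul_cancel, map_one]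
  have e2 : ∀ g y (C : Mt p d), ρ (g * y)⁻¹ * C = ρ y⁻¹ * (ρ g⁻¹ * C) := fun g y C => by
    rw [_root_.mul_inv_rev, map_mul, mul_assoc]
  refine ⟨fun x w o ho hp hd h1 h2 h3 g _ u v hu hv => by_contra fun hn => ?_,
    fun x w o ho hp hd h1 h2 h3 g _ u v hu hv => by_contra fun hn => ?_,
    fun x r ho hp hd h1 h2 h2' h3 g _ u v hu hv => by_contra fun hn => ?_⟩
  · have hx : x ≤ u := not_lt.1 fun e => hn (h1 g trivial u v e (by omega))
    have hC := st_uc (show u < d by omega) (h1 g trivial) (show x ≤ v by omega)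
    have := const hW (F := fun k => dt x w (ρ k⁻¹ * uc u (ρ g) v) ^ o) (fun k _ y hy => by
      simp only [e2]
      rw [dt_mul (h2 _ (inv_mem hy)) ((h1 _ trivial).mul hC) hd, mul_pow, h3 _ (inv_mem hy), one_mul]) hp
      (fun k g₀ => Gr.pow (deg_l h _ x w k g₀) o) g
    simp only [inv_one, map_one, one_mul] at this
    rw [dt_uc hx hu hd, dt_zero hx hu fun a ha => by
      rw [en_mul_uc (by omega), e1, en_one, if_neg (by omega)], zero_pow (by omega)] at this
    exact pow_ne_zero o hn this.symm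
  · have hx : v < x + w := not_le.1 fun e => hn (h2 g trivial u v (by omega) e)
    have hC : St (x + w) (uc v (ρ g)ᵀ u)ᵀ := fun a b ha hb => by
      rw [en_tr, en_uc (by omega), en_tr, en_one]
      split_ifs
      exacts [h2 g trivial u b (by omega) hb, by omega, rfl]
    have := const hW (F := fun k => dt x w ((uc v (ρ g)ᵀ u)ᵀ * ρ k) ^ o) (fun k _ y hy => by
      simp only [map_mul, ← mul_assoc]
      rw [dt_mul (hC.mul (h2 _ trivial)) (h1 _ hy) hd, mul_pow, h3 _ hy, mul_one]) hp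
      (fun k g₀ => Gr.pow (deg_r h _ x w k g₀) o) g⁻¹
    simp only [map_one, mul_one] at this
    rw [dt_tr, dt_uc hv hx hd, en_tr, ← dt_tr, transpose_mul, transpose_transpose, dt_zero hv hx fun a ha => by
      rw [en_mul_uc (by omega), ← transpose_mul, ← map_mul, mul_inv_cancel, map_one, en_tr, en_one, if_neg (by omega)],
      zero_pow (by omega)] at this
    exact pow_ne_zero o hn this.symm
  · obtain rfl : x = u := le_antisymm (not_lt.1 fun e => hn (h1 g trivial u v e (by omega))) (by omega)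
    have hC := st_uc (show x < d by omega) (h1 g trivial) (show x ≤ v by omega)
    have := const hW (F := fun k => dt x 1 (ρ k⁻¹ * uc x (ρ g) v) ^ r * dt x 2 (ρ k⁻¹ * uc x (ρ g) v)) (fun k _ y hy => by
      simp only [e2]
      rw [dt_mul (h2 _ (inv_mem hy)) ((h1 _ trivial).mul hC) (by omega),
        dt_mul (h2' _ (inv_mem hy)) ((h1 _ trivial).mul hC) hd, mul_pow, mul_mul_mul_comm, h3 _ (inv_mem hy), one_mul])
      (r := 1 * r + 2) (by omega)
      (fun k g₀ => (gr1 p).mul (Gr.pow (deg_l h _ x 1 k g₀) r) (deg_l h _ x 2 k g₀)) g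
    simp only [inv_one, map_one, one_mul] at this
    rw [dt_uc le_rfl hu (by omega), dt_uc le_rfl (by omega) hd, dt_zero le_rfl hu fun a ha => by
      rw [en_mul_uc (by omega), e1, en_one, if_neg (by omega)], zero_pow (by omega), zero_mul] at this
    exact mul_ne_zero (pow_ne_zero r hn) hn this.symm

end CL.MX
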