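/-
Project MX: the trace over `G / N(P)` and the weak closure of `t`.
-/
import Cfsg.Agent.MX.Defs
import Cfsg.Agent.Grp.SylowIn

set_option autoImplicit false

namespace CL.MX

open Subgroup Cfsg CL.Grp MulAction
open scoped Pointwise

universe u

namespace Wc

variable {G : Type u} [Group G] {p : ℕ}

theorem cyc_sum {Ω M : Type*} [MulAction G Ω] [AddCommMonoid M] (hp : p.Prime) {y : G} (hy : ∀ w : Ω, y ^ p • w = w)
    {f : Ω → M} (h0 : ∀ w, ∑ j ∈ Finset.range p, f (y ^ j • w) = 0) (C : Finset Ω) (h1 : ∀ w ∈ C, y • w ∈ C)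
    (h2 : ∀ w ∈ C, y • w ≠ w) : ∑ w ∈ C, f w = 0 := by
  classical
  rw [← Finset.sum_fiberwise_of_maps_to (t := C.image (Quotient.mk (orbitRel (zpowers y) Ω)))
    fun w hw => Finset.mem_image_of_mem _ hw]
  refine Finset.sum_eq_zero fun o ho => ?_
  obtain ⟨w, hw, rfl⟩ := Finset.mem_image.1 ho
  have e : period y w = p := (hp.eq_one_or_self_of_dvd _ (pow_smul_eq_iff_period_dvd.1 (hy w))).resolve_left
    (mt period_eq_one_iff.1 (h2 w hw))
  have h3 : ∀ j : ℕ, y ^ j • w ∈ C := fun j => by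
    induction j with
    | zero => simpa using hw
    | succ j ih => rw [pow_succ', mul_smul]; exact h1 _ ih
  refine (Finset.sum_nbij (y ^ · • w) (fun j _ => Finset.mem_filter.2 ⟨h3 j, Quotient.sound
      (show orbitRel (zpowers y) Ω _ w from ⟨⟨_, npow_mem_zpowers y j⟩, rfl⟩)⟩)
    (fun a ha b hb k => Function.iterate_injOn_Iio_minimalPeriod (f := (y • ·)) (x := w)
      (by simpa [← period_eq_minimalPeriod, e] using ha) (by simpa [← period_eq_minimalPeriod, e] using hb)
      (by simpa using k)) (fun v hv => ?_) fun _ _ => rfl).symm.trans (h0 w)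
  obtain ⟨⟨_, n, rfl⟩, rfl⟩ := Quotient.exact (Finset.mem_filter.1 hv).2
  have h4 : (0 : ℤ) < p := by exact_mod_cast hp.pos
  have h5 := Int.emod_nonneg n h4.ne'
  have h6 := Int.emod_lt_of_pos n h4
  exact ⟨(n % p).toNat, by simp; omega, by
    simp only [← zpow_natCast, Int.toNat_of_nonneg h5]
    exact e ▸ zpow_mod_period_smul n⟩

variable [Finite G]

theorem mem_norm {A : Set G} {z : G} (h : ∀ a ∈ A, z * a * z⁻¹ ∈ A) : z ∈ normalizer (closure A : Set G) :=
  (conj_smul_eq_self_iff _ _).1 (eq_of_le_of_card_ge ((conj_smul_le_iff _ _ _).2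
    ((closure_le ((closure A).comap (MulAut.conj z).toMonoidHom)).2 fun a ha => subset_closure (h a ha)))
    (card_conj_smul _ _).ge)

/-- a proper trace of an invariant subset of a `p`-group is normalised by another element -/
theorem exists_norm [Fact p.Prime] {S D : Subgroup G} {X : Set G} (hS : IsPGroup p S) (h1 : X ⊆ S)
    (h2 : ∀ z ∈ S, ∀ x ∈ X, z * x * z⁻¹ ∈ X) (h3 : ¬ X ⊆ D) :
    ∃ y ∈ X, y ∉ D ∧ y ∈ normalizer (closure (X ∩ D) : Set G) := by
  by_contra! h
  have h4 : ∀ y ∈ X, y ∈ normalizer (closure (X ∩ D) : Set G) → y ∈ D := fun y a b => by_contra fun c => h y a c b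
  obtain ⟨z, ⟨h5, h6⟩, h7⟩ := SetLike.exists_of_lt (lt_inf_normalizer_of_isPGroup hS
    (D := S ⊓ normalizer (closure (X ∩ D) : Set G)) (lt_of_le_of_ne inf_le_left fun e =>
      h3 fun x hx => h4 x hx (e.ge (h1 hx)).2))
  exact h7 ⟨h5, mem_norm fun a ha => ⟨h2 z h5 a ha.1, h4 _ (h2 z h5 a ha.1)
    ((mem_normalizer_iff.1 h6 a).1 ⟨h1 ha.1, le_normalizer (subset_closure ha)⟩).2⟩⟩

end Wc

open Wc in
theorem wcThm : WcThm.{u} := by
  intro G _ _ p d k hp ρ E P S s t h F hF h0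
  classical
  set H := normalizer (P : Set G)
  let X : Set G := {x | x ∈ S ∧ ∃ g, g * t * g⁻¹ = x}
  have XS : X ⊆ S := fun _ hx => hx.1
  have XP : X ⊆ P := by
    rintro _ ⟨hx, g, rfl⟩
    have e : SemiconjBy (ρ g) (ρ t - 1) (ρ (g * t * g⁻¹) - 1) := by
      rw [SemiconjBy, mul_sub, sub_mul, ← map_mul, ← map_mul, inv_mul_cancel_right, mul_one, one_mul]
    have := congrArg (· * ρ g⁻¹) (e.pow_right (d - 1)).eq
    simp only [(h.memP t (h.PS h.tP)).1 h.tP, mul_assoc, ← map_mul, mul_inv_cancel, map_one, mul_one, zero_mul,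
      mul_zero] at this
    exact (h.memP _ hx).2 (by simpa only [mul_assoc] using this.symm)
  have XC : ∀ z, ∀ x ∈ X, z * x * z⁻¹ ∈ S → z * x * z⁻¹ ∈ X := by
    rintro z _ ⟨-, g, rfl⟩ hz
    exact ⟨hz, z * g, by group⟩
  have XC' : ∀ z ∈ S, ∀ x ∈ X, z * x * z⁻¹ ∈ X := fun z hz x hx =>
    XC z x hx (S.mul_mem (S.mul_mem hz hx.1) (S.inv_mem hz))
  have WS : closure X ≤ S := (closure_le _).2 XS
  have nW : normalizer (closure X : Set G) ≤ H := h.mx _ (fun z hz => mem_norm (XC' z hz)) fun e =>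
    h.tE (h.core _ (normalizer_eq_top_iff.1 e) (h.pg.to_le WS) (subset_closure ⟨h.PS h.tP, 1, by simp⟩))
  have fix : ∀ x g : G, x • (g : G ⧸ H) = g ↔ g⁻¹ * x * g ∈ H := fun x g => by
    rw [Quotient.smul_mk, eq_comm, QuotientGroup.eq, smul_eq_mul, mul_assoc]
  have c1 : ∀ g : G, X ⊆ stabilizer G (g : G ⧸ H) → g ∈ H := fun g hg => by
    obtain ⟨a, ha, e⟩ := IsSylowIn.exists_conj_le (U := MulAut.conj g⁻¹ • closure X) (H := H)
      ⟨le_normalizer.trans h.BH, h.pg, fun e => h.syl (e.trans (relIndex_dvd_index_of_le (le_normalizer.trans h.BH)))⟩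
      (IsPGroup.conj_smul (h.pg.to_le WS) _) ((conj_smul_le_iff _ _ _).2 fun x hx => by
        simpa using (fix x g).1 ((closure_le _).2 hg hx))
    rw [conj_smul_conj_smul, conj_smul_le_iff] at e
    simpa using (H.mul_mem_cancel_left ha).1 (nW (mem_norm fun x hx => XC _ x hx (e x (subset_closure hx))))
  let := Fintype.ofFinite (G ⧸ H)
  rw [sm, Finset.filter_true_of_mem fun _ _ => mem_top _, ← Finset.sum_fiberwise_of_maps_to
    (t := Finset.univ.image fun w : G ⧸ H => X ∩ stabilizer G w) fun w hw => Finset.mem_image_of_mem _ hw,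
    Finset.sum_eq_single X, Finset.sum_eq_single_of_mem ((1 : G) : G ⧸ H), hF.out (mem_top _)]
  · exact Finset.mem_filter.2 ⟨Finset.mem_univ _, Set.inter_eq_left.2 fun x hx => (fix x 1).2
      (by simpa using le_normalizer (XP hx))⟩
  · intro w hw ne
    refine (ne ?_).elim
    rw [← QuotientGroup.out_eq' w, eq_comm, QuotientGroup.eq, inv_one, one_mul]
    exact c1 _ (by rw [QuotientGroup.out_eq']; exact Set.inter_eq_left.1 (Finset.mem_filter.1 hw).2)
  · intro A hA ne
    obtain ⟨w, -, rfl⟩ := Finset.mem_image.1 hA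
    obtain ⟨y, hy, h1, h2⟩ := exists_norm h.pg XS XC' (mt Set.inter_eq_left.2 ne)
    refine cyc_sum (y := y) hp.out (fun v => ?_) (fun v => ?_) _ (fun v hv => ?_) fun v hv e => h1
      ((Finset.mem_filter.1 hv).2.le ⟨hy, e⟩).2
    · rw [← QuotientGroup.out_eq' v, fix]
      refine le_normalizer (h.EP ((h.ker _).1 ?_))
      rw [map_mul, map_mul, (h.ker _).2 (h.pw y hy.1), mul_one, ← map_mul, inv_mul_cancel, map_one]
    · obtain ⟨-, g, rfl⟩ := hy
      refine (Finset.sum_congr rfl fun j _ => ?_).trans (h0 v.out g)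
      rw [← hF.out (g := _ * v.out) (mem_top _), ← smul_eq_mul _ v.out, ← Quotient.smul_mk, QuotientGroup.out_eq']
    · refine Finset.mem_filter.2 ⟨Finset.mem_univ _, Set.ext fun x => and_congr_right fun hx => ?_⟩
      have e := (Finset.mem_filter.1 hv).2
      have h3 := XC' _ (inv_mem hy.1) x hx
      have h4 : ∀ {x}, x ∈ X → (x ∈ stabilizer G w ↔ x ∈ closure (X ∩ stabilizer G w)) := fun hx =>
        ⟨fun a => subset_closure ⟨hx, a⟩, fun a => (closure_le _).2 Set.inter_subset_right a⟩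
      rw [SetLike.mem_coe, SetLike.mem_coe, h4 hx, mem_normalizer_iff.1 (inv_mem h2), ← h4 h3]
      refine Iff.trans ?_ ((and_iff_right h3).symm.trans ((Set.ext_iff.1 e _).trans (and_iff_right h3)))
      simp [mul_smul, inv_smul_eq_iff]
  · exact fun hn => Finset.sum_eq_zero fun w hw =>
      (hn (Finset.mem_image.2 ⟨w, Finset.mem_univ _, (Finset.mem_filter.1 hw).2⟩)).elim

end CL.MX
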