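import Cfsg.Agent.MX.SM
import Cfsg.Agent.MX.LB
import Cfsg.Agent.MX.WC
import Cfsg.Agent.MX.C
import Cfsg.Agent.MX.CL
import Cfsg.Agent.MX.Q
import Cfsg.Agent.MX.I3
import Cfsg.Agent.MX.I2A
import Cfsg.Agent.MX.I2B
import Cfsg.Agent.MX.CHT
import Cfsg.Agent.MX.CO
import Cfsg.Agent.MX.A
import Cfsg.Agent.MX.EX
import Cfsg.Agent.MX.B
import Cfsg.Agent.MX.F

/-! MX: the unconditional theorems. -/

set_option autoImplicit false

namespace CL.MX

universe u

theorem c1' : C1.{u} := c1 smCyc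
theorem c2' : C2.{u} := c2 smCyc
theorem c3' : C3.{u} := c3 smCyc

theorem linThm : LinThm.{u} :=
  linThm_of lbThm wcThm (clThm c1' c2' c3') qThm i3 i2a (i2b smTwo)

theorem thmA' : ThmA.{u} := thmA coThm linThm

theorem thmB' : ThmB.{u} := thmB thmA' exThm

end CL.MX
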