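/-
Project MX, second part (essential subgroups that are not normal): definitions, basic API and the statements of the parts.
-/
import Cfsg.Agent.MX.All
import Cfsg.Agent.Fus.Factor
import Cfsg.Agent.Fus.Weights

set_option autoImplicit false

namespace CL.MX

open Subgroup Cfsg Cfsg.FusionSystem CL.Fus
open scoped commutatorElement

universe u

/-! ### small tools -/

section Tools
variable {G : Type u} [Group G] {p n d : ℕ} {S U K : Subgroup G} {Γ : ℕ → Subgroup G} {x y s : G}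

/-- conjugation as a function -/
def cj (k : G) : G → G := fun x => k * x * k⁻¹

/-- `f` acts as the `c`-th power on `Γ u / Γ (u + 1)` -/
def Wt {p : ℕ} (Γ : ℕ → Subgroup G) (u : ℕ) (f : G → G) (c : ZMod p) : Prop :=
  ∀ x ∈ Γ u, (x ^ c.val)⁻¹ * f x ∈ Γ (u + 1)

/-- `f` is an automorphism of `S` preserving the chain -/
structure Au (S : Subgroup G) (Γ : ℕ → Subgroup G) (f : G → G) : Prop where
  hom : HomOn S f
  inj : Set.InjOn f S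
  mem : ∀ u, ∀ x ∈ Γ u, f x ∈ Γ u

/-- `x < y` are consecutive members of the chain normalised by `H` -/
structure Nn (H : Subgroup G) (Γ : ℕ → Subgroup G) (x y : ℕ) : Prop where
  lt : x < y
  nx : H ≤ normalizer (Γ x : Set G)
  ny : H ≤ normalizer (Γ y : Set G)
  no : ∀ z, x < z → z < y → ¬ H ≤ normalizer (Γ z : Set G)

/-- coordinates on a subgroup -/
structure Cd {p d : ℕ} (U : Subgroup G) (Φ : (Fin d → ZMod p) → G) : Prop where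
  ad : CO.Ad Φ
  inj : Function.Injective Φ
  mem : ∀ c, Φ c ∈ U
  sur : ∀ g ∈ U, ∃ c, Φ c = g

/-- coordinates on a normal subgroup, with the action -/
structure Crd {p d : ℕ} (U : Subgroup G) (Φ : (Fin d → ZMod p) → G) (ρ : G →* Mt p d) : Prop extends Cd U Φ where
  act : ∀ g c, Φ ((ρ g).mulVec c) = g * Φ c * g⁻¹

/-- the elements of order dividing `p` in the centre of `E` -/
def oz (p : ℕ) (E : Subgroup G) : Subgroup G where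
  carrier := {u | u ∈ E ∧ u ∈ centralizer (E : Set G) ∧ u ^ p = 1}
  one_mem' := ⟨one_mem _, one_mem _, one_pow _⟩
  mul_mem' := fun {a b} ha hb => ⟨mul_mem ha.1 hb.1, mul_mem ha.2.1 hb.2.1, by
    rw [Commute.mul_pow (hb.2.1 a ha.1), ha.2.2, hb.2.2, one_mul]⟩
  inv_mem' := fun ha => ⟨inv_mem ha.1, inv_mem ha.2.1, by rw [inv_pow, ha.2.2, inv_one]⟩

theorem mem_oz {E : Subgroup G} : x ∈ oz p E ↔ x ∈ E ∧ x ∈ centralizer (E : Set G) ∧ x ^ p = 1 := Iff.rfl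

instance normal_oz (p : ℕ) (E : Subgroup G) [h : E.Normal] : (oz p E).Normal :=
  ⟨fun a ha g => ⟨h.conj_mem a ha.1 g, Normal.conj_mem inferInstance a ha.2.1 g, by rw [conj_pow, ha.2.2]; simp⟩⟩

variable [hp : Fact p.Prime]

theorem val_eq {c c' : ZMod p} (hx : x ∉ K) (h0 : x ^ p ∈ K) (h1 : (x ^ c.val)⁻¹ * y ∈ K)
    (h2 : (x ^ c'.val)⁻¹ * y ∈ K) : c = c' := by
  have := (ZMod.intCast_eq_intCast_iff_dvd_sub (c'.val : ℤ) c.val p).2 (dvd_sub_of_pow hx h0 (y := y)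
    (by rwa [zpow_natCast]) (by rwa [zpow_natCast]))
  simpa using this.symm

theorem mem_of_pow_val {c : ZMod p} (hc : c ≠ 0) (h0 : x ^ p ∈ K) (h1 : x ^ c.val ∈ K) : x ∈ K :=
  by_contra fun k => hc (val_eq (y := 1) k h0 (by simpa using h1) (by simp))

theorem CO.Ad.smul {Φ : (Fin d → ZMod p) → G} (h : CO.Ad Φ) (c : ZMod p) (v : Fin d → ZMod p) :
    Φ (c • v) = Φ v ^ c.val := by
  rw [← h.nsmul, ← Nat.cast_smul_eq_nsmul (ZMod p), ZMod.natCast_zmod_val]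

/-- decomposition along one step of the chain -/
theorem Ch.dec (h : Ch p n S Γ) {j : ℕ} (hx : x ∈ Γ j) (hx' : x ∉ Γ (j + 1)) (hy : y ∈ Γ j) :
    ∃ c : ZMod p, (x ^ c.val)⁻¹ * y ∈ Γ (j + 1) := by
  rw [← h.sup hx hx', sup_comm, CL.Grp.mem_sup_of_le_normalizer (zpowers_le.2 (h.norm _ (h.le _ hx)))] at hy
  obtain ⟨_, ⟨a, rfl⟩, e, he, rfl⟩ := hy
  refine ⟨(a : ZMod p), ?_⟩
  obtain ⟨b, hb⟩ : (p : ℤ) ∣ a - ((a : ZMod p).val : ℕ) := (ZMod.intCast_eq_intCast_iff_dvd_sub _ _ p).1 (by simp)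
  have : (x ^ ((a : ZMod p).val))⁻¹ * (x ^ a * e) = (x ^ p) ^ b * e := by
    rw [← zpow_natCast, ← zpow_natCast, ← zpow_mul, ← hb, ← mul_assoc, ← zpow_neg, ← zpow_add, neg_add_eq_sub]
  exact this ▸ mul_mem (zpow_mem (h.pow_mem hx) b) he

theorem exists_equiv0 (A : Type u) [AddCommGroup A] [Finite A] [Module (ZMod p) A] :
    ∃ d : ℕ, Nonempty ((Fin d → ZMod p) ≃+ A) := ⟨_, ⟨(Module.finBasis (ZMod p) A).equivFun.symm.toAddEquiv⟩⟩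

theorem exists_equiv {A : Type u} [AddCommGroup A] [Finite A] (he : ∀ x : A, p • x = 0) :
    ∃ d : ℕ, Nonempty ((Fin d → ZMod p) ≃+ A) := @exists_equiv0 p _ A _ _ (AddCommGroup.zmodModule he)

theorem exists_cd [Finite U] (hc : ∀ a ∈ U, ∀ b ∈ U, a * b = b * a) (he : ∀ a ∈ U, a ^ p = 1) :
    ∃ (d : ℕ) (Φ : (Fin d → ZMod p) → G), Cd U Φ := by
  letI : CommGroup U := { (inferInstance : Group U) with mul_comm := fun x y => Subtype.ext (hc _ x.2 _ y.2) }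
  obtain ⟨d, ⟨b⟩⟩ := exists_equiv (p := p) (A := Additive U) fun x => Subtype.ext (he _ x.toMul.2)
  exact ⟨d, fun c => ((b c).toMul : U), fun a c => by rw [map_add]; rfl, fun a c e => b.injective (Subtype.ext e),
    fun c => Subtype.property _, fun g hg => ⟨b.symm (Additive.ofMul ⟨g, hg⟩), by simp only [AddEquiv.apply_symm_apply]; rfl⟩⟩

theorem Cd.crd [U.Normal] {Φ : (Fin d → ZMod p) → G} (h : Cd U Φ) : ∃ ρ : G →* Mt p d, Crd U Φ ρ :=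
  (CO.exρ h.ad h.inj h.mem h.sur).imp fun _ e => ⟨h, e⟩

theorem exists_crd [Finite U] [U.Normal] (hc : ∀ a ∈ U, ∀ b ∈ U, a * b = b * a) (he : ∀ a ∈ U, a ^ p = 1) :
    ∃ (d : ℕ) (Φ : (Fin d → ZMod p) → G) (ρ : G →* Mt p d), Crd U Φ ρ :=
  let ⟨d, Φ, h⟩ := exists_cd hc he
  ⟨d, Φ, h.crd⟩

theorem exists_crd_oz [Finite G] (E : Subgroup G) [E.Normal] :
    ∃ (d : ℕ) (Φ : (Fin d → ZMod p) → G) (ρ : G →* Mt p d), Crd (oz p E) Φ ρ :=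
  exists_crd (fun a ha _ hb => hb.2.1 a ha.1) fun _ ha => ha.2.2

theorem Crd.comm {Φ : (Fin d → ZMod p) → G} {ρ : G →* Mt p d} (h : Crd U Φ ρ) (g : G) (c : Fin d → ZMod p) :
    Φ ((ρ g - 1).mulVec c) = ⁅g, Φ c⁆ := by
  rw [Matrix.sub_mulVec, h.ad.sub, h.act, Matrix.one_mulVec, commutatorElement_def]

theorem Crd.eq_one_iff {Φ : (Fin d → ZMod p) → G} {ρ : G →* Mt p d} (h : Crd U Φ ρ) {g : G} :
    ρ g = 1 ↔ g ∈ centralizer (U : Set G) := by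
  refine ⟨fun e y hy => ?_, fun e => Matrix.ext_iff_mulVec.2 fun c => h.inj ?_⟩
  · obtain ⟨c, rfl⟩ := h.sur y hy
    have := h.act g c
    rwa [e, Matrix.one_mulVec, eq_mul_inv_iff_mul_eq] at this
  · rw [h.act, Matrix.one_mulVec, ← e _ (h.mem c), mul_inv_cancel_right]

theorem Crd.sq {Φ : (Fin d → ZMod p) → G} {ρ : G →* Mt p d} (h : Crd U Φ ρ) (k : ∀ u ∈ U, Commute y ⁅y, u⁆) :
    (ρ y - 1) ^ 2 = 0 := Matrix.ext_iff_mulVec.2 fun c => h.inj (by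
  rw [pow_two, ← Matrix.mulVec_mulVec, h.comm, h.comm, Matrix.zero_mulVec, h.ad.zero]
  exact commutatorElement_eq_one_iff_commute.2 (k _ (h.mem c)))

/-- the basis of a member of the chain -/
def bs (s b : G) : ℕ → G
  | 0 => b
  | u + 1 => ⁅s, bs s b u⁆

/-- coordinates adapted to the chain -/
theorem Cs.coord {x : ℕ} (h : Cs p n S Γ) (hx : 1 ≤ x) (hn : x + d = n) [(Γ x).Normal]
    (hc : ∀ a ∈ Γ x, ∀ b ∈ Γ x, a * b = b * a) (he : ∀ a ∈ Γ x, a ^ p = 1) (sS : s ∈ S) (sP : s ∉ Γ 1) :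
    ∃ (Φ : (Fin d → ZMod p) → G) (ρ : G →* Mt p d), Crd (Γ x) Φ ρ ∧ (∀ z c, Φ c ∈ Γ (x + z) ↔ c ∈ Fl p d z) ∧
      ρ s = 1 + Jm p d ∧ ∀ y ∈ Γ 1, Rs 2 (ρ y - 1) := by
  obtain ⟨b, b0, b1⟩ : ∃ b ∈ Γ x, x < n → b ∉ Γ (x + 1) := by
    by_cases k : x < n
    · exact (h.ex k).imp fun _ e => ⟨e.1, fun _ => e.2⟩
    · exact ⟨1, one_mem _, fun e => absurd e k⟩
  have bm : ∀ u, bs s b u ∈ Γ (x + u) := fun u => by
    induction u with
    | zero => exact b0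
    | succ u ih => exact comm_symm_mem (h.comm ih sS)
  have bn : ∀ u, x + u < n → bs s b u ∉ Γ (x + u + 1) := fun u => by
    induction u with
    | zero => exact b1
    | succ u ih => exact fun k e => h.sun (x + u) (by omega) (by omega) _ (bm u) (ih (by omega)) s sS sP (comm_symm_mem e)
  have bE : ∀ u, bs s b u ∈ Γ x := fun u => h.anti (by omega) (bm u)
  obtain ⟨φ, ad, sg⟩ := CO.exφ (d := d) hc he (fun u => bs s b u) fun u => bE u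
  have mem : ∀ z c, c ∈ Fl p d z → φ c ∈ Γ (x + z) := fun z c k => ad.mem fun u hu =>
    sg u ▸ h.anti (by have := mt (k u) hu; omega) (bm u)
  have sur : ∀ m z, z + m = d → ∀ g ∈ Γ (x + z), ∃ c ∈ Fl p d z, φ c = g := by
    intro m
    induction m with
    | zero =>
      intro z hz g hg
      rw [h.bot _ (by omega), mem_bot] at hg
      exact ⟨0, zero_mem _, hg ▸ ad.zero⟩
    | succ m ih =>
      intro z hz g hg
      obtain ⟨a, ha⟩ := h.dec (bm z) (bn z (by omega)) hg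
      obtain ⟨c, hc, e⟩ := ih (z + 1) (by omega) _ ha
      refine ⟨a • Pi.single ⟨z, by omega⟩ 1 + c, fun u hu => ?_, ?_⟩
      · rw [Pi.add_apply, hc u (by omega), Pi.smul_apply, Pi.single_eq_of_ne (fun e => by subst e; simp at hu)]
        simp
      · rw [ad, ad.smul, sg, e, mul_inv_cancel_left]
  have sur0 : ∀ g ∈ Γ x, ∃ c, φ c = g := fun g hg => (sur d 0 (by omega) g hg).imp fun _ e => e.2
  have mem0 : ∀ c, φ c ∈ Γ x := fun c => mem 0 c fun _ k => absurd k (by omega)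
  have inj : Function.Injective φ := by
    have := (Nat.bijective_iff_surjective_and_card fun c => (⟨φ c, mem0 c⟩ : Γ x)).2
      ⟨fun g => (sur0 g g.2).imp fun _ e => Subtype.ext e, by
        rw [h.card (by omega), Nat.card_fun, Nat.card_zmod, Nat.card_eq_fintype_card, Fintype.card_fin]
        congr 1; omega⟩
    exact fun a c e => this.1 (Subtype.ext e)
  have fl : ∀ z c, φ c ∈ Γ (x + z) → c ∈ Fl p d z := fun z c hc u hu => by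
    obtain ⟨c', hc', e⟩ := sur (d - (u + 1)) (u + 1) (by omega) _ (h.anti (by omega) hc)
    rw [← inj e]
    exact hc' u (by omega)
  obtain ⟨ρ, r⟩ := (⟨ad, inj, mem0, sur0⟩ : Cd (Γ x) φ).crd
  refine ⟨φ, ρ, r, fun z c => ⟨fl z c, mem z c⟩, Matrix.ext_of_mulVec_single fun v => inj ?_, fun y hy u v huv => ?_⟩
  · have e : φ ((Jm p d).mulVec (Pi.single v 1)) = bs s b (v + 1) := by
      by_cases l : (v : ℕ) + 1 < d
      · rw [← sg ⟨_, l⟩]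
        congr 1
        funext u
        simp [Jm, Pi.single_apply, Fin.ext_iff]
      · have := bm (v + 1)
        rw [h.bot _ (by omega), mem_bot] at this
        rw [this, ← ad.zero]
        congr 1
        funext u
        have : (u : ℕ) ≠ v + 1 := by omega
        simp [Jm, this]
    rw [r.act, add_comm, Matrix.add_mulVec, ad, e, Matrix.one_mulVec, sg, bs, commutatorElement_def, inv_mul_cancel_right]
  · by_cases hu : u < d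
    · by_cases hv : v < d
      · have : φ ((ρ y - 1).mulVec (Pi.single ⟨v, hv⟩ 1)) ∈ Γ (x + (v + 2)) := by
          rw [r.comm, sg]
          exact comm_symm_mem (h.sc (x + v) 1 (by omega) le_rfl (commutator_mem_commutator (bm v) hy))
        have := fl _ _ this ⟨u, hu⟩ huv
        rw [en_of_lt _ hu hv]
        simpa using this
      · exact en_right _ _ (by omega)
    · exact en_left _ (by omega) _

theorem Crd.st_iff {x z : ℕ} {Φ : (Fin d → ZMod p) → G} {ρ : G →* Mt p d} (h : Crd (Γ x) Φ ρ) (ha : Antitone Γ)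
    (fl : ∀ z c, Φ c ∈ Γ (x + z) ↔ c ∈ Fl p d z) {g : G} : St z (ρ g) ↔ ∀ v ∈ Γ (x + z), g * v * g⁻¹ ∈ Γ (x + z) := by
  rw [MX.st_iff]
  refine ⟨fun k v hv => ?_, fun k c hc => (fl _ _).1 (h.act g c ▸ k _ ((fl _ _).2 hc))⟩
  obtain ⟨c, rfl⟩ := h.sur v (ha (by omega) hv)
  exact h.act g c ▸ (fl _ _).2 (k c ((fl _ _).1 hv))

theorem Crd.diag {x u : ℕ} {Φ : (Fin d → ZMod p) → G} {ρ : G →* Mt p d} (h : Crd (Γ x) Φ ρ)
    (fl : ∀ z c, Φ c ∈ Γ (x + z) ↔ c ∈ Fl p d z) {g : G} {c : ZMod p} (hu : u < d) (w : Wt Γ (x + u) (cj g) c) :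
    en (ρ g) u u = c := by
  have := w (Φ (Pi.single ⟨u, hu⟩ 1)) ((fl u _).2 fun v hv => Pi.single_eq_of_ne (fun e => by subst e; simp at hv) _)
  rw [cj, ← h.act, ← h.ad.smul, ← one_mul (Φ _)⁻¹, ← h.ad.zero, ← h.ad.sub, ← h.ad] at this
  have := (fl (u + 1) _).1 this ⟨u, hu⟩ (Nat.lt_succ_self u)
  rw [en_of_lt _ hu hu]
  exact (neg_add_eq_zero.1 (by simpa using this)).symm

/-- a linear form separating a vector from a subspace -/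
theorem exists_form {W : Submodule (ZMod p) (Fin d → ZMod p)} {v : Fin d → ZMod p} (hv : v ∉ W) :
    ∃ l : Fin d → ZMod p, (∀ w ∈ W, l ⬝ᵥ w = 0) ∧ l ⬝ᵥ v = 1 := by
  obtain ⟨f, h1, h2⟩ := LinearMap.exists_extend_of_notMem (0 : W →ₗ[ZMod p] ZMod p) hv 1
  have e : ∀ w, (fun i => f (Pi.single i 1)) ⬝ᵥ w = f w := fun w => by
    conv_rhs => rw [← Finset.univ_sum_single w, map_sum]
    exact Finset.sum_congr rfl fun i _ => by rw [mul_comm, ← smul_eq_mul, ← map_smul, ← Pi.single_smul', smul_eq_mul, mul_one]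
  exact ⟨_, fun w hw => (e w).trans (LinearMap.congr_fun h1 ⟨w, hw⟩), (e v).trans h2⟩

end Tools

/-! ### the local group at `E` -/

section Loc
variable {L : Type u} [Group L]

/-- the group generated by the Sylow subgroups of a model of `N_F(E)`, when `N_L(N)` is strongly embedded -/
structure Loc (p : ℕ) (E N : Subgroup L) : Prop where
  pg : IsPGroup p N
  syl : ¬ p ∣ N.index
  le : E ≤ N
  nrm : E.Normal
  cen : centralizer (E : Set L) ≤ E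
  se : SE E N (normalizer (N : Set L))
  gen : normalClosure (N : Set L) = ⊤

/-- the stabiliser of the chain `E ≥ V ≥ D ≥ 1` -/
def stb (E V D : Subgroup L) : Subgroup L := B.Sb E V ⊓ B.Sb V D ⊓ centralizer (D : Set L)

instance normal_stb (E V D : Subgroup L) [E.Normal] [V.Normal] [D.Normal] : (stb E V D).Normal :=
  haveI := B.sb_normal E V
  haveI := B.sb_normal V D
  inferInstanceAs (B.Sb E V ⊓ B.Sb V D ⊓ centralizer (D : Set L)).Normal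

theorem mem_stb [Finite L] {E V D : Subgroup L} (h : D ≤ V) {g : L} : g ∈ stb E V D ↔
    (∀ e ∈ E, ⁅e, g⁆ ∈ V) ∧ (∀ v ∈ V, ⁅v, g⁆ ∈ D) ∧ ∀ d ∈ D, ⁅d, g⁆ = 1 := by
  have n : ∀ A : Subgroup L, (∀ v ∈ A, ⁅v, g⁆ ∈ A) → g ∈ normalizer (A : Set L) := fun A k =>
    mem_normalizer_fintype fun v hv => by
      simpa [commutatorElement_def, mul_assoc] using A.mul_mem (comm_symm_mem (k v hv)) hv
  exact ⟨fun k => ⟨k.1.1.2, k.1.2.2, fun d hd => commutatorElement_eq_one_iff_mul_comm.2 (k.2 d hd)⟩,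
    fun k => ⟨⟨⟨n V fun v hv => h (k.2.1 v hv), k.1⟩, n D fun d hd => k.2.2 d hd ▸ one_mem _, k.2.1⟩,
      fun d hd => commutatorElement_eq_one_iff_mul_comm.1 (k.2.2 d hd)⟩⟩

namespace Loc
variable {p : ℕ} {E N K H : Subgroup L} {x y g : L} (h : Loc p E N)
include h

theorem cj (hx : x ∈ N) (hx' : x ∉ E) (k : g * x * g⁻¹ ∈ N) : g ∈ normalizer (N : Set L) :=
  h.se.cj x hx hx' g (le_normalizer k)

theorem top_of [K.Normal] (k : N ≤ K) : K = ⊤ := eq_top_iff.2 (h.gen.ge.trans (normalClosure_le_normal k))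

theorem exists_not : ∃ g, g ∉ normalizer (N : Set L) := by
  by_contra! k
  exact h.se.ne (eq_top_iff.2 fun g _ => k g)

theorem ne : ¬ N ≤ E := fun k => h.se.ne (by
  have := h.nrm
  rw [le_antisymm k h.le]; exact normalizer_eq_top _)

variable [Finite L] [hp : Fact p.Prime]

/-- two conjugates in a `p`-subgroup -/
theorem same (hH : IsPGroup p H) (hx : x ∈ N) (hx' : x ∉ E) (hy : y ∈ N) (hy' : y ∉ E) (h1 : x ∈ H)
    (h2 : g * y * g⁻¹ ∈ H) : g ∈ normalizer (N : Set L) := by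
  obtain ⟨k, -, e⟩ := I2A.conj_into h.pg h.syl le_top hH le_top
  have := h.cj hy hy' (g := k * g) (by simpa [mul_assoc] using e _ h2)
  exact (mul_mem_cancel_left (h.cj hx hx' (e _ h1))).1 this

theorem core [hK : K.Normal] (pK : IsPGroup p K) : K ≤ E := fun x hx => by
  obtain ⟨k, -, e⟩ := I2A.conj_into h.pg h.syl le_top pK le_top
  have xN : x ∈ N := by simpa [mul_assoc] using e _ (hK.conj_mem x hx k⁻¹)
  obtain ⟨g, hg⟩ := h.exists_not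
  exact by_contra fun c => hg (h.same pK xN c xN c hx (hK.conj_mem x hx g))

/-- the Frattini argument -/
theorem frat [hK : K.Normal] (hy : y ∈ N) (hy' : y ∉ E) (k : y ∈ K) (g : L) :
    ∃ a ∈ K, ∃ b ∈ normalizer (N : Set L), g = a * b := by
  obtain ⟨c, hc, e⟩ := I2A.conj_into h.pg h.syl (le_sup_left (b := K))
    ((h.pg.to_le (zpowers_le.2 hy)).map (MulAut.conj g).toMonoidHom) (by
      rw [MonoidHom.map_zpowers]; exact zpowers_le.2 (mem_sup_right (hK.conj_mem y k g)))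
  obtain ⟨b, hb, a, ha, rfl⟩ := mem_sup_of_normal_right.1 hc
  have := h.cj hy hy' (g := b * (a * g)) (by simpa [mul_assoc] using e _ ⟨y, mem_zpowers y, rfl⟩)
  exact ⟨a⁻¹, inv_mem ha, a * g, (mul_mem_cancel_left (le_normalizer hb)).1 this, by group⟩

theorem pg_stb (V D : Subgroup L) : IsPGroup p (stb E V D) := by
  have := h.nrm
  refine A.pg_of (h.pg.to_le h.le) fun g hg c => h.cen (CL.Loc.mem_cent_of_stab_chain (h.pg.to_le h.le)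
    (by rw [normalizer_eq_top]; trivial) c (fun i => if i = 0 then ⊥ else if i = 1 then D else if i = 2 then V else ⊤)
    rfl (n := 3) le_top fun i a ha k => ?_)
  rcases i with _ | _ | _ | i
  · exact commutatorElement_eq_one_iff_mul_comm.2 (hg.2 a k)
  · exact hg.1.2.2 a k
  · exact hg.1.1.2 a ha
  · trivial

theorem wc (hy : y ∈ N) (hy' : y ∉ E) (yp : y ^ p ∈ E) : WC p N y := fun F hF k => by
  rw [smCyc L _ p _ _ ⊤ y F le_rfl le_top (le_normalizer hy) (fun g _ => le_normalizer (h.le (by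
    simpa using h.nrm.conj_mem _ yp g⁻¹))) (fun g _ e => (inv_mem_iff (H := normalizer (N : Set L))).1
      (h.se.cj y hy hy' _ (by simpa using e))) hF fun g _ => by simpa using k g 1,
    sm_self fun g _ b hb => hF g trivial b hb]

/-- functions of small degree along the conjugates of `y` are constant -/
theorem const (hy : y ∈ N) (hy' : y ∉ E) (yp : y ^ p ∈ E) {F : L → ZMod p} (hF : RI (normalizer (N : Set L)) ⊤ F)
    {r : ℕ} (hr : r + 2 ≤ p) (k : ∀ g g₀, (fun j : ℕ => F ((g₀ * y * g₀⁻¹) ^ j * g)) ∈ (gr1 p).S r) (g : L) :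
    F g = F 1 := Q.const (h.wc hy hy' yp) hF hr k g

end Loc
end Loc

/-! ### the amalgam -/

section Dat
variable {X L : Type u} [Group X] [Group L]

/-- `X` is a model of `N_F(γ₁(S))`, `L` the local group at `E`, glued along `N = N_S(E) ≤ γ₁(S)` -/
structure Dat (p n : ℕ) (S : Subgroup X) (Γ : ℕ → Subgroup X) (E N : Subgroup X) (ι : X → L) : Prop where
  ch : Ch p n S Γ
  syl : ¬ p ∣ S.index
  nrm : (Γ 1).Normal
  le : E ≤ N
  n1 : N ≤ Γ 1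
  nN : ∀ x ∈ S, x ∈ normalizer (E : Set X) → x ∈ N
  hom : HomOn N ι
  inj : Set.InjOn ι N
  loc : Loc p (img ι E) (img ι N)
  ext : ∀ h ∈ normalizer (img ι N : Set L), ∃ k : X, ∀ x ∈ N, k * x * k⁻¹ ∈ N ∧ ι (k * x * k⁻¹) = h * ι x * h⁻¹

/-- no nontrivial member of the chain is normal in both groups -/
def R1 (n : ℕ) (Γ : ℕ → Subgroup X) (E : Subgroup X) (ι : X → L) : Prop :=
  ∀ r < n, Γ r ≤ E → (Γ r).Normal → ¬ (img ι (Γ r)).Normal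

/-- `L` acts as a `p`-group on its normal members of the chain -/
def Uni (p : ℕ) (Γ : ℕ → Subgroup X) (E : Subgroup X) (ι : X → L) : Prop :=
  ∀ r, Γ r ≤ E → (img ι (Γ r)).Normal → ∀ g : L, (orderOf g).Coprime p → g ∈ centralizer (img ι (Γ r) : Set L)

namespace Dat
variable {p n : ℕ} {S E N A : Subgroup X} {Γ : ℕ → Subgroup X} {ι : X → L} {x y : X} (h : Dat p n S Γ E N ι)
include h

theorem mem_iff (hA : A ≤ N) (hx : x ∈ N) : ι x ∈ img ι A ↔ x ∈ A :=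
  ⟨h.hom.mem_of_mem_img h.inj hA hx, mem_img_of_mem ι⟩

theorem ex (hA : A ≤ N) {y : L} (hy : y ∈ img ι A) : ∃ x ∈ A, ι x = y := (h.hom.mono hA).mem_img.1 hy

theorem card (hA : A ≤ N) : Nat.card (img ι A) = Nat.card A := (h.hom.mono hA).card_img (h.inj.mono hA)

theorem eq_one (hx : x ∈ N) : ι x = 1 ↔ x = 1 :=
  ⟨fun e => h.inj hx (one_mem N) (e.trans h.hom.map_one.symm), fun e => e ▸ h.hom.map_one⟩

theorem commute (hx : x ∈ N) (hy : y ∈ N) : Commute (ι x) (ι y) ↔ Commute x y := by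
  rw [← commutatorElement_eq_one_iff_commute, ← commutatorElement_eq_one_iff_commute, ← h.hom.map_commutator hx hy]
  exact h.eq_one (mul_mem (mul_mem (mul_mem hx hy) (inv_mem hx)) (inv_mem hy))

theorem eS : E ≤ S := h.le.trans (h.n1.trans (h.ch.le 1))

theorem e1 : E ≤ Γ 1 := h.le.trans h.n1

theorem cen (hx : x ∈ S) (k : x ∈ centralizer (E : Set X)) : x ∈ E :=
  have xN := h.nN x hx (centralizer_le_normalizer _ k)
  (h.mem_iff h.le xN).1 (h.loc.cen ((h.hom.map_mem_centralizer h.le xN k)))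

variable [Finite X] [Fact p.Prime]

omit [Fact p.Prime] in
theorem mem_N (hy : y ∈ S) (k : ∀ e ∈ E, ⁅e, y⁆ ∈ E) : y ∈ N := h.nN y hy (mem_normalizer_fintype fun v hv => by
  simpa [commutatorElement_def, mul_assoc] using E.mul_mem (comm_symm_mem (k v hv)) hv)

theorem not_le : ¬ Γ 2 ≤ E := fun k => by
  have l : S ≤ N := fun y hy => h.mem_N hy fun e he => k (h.ch.c00 (commutator_mem_commutator (h.eS he) hy))
  by_cases n0 : 0 < n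
  · obtain ⟨x, a, b⟩ := h.ch.ex n0
    exact b (h.n1 (l (h.ch.le 0 a)))
  · exact h.loc.ne (img_mono ι (h.n1.trans ((h.ch.bot 1 (by omega)).le.trans bot_le)))

theorem three_le : 3 ≤ n := by_contra fun k => h.not_le ((h.ch.bot 2 (by omega)).le.trans bot_le)

theorem last_le : Γ (n - 1) ≤ E := fun _ hx => h.cen (h.ch.le _ hx) fun _ he => (h.ch.central hx (h.eS he)).symm.eq

/-- the last member of the chain not contained in `E` -/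
theorem exists_j : ∃ j y, 2 ≤ j ∧ j + 2 ≤ n ∧ Γ (j + 1) ≤ E ∧ y ∈ Γ j ∧ y ∉ E ∧ y ∈ N ∧ y ^ p ∈ E := by
  classical
  have ex : ∃ i, Γ (i + 3) ≤ E := ⟨n, (h.ch.bot _ (by omega)).le.trans bot_le⟩
  have h1 : ¬ Γ (Nat.find ex + 2) ≤ E := by
    rcases e : Nat.find ex with _ | i
    · exact h.not_le
    · exact Nat.find_min ex (m := i) (by omega)
  obtain ⟨y, a, b⟩ := SetLike.not_le_iff_exists.1 h1
  have h2 := Nat.find_spec ex
  exact ⟨_, y, by omega, by_contra fun k => h1 ((h.ch.anti (by omega)).trans h.last_le), h2, a, b,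
    h.mem_N (h.ch.le _ a) fun e he => h2 (comm_symm_mem (h.ch.comm a (h.eS he))), h2 (h.ch.pow_mem a)⟩

end Dat

/-- the configuration inside `L` when the whole chain is normal in `X` -/
structure NA (p n l j : ℕ) (E N : Subgroup L) (Δ : ℕ → Subgroup L) (y z z₂ : L) (a : L → ZMod p) : Prop where
  loc : Loc p E N
  p3 : 3 ≤ p
  n3 : 3 ≤ n
  anti : Antitone Δ
  one : Δ 1 = N
  bot : Δ n = ⊥
  zU : z ∈ oz p E
  z₂U : z₂ ∈ oz p E
  z1 : z ≠ 1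
  z₂z : z₂ ∉ zpowers z
  Δz : Δ (n - 1) = zpowers z
  Δz₂ : Δ (n - 2) = zpowers z ⊔ zpowers z₂
  j1 : 1 ≤ j
  jn : j < n
  yΔ : y ∈ Δ j
  yE : y ∉ E
  yp : y ^ p ∈ E
  ΔE : Δ (j + 1) ≤ E
  wt : ∀ h ∈ normalizer (N : Set L), a h ≠ 0 ∧ ∀ u, 1 ≤ u → u < n → Wt Δ u (cj h) (a h ^ (u + l))
  quad : ∀ u ∈ oz p E, Commute y ⁅y, u⁆
  cm : ∀ u, 1 ≤ u → ∀ x ∈ Δ u, ⁅y, x⁆ ∈ Δ (u + 3)
  pw : ∀ u, 1 ≤ u → u + p < n → ∀ x ∈ Δ u, x ^ p = 1 → x ∈ Δ (u + 1)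
  nz : ¬ (Δ (n - 1)).Normal
  nz₂ : ¬ (Δ (n - 2)).Normal

end Dat

/-! ### the parts: the `p`-group -/

/-- facts on the chain -/
structure SLm : Prop where
  /-- the power map is periodic -/
  per : ∀ (G : Type u) [Group G] (p n z : ℕ) [Fact p.Prime] (S : Subgroup G) (Γ : ℕ → Subgroup G), Cs p n S Γ → 3 ≤ p →
    p + 2 ≤ n → 2 ≤ z → z + (p - 1) ≤ n → ∀ x ∈ Γ 1, x ∈ Γ z ↔ x ^ p ∈ Γ (z + (p - 1))
  /-- exceptional groups -/
  exc : ∀ (G : Type u) [Group G] (p n : ℕ) [Fact p.Prime] (S : Subgroup G) (Γ : ℕ → Subgroup G), Ch p n S Γ → 4 ≤ n →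
    ⁅Γ (n - 2), Γ 1⁆ ≠ ⊥ → Even n ∧ 6 ≤ n ∧ n ≤ p + 1
  pair : ∀ (G : Type u) [Group G] (p n a b : ℕ) [Fact p.Prime] (S : Subgroup G) (Γ : ℕ → Subgroup G), Ch p n S Γ →
    ⁅Γ (n - 2), Γ 1⁆ ≠ ⊥ → 1 ≤ a → 1 ≤ b → a + b + 1 = n → ∀ x ∈ Γ a, x ∉ Γ (a + 1) → ∀ y ∈ Γ b, y ∉ Γ (b + 1) →
    ⁅x, y⁆ ≠ 1
  cen : ∀ (G : Type u) [Group G] (p n i : ℕ) [Fact p.Prime] (S : Subgroup G) (Γ : ℕ → Subgroup G), Ch p n S Γ →
    ⁅Γ (n - 2), Γ 1⁆ ≠ ⊥ → 1 ≤ i → i < n → ∀ x ∈ Γ 1, x ∈ centralizer (Γ i : Set G) → x ∈ Γ (n - i)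
  /-- subgroups of `Γ 1` containing the centre and normalised by an element outside `Γ 1` -/
  lev : ∀ (G : Type u) [Group G] (p n j : ℕ) [Fact p.Prime] (S A : Subgroup G) (Γ : ℕ → Subgroup G) (m : G),
    Ch p n S Γ → m ∈ S → m ∉ Γ 1 → (∀ a ∈ A, a ∈ Γ 1 → ⁅a, m⁆ ∈ A) → Γ (n - 1) ≤ A → 1 ≤ j → ∀ x ∈ A, x ∈ Γ j →
    x ∉ Γ (j + 1) → Γ j ≤ A
  eqle : ∀ (G : Type u) [Group G] (p n : ℕ) [Fact p.Prime] (S A : Subgroup G) (Γ : ℕ → Subgroup G) (m : G),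
    Ch p n S Γ → 2 ≤ n → m ∈ S → m ∉ Γ 1 → (∀ a ∈ A, a ∈ Γ 1 → ⁅a, m⁆ ∈ A) → Γ (n - 1) ≤ A →
    ∃ j, 1 ≤ j ∧ j < n ∧ A ⊓ Γ 1 = Γ j

/-- quadratic action -/
def Quad : Prop := ∀ (G : Type u) [Group G] [Finite G] (p n j : ℕ) [Fact p.Prime] (S : Subgroup G) (Γ : ℕ → Subgroup G),
  Cs p n S Γ → 2 ≤ j → ∀ y ∈ Γ j, ∀ u ∈ Γ 1, u ∈ centralizer (Γ (j + 1) : Set G) → u ^ p = 1 → Commute y ⁅y, u⁆

/-- weights -/
structure WT : Prop where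
  ex : ∀ (G : Type u) [Group G] (p n u : ℕ) [Fact p.Prime] (S : Subgroup G) [Finite S] (Γ : ℕ → Subgroup G) (f : G → G),
    Ch p n S Γ → u < n → HomOn (Γ u) f → Set.InjOn f (Γ u) → (∀ x ∈ Γ u, f x ∈ Γ u) →
    (∀ x ∈ Γ (u + 1), f x ∈ Γ (u + 1)) → ∃ c : ZMod p, c ≠ 0 ∧ Wt Γ u f c
  of : ∀ (G : Type u) [Group G] (p n : ℕ) [Fact p.Prime] (S : Subgroup G) [Finite S] (Γ : ℕ → Subgroup G) (f : G → G),
    Ch p n S Γ → 4 ≤ n → HomOn S f → Set.InjOn f S → (∀ x ∈ S, f x ∈ S) → Au S Γ f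
  conj : ∀ (G : Type u) [Group G] (p n : ℕ) [Fact p.Prime] (S : Subgroup G) (Γ : ℕ → Subgroup G) (k : G),
    Ch p n S Γ → k ∈ normalizer (S : Set G) → k ∈ normalizer (Γ 1 : Set G) →
    Au S Γ (cj k) ∧ ∀ u, k ∈ normalizer (Γ u : Set G)
  gen : ∀ (G : Type u) [Group G] (p n : ℕ) [Fact p.Prime] (S : Subgroup G) [Finite S] (Γ : ℕ → Subgroup G) (f : G → G),
    Ch p n S Γ → 3 ≤ n → Au S Γ f → ∃ a b : ZMod p, a ≠ 0 ∧ b ≠ 0 ∧ Wt Γ 0 f a ∧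
      (∀ u, 1 ≤ u → u + 2 ≤ n → Wt Γ u f (b * a ^ (u - 1))) ∧
      (⁅Γ (n - 2), Γ 1⁆ ≠ ⊥ → Wt Γ (n - 1) f (b * b * a ^ (n - 3)))
  cs : ∀ (G : Type u) [Group G] (p n : ℕ) [Fact p.Prime] (S : Subgroup G) [Finite S] (Γ : ℕ → Subgroup G),
    Cs p n S Γ → ⁅Γ 1, Γ 1⁆ ≠ ⊥ → ∃ l, ∀ f, Au S Γ f → ∃ a : ZMod p, a ≠ 0 ∧
      ∀ u, 1 ≤ u → u < n → Wt Γ u f (a ^ (u + l))
  exc : ∀ (G : Type u) [Group G] (p n : ℕ) [Fact p.Prime] (S : Subgroup G) [Finite S] (Γ : ℕ → Subgroup G),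
    Ch p n S Γ → 3 ≤ n → ⁅Γ (n - 2), Γ 1⁆ ≠ ⊥ → ¬ ⁅Γ 1, Γ 1⁆ ≤ Γ (n - 1) → ∃ l, ∀ f, Au S Γ f → ∃ a : ZMod p, a ≠ 0 ∧
      (∀ u, 1 ≤ u → u + 2 ≤ n → Wt Γ u f (a ^ (u + l))) ∧ Wt Γ (n - 1) f (a ^ (n - 1 + 2 * l))
  frat : ∀ (G : Type u) [Group G] [Finite G] (p n : ℕ) [Fact p.Prime] (S H : Subgroup G) (Γ : ℕ → Subgroup G),
    Ch p n S Γ → ¬ p ∣ S.index → S ≤ H → (∀ u, 1 ≤ u → H ≤ normalizer (Γ u : Set G)) → ∀ k ∈ H,
    ∃ k₁ ∈ H, k₁ ∈ normalizer (S : Set G) ∧ ∀ u, 1 ≤ u → ∀ c : ZMod p, Wt Γ u (cj k₁) c → Wt Γ u (cj k) c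

/-! ### the parts: the group `X` -/

/-- chief factors in coordinates -/
def SecThm : Prop := ∀ (G : Type u) [Group G] [Finite G] (p n x w l : ℕ) [Fact p.Prime] (S H : Subgroup G)
  (Γ : ℕ → Subgroup G) (s : G) (a : G → ZMod p), Ch p n S Γ → ¬ p ∣ S.index → S ≤ H → H ≤ normalizer (Γ 1 : Set G) →
  s ∈ S → s ∉ Γ 1 → 1 ≤ x → w < p → x + w ≤ n → (x + w < n ∨ Cs p n S Γ) → Nn H Γ x (x + w) →
  (∀ h ∈ H, h ∈ normalizer (S : Set G) → a h ≠ 0 ∧ ∀ u, x ≤ u → u < x + w → Wt Γ u (cj h) (a h ^ (u + l))) →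
  ∃ β : G → Mt p w, Cyc p w (x + l) β (Γ 1) S H s a ∧ ⁅Γ x, Γ 1⁆ ≤ Γ (x + w) ∧
    (x + w = n → ∃ ψ, Cd (Γ x) ψ ∧ ∀ h ∈ H, ∀ c, ψ ((β h).mulVec c) = h * ψ c * h⁻¹)

/-- two sections with consecutive weights -/
def C4 : Prop := ∀ (G : Type u) [Group G] [Finite G] (p w₁ w₂ w₃ ε₁ ε₃ : ℕ) [Fact p.Prime] (β₁ : G → Mt p w₁)
  (β₂ : G → Mt p w₂) (β₃ : G → Mt p w₃) (P S L : Subgroup G) (s : G) (a : G → ZMod p), Cyc p w₁ ε₁ β₁ P S L s a →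
  Cyc p w₂ (ε₁ + w₁) β₂ P S L s a → Cyc p w₃ ε₃ β₃ P S L s a → 1 ≤ w₁ → 1 ≤ w₂ → 2 ≤ w₃ → w₁ + w₂ + w₃ ≤ p → False

/-- the structure of `X` when some member of the chain is not normal -/
def AlS : Prop := ∀ (G : Type u) [Group G] [Finite G] (p n i r : ℕ) [Fact p.Prime] (S : Subgroup G) (Γ : ℕ → Subgroup G),
  Cs p n S Γ → 3 ≤ p → ¬ p ∣ S.index → (Γ 1).Normal → ⁅Γ 1, Γ 1⁆ ≠ ⊥ → (∃ j, 1 ≤ j ∧ ¬ (Γ j).Normal) →
  (i = 1 ∧ n ≤ p + 1 ∨ i + p = n + 1 ∧ p + 2 ≤ n) → (Γ i).Normal → (Γ r).Normal → i + 2 ≤ r → r + 2 ≤ n →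
  ⁅Γ i, Γ 1⁆ ≤ Γ r ∧ Nn ⊤ Γ i r ∧ ∃ (ψ : (Fin (n - r) → ZMod p) → G) (o : ℕ), Cd (Γ r) ψ ∧ 1 ≤ o ∧
    o * (min (r - i) (n - r) - 1) + 2 ≤ p ∧ ∀ k, ∃ M : Mt p (n - r), M.det ^ o = 1 ∧ ∀ c, ψ (M.mulVec c) = k * ψ c * k⁻¹

/-- the exceptional case: an element with a primitive weight on the centre -/
def X2A : Prop := ∀ (G : Type u) [Group G] [Finite G] (p n : ℕ) [Fact p.Prime] (S : Subgroup G) (Γ : ℕ → Subgroup G)
  (k : G) (t : ZMod p), Ch p n S Γ → 4 ≤ n → ⁅Γ (n - 2), Γ 1⁆ ≠ ⊥ → ¬ ⁅Γ 1, Γ 1⁆ ≤ Γ (n - 1) → ¬ p ∣ S.index →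
  (Γ 1).Normal → Wt Γ (n - 1) (cj k) t → orderOf t = p - 1 →
  ∃ (a : ZMod p) (l : ℕ), orderOf a = p - 1 ∧ ∀ u, 1 ≤ u → u + 2 ≤ n → Wt Γ u (cj k) (a ^ (u + l))

/-- action on a normal member of the chain, group form -/
def UniG : Prop := ∀ (G : Type u) [Group G] [Finite G] (p n m r : ℕ) [Fact p.Prime] (S : Subgroup G) (Γ : ℕ → Subgroup G),
  Ch p n S Γ → ¬ p ∣ S.index → centralizer (pCore p G : Set G) ≤ pCore p G → 3 ≤ r → r ≤ m → m ≤ n → n ≤ m + 1 →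
  (m < n ∨ Cs p n S Γ) → Γ m ≤ center G →
  ∃ U : Subgroup G, U.Normal ∧ Γ 1 ≤ U ∧ ∀ g ∈ U, (orderOf g).Coprime p → g ∈ centralizer (Γ r : Set G)

/-! ### the parts: the group `L` -/

/-- the determinant lemma -/
def Det : Prop := ∀ (L : Type u) [Group L] [Finite L] (p w o m : ℕ) [Fact p.Prime] (E N D R : Subgroup L)
  (ψ : (Fin w → ZMod p) → L) (y : L), Loc p E N → D ≤ oz p E → Cd D ψ →
  (∀ h ∈ normalizer (N : Set L), ∃ M : Mt p w, M.det ^ o = 1 ∧ ∀ c, ψ (M.mulVec c) = h * ψ c * h⁻¹) →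
  y ∈ N → y ∉ E → y ^ p ∈ E → (∀ u ∈ oz p E, ⁅y, u⁆ ∈ R ∧ Commute y ⁅y, u⁆) → Nat.card R ≤ p ^ m → 1 ≤ o →
  o * m + 2 ≤ p → D.Normal

/-- a subgroup of index `p` with a character of small order -/
def N2 : Prop := ∀ (L : Type u) [Group L] [Finite L] (p o : ℕ) [Fact p.Prime] (E N C D : Subgroup L) (m y : L),
  Loc p E N → D.Normal → D ≤ C → C ≤ E → normalizer (N : Set L) ≤ normalizer (C : Set L) → m ∈ E → m ∉ C → m ^ p ∈ C →
  (∀ e ∈ E, ∃ c : ZMod p, (m ^ c.val)⁻¹ * e ∈ C) → (∀ h ∈ normalizer (N : Set L), ∃ c : ZMod p, c ^ o = 1 ∧ (m ^ c.val)⁻¹ * (h * m * h⁻¹) ∈ C) →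
  y ∈ N → y ∉ E → y ^ p ∈ E → (∀ e ∈ E, ⁅y, ⁅y, e⁆⁆ ∈ D) → 1 ≤ o → o + 2 ≤ p → C.Normal

def Na12 : Prop := ∀ (L : Type u) [Group L] [Finite L] (p n l j : ℕ) [Fact p.Prime] (E N : Subgroup L)
  (Δ : ℕ → Subgroup L) (y z z₂ : L) (a : L → ZMod p), NA p n l j E N Δ y z z₂ a →
  p - 1 ∣ n - 2 + l ∧ ∀ r, (∀ h ∈ normalizer (N : Set L), a h ^ r = 1) → p - 1 ∣ r

def Na34 : Prop := ∀ (L : Type u) [Group L] [Finite L] (p n l j : ℕ) [Fact p.Prime] (E N : Subgroup L)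
  (Δ : ℕ → Subgroup L) (y z z₂ : L) (a : L → ZMod p), NA p n l j E N Δ y z z₂ a → p - 1 ∣ n - 2 + l →
  (∀ r, (∀ h ∈ normalizer (N : Set L), a h ^ r = 1) → p - 1 ∣ r) → False

/-- transvections -/
def X2L : Prop := ∀ (L : Type u) [Group L] [Finite L] (p : ℕ) [Fact p.Prime] (E N : Subgroup L) (z : L), Loc p E N →
  z ∈ E → N ≤ centralizer {z} → z ^ p = 1 → normalizer (N : Set L) ≤ normalizer (zpowers z : Set L) →
  ¬ (zpowers z).Normal → ∀ y ∈ N, y ∉ E → (∃ g, ¬ Commute y (g * z * g⁻¹)) ∧ ((∀ e ∈ E, ⁅e, y⁆ ∈ zpowers z) →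
    (∀ g, Commute y (g * z * g⁻¹) → g ∈ normalizer (N : Set L)) ∧ ∀ g, ¬ Commute y (g * z * g⁻¹) → ∀ t : ZMod p, t ≠ 0 →
      ∃ h ∈ normalizer (N : Set L), h * z * h⁻¹ = z ^ t.val ∧ ∀ e ∈ E, ⁅e, h⁆ ∈ zpowers z ⊔ zpowers (g * z * g⁻¹))

/-! ### the parts: the amalgam -/

def AlG : Prop := ∀ (X L : Type u) [Group X] [Group L] [Finite X] [Finite L] (p n : ℕ) [Fact p.Prime] (S E N : Subgroup X)
  (Γ : ℕ → Subgroup X) (ι : X → L), Dat p n S Γ E N ι → Cs p n S Γ → 3 ≤ p → R1 n Γ E ι →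
  (∃ j, 1 ≤ j ∧ ¬ (Γ j).Normal) → False

def NaG : Prop := ∀ (X L : Type u) [Group X] [Group L] [Finite X] [Finite L] (p n : ℕ) [Fact p.Prime] (S E N : Subgroup X)
  (Γ : ℕ → Subgroup X) (ι : X → L), Dat p n S Γ E N ι → Cs p n S Γ → 3 ≤ p → R1 n Γ E ι →
  (∀ j, 1 ≤ j → (Γ j).Normal) → False

def GT0 : Prop := ∀ (X L : Type u) [Group X] [Group L] [Finite X] [Finite L] (p n : ℕ) [Fact p.Prime] (S E N : Subgroup X)
  (Γ : ℕ → Subgroup X) (ι : X → L), Dat p n S Γ E N ι → Cs p n S Γ → 3 ≤ p → R1 n Γ E ι → False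

theorem gt0_of (h1 : AlG.{u}) (h2 : NaG.{u}) : GT0.{u} := fun X L _ _ _ _ p n _ S E N Γ ι h c p3 r => by
  by_cases k : ∀ j, 1 ≤ j → (Γ j).Normal
  · exact h2 X L p n S E N Γ ι h c p3 r k
  · exact h1 X L p n S E N Γ ι h c p3 r (by simpa using k)

def GT1 : Prop := ∀ (X L : Type u) [Group X] [Group L] [Finite X] [Finite L] (p n : ℕ) [Fact p.Prime] (S E N : Subgroup X)
  (Γ : ℕ → Subgroup X) (ι : X → L), Dat p n S Γ E N ι → 3 ≤ p →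
  (Cs p n S Γ ∨ (Γ (n - 1)).Normal ∧ (img ι (Γ (n - 1))).Normal) → Uni p Γ E ι → False

def X2G : Prop := ∀ (X L : Type u) [Group X] [Group L] [Finite X] [Finite L] (p n : ℕ) [Fact p.Prime] (S E N : Subgroup X)
  (Γ : ℕ → Subgroup X) (ι : X → L), Dat p n S Γ E N ι → 4 ≤ n → ⁅Γ (n - 2), Γ 1⁆ ≠ ⊥ → p ^ 4 ≤ Nat.card E →
  (img ι (Γ (n - 1))).Normal

/-- the group form of the case `N_S(E) ≤ γ₁(S)` -/
def GT : Prop := ∀ (X L : Type u) [Group X] [Group L] [Finite X] [Finite L] (p n : ℕ) [Fact p.Prime] (S E N : Subgroup X)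
  (Γ : ℕ → Subgroup X) (ι : X → L), Dat p n S Γ E N ι → 3 ≤ p → 4 ≤ n → (⁅Γ (n - 2), Γ 1⁆ = ⊥ ∨ p ^ 4 ≤ Nat.card E) →
  (⁅Γ (n - 2), Γ 1⁆ = ⊥ ∨ (img ι (Γ (n - 1))).Normal → Uni p Γ E ι) → False

theorem gt_of (h0 : SLm.{u}) (h1 : GT1.{u}) (h2 : X2G.{u}) : GT.{u} := fun X L _ _ _ _ p n _ S E N Γ ι h p3 n4 c k => by
  by_cases e : ⁅Γ (n - 2), Γ 1⁆ = ⊥
  · exact h1 X L p n S E N Γ ι h p3 (.inl (h.ch.cs (by omega) e)) (k (.inl e))
  have z := h2 X L p n S E N Γ ι h n4 e (c.resolve_left e)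
  refine h1 X L p n S E N Γ ι h p3 (.inr ⟨?_, z⟩) (k (.inr z))
  have := h.nrm
  rw [show Γ (n - 1) = Γ 1 ⊓ centralizer (Γ 1 : Set X) from le_antisymm (le_inf (h.ch.anti (by omega))
    fun x hx y hy => (h.ch.central hx (h.ch.le 1 hy)).symm.eq)
    fun x hx => h0.cen X p n 1 S Γ h.ch e le_rfl (by omega) x hx.1 hx.2]
  infer_instance

/-- the group form of the cases `E ⊄ γ₁(S)`, `|E| = p ^ 4` or `p ^ 3`, in an exceptional group -/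
def X1G : Prop := ∀ (G L : Type u) [Group G] [Group L] [Finite L] (p n j : ℕ) [Fact p.Prime] (S E N : Subgroup G) [Finite S]
  (Γ : ℕ → Subgroup G) (m : G) (ι : G → L), Ch p n S Γ → 4 ≤ n → ⁅Γ (n - 2), Γ 1⁆ ≠ ⊥ → E ≤ N → N ≤ S → m ∈ E →
  m ∉ Γ 1 → E ⊓ Γ 1 = Γ j → N ⊓ Γ 1 = Γ (j - 1) →
  (j + 3 = n ∧ m ∈ centralizer (Γ (n - 2) : Set G) ∨ j + 2 = n ∧ m ∉ centralizer (Γ (n - 2) : Set G)) →
  HomOn N ι → Set.InjOn ι N → Loc p (img ι E) (img ι N) →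
  (∀ h ∈ normalizer (img ι N : Set L), h ∈ centralizer (img ι (Γ (n - 1)) : Set L) →
    ∃ f, Au S Γ f ∧ ∀ x ∈ N, f x ∈ N ∧ ι (f x) = h * ι x * h⁻¹) → False

/-! ### the parts: fusion systems -/

/-- the local group -/
def LocF : Prop := ∀ (Ω : Type u) [Group Ω] (S E : Subgroup Ω) [Finite S] (p : ℕ) [Fact p.Prime] (F : FusionSystem S),
  IsPGroup p S → F.IsSaturated p → F.IsEssential p E →
  (∀ Q f, E < Q → Q ≤ normalizerIn S E → Mor F Q f → (∀ x ∈ E, f x ∈ E) →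
    ∃ g, HomOn (normalizerIn S E) g ∧ (∀ x ∈ E, g x = f x) ∧ ∀ x ∈ normalizerIn S E, g x ∈ normalizerIn S E) →
  ∃ (L : Type u) (_ : Group L) (_ : Finite L) (ι : Ω → L), HomOn (normalizerIn S E) ι ∧ Set.InjOn ι (normalizerIn S E) ∧
    Loc p (img ι E) (img ι (normalizerIn S E)) ∧ ∀ P ≤ normalizerIn S E, ∀ (g : L),
      (∀ x ∈ P, g * ι x * g⁻¹ ∈ img ι (normalizerIn S E)) →
      ∃ f, Mor F P f ∧ ∀ x ∈ P, f x ∈ normalizerIn S E ∧ ι (f x) = g * ι x * g⁻¹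

/-- subgroups not contained in `Γ 1` that have a characteristic chain -/
def Chn : Prop := ∀ (Ω : Type u) [Group Ω] (S E : Subgroup Ω) [Finite S] (p n j : ℕ) [Fact p.Prime] (F : FusionSystem S)
  (Γ : ℕ → Subgroup Ω) (m : Ω), F.IsSaturated p → Ch p n S Γ → F.IsEssential p E → m ∈ E → m ∉ Γ 1 → E ⊓ Γ 1 = Γ j →
  2 ≤ j → (j + 3 ≤ n ∧ m ∉ centralizer (Γ (n - 2) : Set Ω) ∨ j + 5 ≤ n ∨
    j + 4 = n ∧ (3 ≤ j ∨ ∀ γ ∈ F.autGroup E, ∀ x ∈ Γ (n - 1), autFun γ x ∈ Γ (n - 1))) → False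

/-- action on a normal member of the chain -/
def UniF : Prop := ∀ (Ω : Type u) [Group Ω] (S : Subgroup Ω) [Finite S] (p n m r : ℕ) [Fact p.Prime] (F : FusionSystem S)
  (Γ : ℕ → Subgroup Ω), F.IsSaturated p → Ch p n S Γ → 3 ≤ r → r ≤ m → m ≤ n → n ≤ m + 1 → (m < n ∨ Cs p n S Γ) →
  ∃ O : Subgroup (MulAut (Γ r)), (∀ α ∈ O, (orderOf α).Coprime p → α = 1) ∧
    (∀ α ∈ F.autGroup (Γ r), (∀ x ∈ Γ m, autFun α x = x) → ∀ β ∈ O, α * β * α⁻¹ ∈ O) ∧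
    ∀ y ∈ Γ 1, ∀ α : MulAut (Γ r), (∀ x ∈ Γ r, autFun α x = y * x * y⁻¹) → α ∈ O

/-- the case `N_S(E) ≤ γ₁(S)` -/
def NeF : Prop := ∀ (Ω : Type u) [Group Ω] (S E : Subgroup Ω) [Finite S] (p n : ℕ) [Fact p.Prime] (F : FusionSystem S)
  (Γ : ℕ → Subgroup Ω), F.IsSaturated p → Ch p n S Γ → 3 ≤ p → 4 ≤ n → F.IsEssential p E → normalizerIn S E ≤ Γ 1 →
  (⁅Γ (n - 2), Γ 1⁆ = ⊥ ∨ p ^ 4 ≤ Nat.card E) →
  (∀ A Q, F.IsEssential p A → Q ≤ A → Q ≤ Γ 1 → Nat.card E < Nat.card Q → A = Γ 1) → False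

/-- the cases `E ⊄ γ₁(S)`, `|E| = p ^ 4` or `p ^ 3`, in an exceptional group -/
def X1F : Prop := ∀ (Ω : Type u) [Group Ω] (S E : Subgroup Ω) [Finite S] (p n j : ℕ) [Fact p.Prime] (F : FusionSystem S)
  (Γ : ℕ → Subgroup Ω) (m : Ω), F.IsSaturated p → Ch p n S Γ → 4 ≤ n → ⁅Γ (n - 2), Γ 1⁆ ≠ ⊥ → F.IsEssential p E →
  m ∈ E → m ∉ Γ 1 → E ⊓ Γ 1 = Γ j →
  (j + 3 = n ∧ m ∈ centralizer (Γ (n - 2) : Set Ω) ∨ j + 2 = n ∧ m ∉ centralizer (Γ (n - 2) : Set Ω)) →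
  (∀ F' : FusionSystem S, F'.IsSaturated p → ∀ A, F'.IsEssential p A → Nat.card E < Nat.card A →
    A = Γ 1 ∨ A = S ⊓ centralizer (Γ (n - 2) : Set Ω)) → False

/-- the prime `2` -/
def P2 : Prop := ∀ (Ω : Type u) [Group Ω] (S : Subgroup Ω) [Finite S] (n : ℕ), Nat.card S = 2 ^ n → 4 ≤ n →
  S.lowerCentralSeries (n - 2) ≠ ⊥ → ∀ F : FusionSystem S, F.IsSaturated 2 → ∀ Γ₁ : Subgroup Ω,
  (∀ x, x ∈ Γ₁ ↔ x ∈ S ∧ ∀ y ∈ S.lowerCentralSeries 1, x * y * x⁻¹ * y⁻¹ ∈ S.lowerCentralSeries 3) →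
  (∀ E : Subgroup Ω, F.IsEssential 2 E → Nat.card E = 2 ^ 2 ∧ IsElementaryAbelian 2 E ∨
    Nat.card E = 2 ^ 3 ∧ IsExtraspecial 2 E ∧ Nonempty (E ≃* QuaternionGroup 2)) ∧
  Γ₁ = S ⊓ centralizer ((Subgroup.upperCentralSeries S 2).map S.subtype : Set Ω)

end CL.MX
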