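/-
Project MX, second part: elementary facts on chains.
-/
import Cfsg.Agent.MX.Defs2
import Cfsg.Agent.Fgs.HallPetrescu

set_option autoImplicit false

namespace CL.MX

open Subgroup Cfsg
open scoped commutatorElement

universe u

namespace SLx

variable {G : Type u} [Group G] {p n : ℕ} [hp : Fact p.Prime] {S A : Subgroup G} {Γ : ℕ → Subgroup G} {x y m : G}

theorem lcs {H : Subgroup G} (f : ℕ → ℕ) (h0 : H ≤ Γ (f 0)) (h : ∀ k, ⁅Γ (f k), H⁆ ≤ Γ (f (k + 1))) (k : ℕ) :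
    H.lowerCentralSeries k ≤ Γ (f k) := by
  induction k with
  | zero => exact h0
  | succ k ih => exact (commutator_mono ih le_rfl).trans (h k)

theorem cm_pow (x t : G) (k : ℕ) : x ^ k * (t * x⁻¹ * t⁻¹) ^ k = ⁅x ^ k, t⁆ := by
  rw [conj_pow, inv_pow, commutatorElement_def]; group

theorem cm_mul (x t : G) : x * (t * x⁻¹ * t⁻¹) = ⁅x, t⁆ := by rw [commutatorElement_def]; group

theorem per {z : ℕ} (h : Cs p n S Γ) (p3 : 3 ≤ p) (hn : p + 2 ≤ n) (hz : 2 ≤ z) (hzn : z + (p - 1) ≤ n) (hx : x ∈ Γ 1) :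
    x ∈ Γ z ↔ x ^ p ∈ Γ (z + (p - 1)) := by
  refine ⟨h.pm z hz x, fun k => by_contra fun l => ?_⟩
  obtain ⟨a, a1, a2, a3, a4⟩ := h.level hx l
  rcases a1.lt_or_eq with a5 | rfl
  · exact h.pw a a5 (by omega) x a3 a4 (h.anti (by omega) k)
  obtain ⟨s, hs, hs'⟩ := h.ex (j := 0) (by omega)
  rw [h.zero] at hs
  have e := CL.Fgs.mul_pow_prime_mem hp.out a3 (h.conj (inv_mem a3) hs) (Γ (p + 2))
    (fun c hc => h.anti (by omega) (h.pm 3 (by omega) c (h.sc 1 1 le_rfl le_rfl hc)))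
    ((lcs (fun k => 2 * k + 1) le_rfl (fun k => h.sc _ 1 (by omega) le_rfl) _).trans (h.anti (by omega)))
  rw [cm_pow, cm_mul, mul_mem_cancel_left (inv_mem (h.comm (j := p + 1) (h.anti (by omega) k) hs))] at e
  exact h.pw 2 le_rfl (by omega) _ (h.comm a3 hs) (h.sun 1 le_rfl (by omega) x a3 a4 s hs hs') (h.anti (by omega) e)

theorem pair {a b : ℕ} (h : Ch p n S Γ) (k : ⁅Γ (n - 2), Γ 1⁆ ≠ ⊥) (ha : 1 ≤ a) (hb : 1 ≤ b) (e : a + b + 1 = n)
    (hx : x ∈ Γ a) (hx' : x ∉ Γ (a + 1)) (hy : y ∈ Γ b) (hy' : y ∉ Γ (b + 1)) : ⁅x, y⁆ ≠ 1 := fun c => by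
  have z : ∀ u v, u + v = n → Γ u ≤ centralizer (Γ v : Set G) := fun u v l =>
    commutator_eq_bot_iff_le_centralizer.1 (le_bot_iff.1 ((h.cc0 u v).trans (h.bot _ l.ge).le))
  have h1 : Γ b ≤ centralizer {x} := by
    rw [← h.sup hy hy']
    exact sup_le ((z (b + 1) a (by omega)).trans (centralizer_le (Set.singleton_subset_iff.2 hx)))
      (zpowers_le.2 (mem_centralizer_singleton_iff.2 (commutatorElement_eq_one_iff_mul_comm.1 c).symm))
  have h2 : Γ a ≤ centralizer (Γ b : Set G) := by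
    rw [← h.sup hx hx']
    exact sup_le (z (a + 1) b (by omega)) (zpowers_le.2 fun w hw => mem_centralizer_singleton_iff.1 (h1 hw))
  refine k ((h.comm_last_iff hb (by omega)).1 ?_)
  rw [show n - 1 - b = a by omega]
  exact commutator_eq_bot_iff_le_centralizer.2 h2

theorem exc (h : Ch p n S Γ) (n4 : 4 ≤ n) (k : ⁅Γ (n - 2), Γ 1⁆ ≠ ⊥) : Even n ∧ 6 ≤ n ∧ n ≤ p + 1 := by
  have ev : Even n := by
    refine (Nat.even_or_odd n).resolve_right fun ⟨j, hj⟩ => ?_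
    obtain ⟨x, hx, hx'⟩ := h.ex (j := j) (by omega)
    exact pair h k (by omega) (by omega) (by omega) hx hx' hx hx' (commutatorElement_self x)
  have n6 : 6 ≤ n := by
    have : n ≠ 4 := fun e => k (by subst e; exact le_bot_iff.1 (h.c2.trans (h.bot 4 le_rfl).le))
    obtain ⟨j, hj⟩ := ev
    omega
  refine ⟨ev, n6, by_contra fun l => k ?_⟩
  have p2 := hp.out.two_le
  obtain ⟨j, hj, j2, j3⟩ : ∃ j, n = j + p + 1 ∧ 2 ≤ j ∧ n ≤ (p - 1 + 1) * j := by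
    obtain ⟨i, hi⟩ := ev
    rcases hp.out.eq_two_or_odd' with rfl | ⟨q, hq⟩
    · exact ⟨n - 3, by omega, by omega, by omega⟩
    · refine ⟨n - p - 1, by omega, by omega, ?_⟩
      obtain ⟨j, rfl⟩ : ∃ j, n = j + 2 + p + 1 := ⟨n - p - 3, by omega⟩
      rw [show j + 2 + p + 1 - p - 1 = j + 2 by omega, show p - 1 + 1 = p by omega]
      nlinarith [show 3 ≤ p by omega]
  obtain ⟨x, hx, hx'⟩ := h.ex (j := j) (by omega)
  have h1 : x ^ p ∈ Γ (n - 2) := h.anti (by omega) (h.pm j j2 x hx)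
  have h2 : x ^ p ∉ Γ (n - 2 + 1) := fun e => h.pw j j2 (by omega) x hx hx' (h.anti (by omega) e)
  rw [commutator_eq_bot_iff_le_centralizer, ← h.sup h1 h2]
  refine sup_le (fun w hw t ht => (h.central (h.anti (by omega) hw) (h.le 1 ht)).symm.eq) (zpowers_le.2 fun t ht => ?_)
  have e := CL.Fgs.mul_pow_prime_mem hp.out hx (h.conj (inv_mem hx) (h.le 1 ht)) ⊥
    (fun c hc => (h.bot _ (by omega)).le (h.pm (j + j) (by omega) c (h.cc0 j j hc)))
    ((lcs (fun k => (k + 1) * j) (by simp) (fun k => (h.cc0 _ j).trans (by rw [← Nat.succ_mul])) _).trans (h.bot _ j3).le)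
  have e2 := (h.bot _ (by omega)).le
    (h.pm (j + 1 + 1) (by omega) _ (h.cc j 1 (by omega) le_rfl (by omega) (commutator_mem_commutator hx ht)))
  rw [cm_pow, cm_mul, mul_mem_cancel_right e2, inv_mem_iff, mem_bot] at e
  exact (commutatorElement_eq_one_iff_mul_comm.1 e).symm

theorem cen {i : ℕ} (h : Ch p n S Γ) (k : ⁅Γ (n - 2), Γ 1⁆ ≠ ⊥) (hi : 1 ≤ i) (hx : x ∈ Γ 1)
    (c : x ∈ centralizer (Γ i : Set G)) : x ∈ Γ (n - i) := by_contra fun l => by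
  obtain ⟨a, a1, a2, a3, a4⟩ := h.level hx l
  obtain ⟨y, hy, hy'⟩ := h.ex (j := n - 1 - a) (by omega)
  exact pair h k a1 (by omega) (by omega) a3 a4 hy hy'
    (commutatorElement_eq_one_iff_mul_comm.2 (c y (h.anti (by omega) hy)).symm)

theorem lev {j : ℕ} (h : Ch p n S Γ) (hm : m ∈ S) (hm' : m ∉ Γ 1) (hA : ∀ a ∈ A, a ∈ Γ 1 → ⁅a, m⁆ ∈ A)
    (hz : Γ (n - 1) ≤ A) (h1 : 1 ≤ j) (hxA : x ∈ A) (hx : x ∈ Γ j) (hx' : x ∉ Γ (j + 1)) : Γ j ≤ A := by
  obtain ⟨r, hr⟩ : ∃ r, n = j + r + 1 := ⟨n - j - 1, by have := h.lt_of hx hx'; omega⟩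
  induction r generalizing j x with
  | zero => exact (h.anti (by omega)).trans hz
  | succ r ih =>
    rw [← h.sup hx hx']
    refine sup_le ?_ (zpowers_le.2 hxA)
    rcases Nat.eq_zero_or_pos r with rfl | l
    · exact (h.anti (by omega)).trans hz
    · exact ih (by omega) (hA x hxA (h.anti h1 hx)) (h.comm hx hm) (h.un j h1 (by omega) x hx hx' m hm hm') (by omega)

theorem eqle (h : Ch p n S Γ) (n2 : 2 ≤ n) (hm : m ∈ S) (hm' : m ∉ Γ 1) (hA : ∀ a ∈ A, a ∈ Γ 1 → ⁅a, m⁆ ∈ A)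
    (hz : Γ (n - 1) ≤ A) : ∃ j, 1 ≤ j ∧ j < n ∧ A ⊓ Γ 1 = Γ j := by
  classical
  have ex : ∃ j, Γ (j + 1) ≤ A := ⟨n - 2, (h.anti (by omega)).trans hz⟩
  refine ⟨Nat.find ex + 1, by omega, ?_, le_antisymm (fun a ha => by_contra fun k => ?_)
    (le_inf (Nat.find_spec ex) (h.anti (by omega)))⟩
  · have := Nat.find_min' ex (m := n - 2) ((h.anti (by omega)).trans hz)
    omega
  · obtain ⟨j, a1, a2, a3, a4⟩ := h.level ha.2 k
    have := Nat.find_min' ex (m := j - 1) (by rw [Nat.sub_add_cancel a1]; exact lev h hm hm' hA hz a1 ha.1 a3 a4)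
    omega

end SLx

theorem slm : SLm.{u} where
  per _ _ _ _ _ _ _ _ h a b c d _ hx := SLx.per h a b c d hx
  exc _ _ _ _ _ _ _ h a b := SLx.exc h a b
  pair _ _ _ _ _ _ _ _ _ h k a b c _ hx hx' _ hy hy' := SLx.pair h k a b c hx hx' hy hy'
  cen _ _ _ _ _ _ _ _ h k a _ _ hx c := SLx.cen h k a hx c
  lev _ _ _ _ _ _ _ _ _ _ h a b c d e _ f g i := SLx.lev h a b c d e f g i
  eqle _ _ _ _ _ _ _ _ _ h a b c d e := SLx.eqle h a b c d e

end CL.MX
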