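/-
Project MX, second part: weights of automorphisms on the chain.
-/
import Cfsg.Agent.MX.Defs2

set_option autoImplicit false

namespace CL.MX

open Subgroup Cfsg Cfsg.FusionSystem CL.Fus
open scoped commutatorElement

universe u

namespace WTx

variable {G : Type u} [Group G] {p n u v w m : ℕ} {S A B : Subgroup G} {Γ : ℕ → Subgroup G} {f : G → G} {x y : G}

theorem mp_comm (hf : HomOn S f) (hA : A ≤ S) (hB : B ≤ S) (h1 : ∀ x ∈ A, f x ∈ A) (h2 : ∀ x ∈ B, f x ∈ B) :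
    ∀ x ∈ ⁅A, B⁆, f x ∈ ⁅A, B⁆ := fun x hx => by
  have : ⁅A, B⁆ ≤ (⁅A, B⁆.comap hf.toHom).map S.subtype := commutator_le.2 fun a ha b hb =>
    ⟨⁅(⟨a, hA ha⟩ : S), (⟨b, hB hb⟩ : S)⁆, show f ⁅a, b⁆ ∈ _ from (hf.map_commutator (hA ha) (hB hb)).symm ▸
      commutator_mem_commutator (h1 a ha) (h2 b hb), rfl⟩
  obtain ⟨y, hy, rfl⟩ := this hx
  exact hy

theorem surj [Finite S] (hA : A ≤ S) (hi : Set.InjOn f A) (h1 : ∀ x ∈ A, f x ∈ A) (hy : y ∈ A) : ∃ x ∈ A, f x = y :=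
  (((Set.toFinite (S : Set G)).subset hA).injOn_iff_bijOn_of_mapsTo h1).1 hi |>.surjOn hy

variable [hp : Fact p.Prime] (h : Ch p n S Γ)
include h

theorem wt_of (hf : HomOn (Γ u) f) (m0 : ∀ x ∈ Γ u, f x ∈ Γ u) (m1 : ∀ x ∈ Γ (u + 1), f x ∈ Γ (u + 1))
    (hy : y ∈ Γ u) (hy' : y ∉ Γ (u + 1)) {a : ℤ} (k : (y ^ a)⁻¹ * f y ∈ Γ (u + 1)) {c : ZMod p} (e : c = a) :
    Wt Γ u f c := fun x hx => by
  have l := h.anti (Nat.le_succ u)
  have : ((Γ (u + 1)).subgroupOf (Γ u)).Normal := (normal_subgroupOf_iff_le_normalizer l).2 ((h.le u).trans (h.norm _))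
  have w := powOn_of_elem (σ := hf.toHom.codRestrict (Γ u) fun x => m0 x x.2) (N := (Γ (u + 1)).subgroupOf (Γ u))
    (M := ⊤) (x := ⟨y, hy⟩) (a := a) (fun x hx => m1 x hx) k (by
      refine le_trans (subgroupOf_eq_top.2 (h.sup hy hy').ge).ge ?_
      rw [subgroupOf_sup l (zpowers_le.2 hy)]
      exact sup_le_sup_left (fun z ⟨i, hi⟩ => ⟨i, Subtype.ext hi⟩) _) ⟨x, hx⟩ trivial
  obtain ⟨b, hb⟩ : (p : ℤ) ∣ a - (c.val : ℕ) := (ZMod.intCast_eq_intCast_iff_dvd_sub _ _ p).1 (by simp [e])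
  have : (x ^ c.val)⁻¹ * f x = (x ^ p) ^ b * ((x ^ a)⁻¹ * f x) := by
    rw [← zpow_natCast, ← zpow_natCast, ← zpow_mul, ← hb, ← mul_assoc, ← zpow_neg, ← zpow_neg, ← zpow_add]
    congr 2; ring
  exact this ▸ mul_mem (zpow_mem (h.pow_mem hx) b) w

theorem ex [Finite S] (hu : u < n) (hf : HomOn (Γ u) f) (hi : Set.InjOn f (Γ u)) (m0 : ∀ x ∈ Γ u, f x ∈ Γ u)
    (m1 : ∀ x ∈ Γ (u + 1), f x ∈ Γ (u + 1)) : ∃ c : ZMod p, c ≠ 0 ∧ Wt Γ u f c := by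
  obtain ⟨y, hy, hy'⟩ := h.ex hu
  obtain ⟨c, hc⟩ := h.dec hy hy' (m0 y hy)
  have w : Wt Γ u f c := wt_of h hf m0 m1 hy hy' (a := c.val) (by rwa [zpow_natCast]) (by simp)
  refine ⟨c, ?_, w⟩
  rintro rfl
  obtain ⟨x, hx, rfl⟩ := surj (h.le u) hi m0 hy
  exact hy' (by simpa using w x hx)

theorem ex' [Finite S] (hu : u < n) (a : Au S Γ f) : ∃ c : ZMod p, c ≠ 0 ∧ Wt Γ u f c :=
  ex h hu (a.hom.mono (h.le u)) (a.inj.mono (h.le u)) (a.mem u) (a.mem _)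

theorem wt_comm (a : Au S Γ f) {c d : ZMod p} (w1 : Wt Γ u f c) (w2 : Wt Γ v f d) (hx : x ∈ Γ u) (hy : y ∈ Γ v)
    (k : ⁅x, y⁆ ∈ Γ w) (k' : ⁅x, y⁆ ∉ Γ (w + 1)) (c1 : ⁅Γ (u + 1), Γ v⁆ ≤ Γ (w + 1))
    (c2 : ⁅Γ u, Γ (v + 1)⁆ ≤ Γ (w + 1)) : Wt Γ w f (c * d) := by
  have : ((Γ (w + 1)).subgroupOf S).Normal := (normal_subgroupOf_iff_le_normalizer (h.le _)).2 (h.norm _)
  refine wt_of h (a.hom.mono (h.le w)) (a.mem w) (a.mem _) k k' (a := (c.val : ℤ) * (d.val : ℤ)) ?_ (by simp)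
  exact PowOn.comm (σ := a.hom.toHom.codRestrict S fun x => h.le 0 (a.mem 0 x (h.zero ▸ x.2)))
    (N := (Γ (w + 1)).subgroupOf S) (M₁ := (Γ u).subgroupOf S) (N₁ := (Γ (u + 1)).subgroupOf S)
    (M₂ := (Γ v).subgroupOf S) (N₂ := (Γ (v + 1)).subgroupOf S) (x := ⟨x, h.le u hx⟩) (y := ⟨y, h.le v hy⟩)
    (fun z hz => by rw [zpow_natCast]; exact w1 z hz) (fun z hz => by rw [zpow_natCast]; exact w2 z hz)
    (comap_mono (h.anti (Nat.le_succ v))) (commutator_le.2 fun _ ha _ hb => c1 (commutator_mem_commutator ha hb))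
    (commutator_le.2 fun _ ha _ hb => c2 (commutator_mem_commutator ha hb)) hx hy (h.comm k (h.le u hx))
    (h.comm k (h.le v hy))

theorem chain (a : Au S Γ f) {c d : ZMod p} (w0 : Wt Γ 0 f c) (w1 : Wt Γ 1 f d) (hm : m < n)
    (k : ∀ u, 1 ≤ u → u < m → ⁅Γ u, Γ 1⁆ ≤ Γ (u + 1 + 1) ∧
      ∀ x ∈ Γ u, x ∉ Γ (u + 1) → ∀ y ∈ S, y ∉ Γ 1 → ⁅x, y⁆ ∉ Γ (u + 2)) (h1 : 1 ≤ u) (hu : u ≤ m) :
    Wt Γ u f (d * c ^ (u - 1)) := by
  induction u, h1 using Nat.le_induction with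
  | base => simpa using w1
  | succ u h1 ih =>
    obtain ⟨x, hx, hx'⟩ := h.ex (j := u) (by omega)
    obtain ⟨s, hs, hs'⟩ := h.ex (j := 0) (by omega)
    have := wt_comm h a (ih (by omega)) w0 hx hs (h.comm hx (h.le 0 hs)) ((k u h1 hu).2 x hx hx' s (h.le 0 hs) hs')
      (commutator_le.2 fun _ ha _ hb => h.comm ha (h.le 0 hb)) (k u h1 hu).1
    rwa [mul_assoc, ← pow_succ, show u - 1 + 1 = u + 1 - 1 by omega] at this

theorem exl (hm : ¬ ⁅Γ 1, Γ 1⁆ ≤ Γ (m + 1)) : ∃ l, ∀ f, Au S Γ f → ∀ c d : ZMod p, c ≠ 0 → d ≠ 0 →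
    (∀ u, 1 ≤ u → u ≤ m → Wt Γ u f (d * c ^ (u - 1))) → d = c ^ (l + 1) := by
  obtain ⟨l, h1, h2⟩ : ∃ l, (∀ u v, 1 ≤ u → 1 ≤ v → ⁅Γ u, Γ v⁆ ≤ Γ (min (u + v + l) (m + 1))) ∧
      ¬ ∀ u v, 1 ≤ u → 1 ≤ v → ⁅Γ u, Γ v⁆ ≤ Γ (min (u + v + (l + 1)) (m + 1)) := by
    by_contra! k
    have : ∀ l, ∀ u v, 1 ≤ u → 1 ≤ v → ⁅Γ u, Γ v⁆ ≤ Γ (min (u + v + l) (m + 1)) := fun l => by
      induction l with
      | zero => exact fun u v _ _ => (h.cc0 u v).trans (h.anti (min_le_left _ _))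
      | succ l ih => exact k l ih
    exact hm (by simpa [show m + 1 ≤ 1 + 1 + m by omega] using this m 1 1 le_rfl le_rfl)
  simp only [commutator_le, not_forall] at h2
  obtain ⟨u, v, hu, hv, x, hx, y, hy, k'⟩ := h2
  have k := h1 u v hu hv (commutator_mem_commutator hx hy)
  have l1 : u + v + l ≤ m := by_contra fun e => k' (by rwa [min_eq_right (by omega)] at k ⊢)
  rw [min_eq_left (by omega)] at k k'
  refine ⟨l, fun f a c d c0 d0 w => ?_⟩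
  have w1 := wt_comm h a (w u hu (by omega)) (w v hv (by omega)) hx hy k k'
    ((h1 (u + 1) v (by omega) hv).trans (h.anti (by omega))) ((h1 u (v + 1) hu (by omega)).trans (h.anti (by omega)))
  have e := val_eq k' (h.pow_mem k) (w1 _ k) (w (u + v + l) (by omega) l1 _ k)
  rw [show u + v + l - 1 = u - 1 + (l + 1) + (v - 1) by omega, pow_add, pow_add, ← mul_assoc, ← mul_assoc,
    ← mul_assoc] at e
  exact mul_left_cancel₀ (mul_ne_zero d0 (pow_ne_zero _ c0)) (mul_right_cancel₀ (pow_ne_zero _ c0) e)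

theorem gen [Finite S] (h3 : 3 ≤ n) (a : Au S Γ f) : ∃ a b : ZMod p, a ≠ 0 ∧ b ≠ 0 ∧ Wt Γ 0 f a ∧
    (∀ u, 1 ≤ u → u + 2 ≤ n → Wt Γ u f (b * a ^ (u - 1))) ∧
    (⁅Γ (n - 2), Γ 1⁆ ≠ ⊥ → Wt Γ (n - 1) f (b * b * a ^ (n - 3))) := by
  obtain ⟨c, c0, w0⟩ := ex' h (u := 0) (by omega) a
  obtain ⟨d, d0, w1⟩ := ex' h (u := 1) (by omega) a
  have w : ∀ u, 1 ≤ u → u + 2 ≤ n → Wt Γ u f (d * c ^ (u - 1)) := fun u h1 hu =>
    chain h a w0 w1 (m := n - 2) (by omega) (fun u a b => ⟨h.cc u 1 a le_rfl (by omega), h.un u a (by omega)⟩) h1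
      (by omega)
  refine ⟨c, d, c0, d0, w0, w, fun e => ?_⟩
  obtain ⟨m, rfl⟩ : ∃ m, n = m + 3 := ⟨n - 3, by omega⟩
  rw [Ne, ← le_bot_iff, ← h.bot (m + 2 + 1) le_rfl] at e
  simp only [commutator_le, not_forall] at e
  obtain ⟨x, hx, y, hy, k⟩ := e
  have := wt_comm h a (w (m + 1) (by omega) le_rfl) w1 hx hy (h.comm hx (h.le 1 hy)) k
    (commutator_le.2 fun _ ha _ hb => h.comm ha (h.le 1 hb)) (h.cc0 _ _)
  rwa [mul_right_comm] at this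

theorem mem_one (h4 : 4 ≤ n) (hx : x ∈ S) (k : ∀ y ∈ Γ 2, ⁅y, x⁆ ∈ Γ 4) : x ∈ Γ 1 := by_contra fun hx' => by
  by_cases l : 5 ≤ n
  · obtain ⟨y, hy, hy'⟩ := h.ex (j := 2) (by omega)
    exact h.un 2 (by omega) l y hy hy' x hx hx' (k y hy)
  obtain rfl : n = 4 := by omega
  refine h.not_cent (by omega) ?_
  rw [← h.zero, ← h.sup (h.zero ▸ hx) hx']
  refine sup_le (le_centralizer_iff.1 (commutator_eq_bot_iff_le_centralizer.1 (le_bot_iff.1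
    (h.bot 4 le_rfl ▸ h.c2)))) (zpowers_le.2 fun y hy => commutatorElement_eq_one_iff_mul_comm.1 ?_)
  exact mem_bot.1 (h.bot 4 le_rfl ▸ k y hy)

theorem of [Finite S] (h4 : 4 ≤ n) (hf : HomOn S f) (hi : Set.InjOn f S) (hm : ∀ x ∈ S, f x ∈ S) : Au S Γ f := by
  have two : ∀ u, ∀ x ∈ Γ (u + 2), f x ∈ Γ (u + 2) := fun u => by
    induction u with
    | zero =>
      rw [show Γ (0 + 2) = ⁅S, S⁆ from le_antisymm ((h.cm 1 le_rfl).ge.trans (commutator_mono (h.le 1) le_rfl)) h.c00]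
      exact mp_comm hf le_rfl le_rfl hm hm
    | succ u ih =>
      rw [show Γ (u + 1 + 2) = _ from (h.cm (u + 2) (by omega)).symm]
      exact mp_comm hf (h.le _) le_rfl ih hm
  refine ⟨hf, hi, fun u => ?_⟩
  rcases u with _ | _ | u
  · exact h.zero ▸ hm
  · refine fun x hx => mem_one h h4 (hm x (h.le _ hx)) fun y hy => ?_
    obtain ⟨y, hy', rfl⟩ := surj (h.le 2) (hi.mono (h.le 2)) (two 0) hy
    rw [← hf.map_commutator (h.le _ hy') (h.le _ hx)]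
    exact two 2 _ (h.c2 (commutator_mem_commutator hy' hx))
  · exact two u

end WTx

open WTx in
theorem wtm : WT.{u} where
  ex _ _ _ _ _ _ _ _ _ _ h := ex h
  of _ _ _ _ _ _ _ _ _ h := WTx.of h
  conj G _ p n _ S Γ k h h0 h1 := by
    have : ∀ u, k ∈ normalizer (Γ u : Set G) := fun u => by
      rcases u with _ | u
      · rwa [h.zero]
      induction u with
      | zero => exact h1
      | succ u ih =>
        rw [← h.cm (u + 1) (by omega)]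
        exact zpowers_le.1 (CL.Grp.le_normalizer_commutator' (zpowers_le.2 ih) (zpowers_le.2 h0))
    exact ⟨⟨homOn_conj S k, fun _ _ _ _ e => mul_left_cancel (mul_right_cancel e),
      fun u x hx => (mem_normalizer_iff.1 (this u) x).1 hx⟩, this⟩
  gen _ _ _ _ _ _ _ _ _ h := gen h
  cs G _ p n _ S _ Γ h e := by
    have n4 : 3 < n := by_contra fun l => e (le_bot_iff.1 (h.bot 3 (by omega) ▸ h.sc 1 1 le_rfl le_rfl))
    obtain ⟨l, hl⟩ := exl h.toCh (m := n - 1) (by rwa [h.bot (n - 1 + 1) (by omega), le_bot_iff])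
    refine ⟨l, fun f a => ?_⟩
    obtain ⟨c, c0, w0⟩ := ex' h.toCh (u := 0) (by omega) a
    obtain ⟨d, d0, w1⟩ := ex' h.toCh (u := 1) (by omega) a
    have w : ∀ u, 1 ≤ u → u ≤ n - 1 → Wt Γ u f (d * c ^ (u - 1)) := fun u h1 hu =>
      chain h.toCh a w0 w1 (by omega) (fun u a b => ⟨h.sc u 1 a le_rfl, h.sun u a (by omega)⟩) h1 hu
    refine ⟨c, c0, fun u h1 hu => ?_⟩
    have := w u h1 (by omega)
    rwa [hl f a c d c0 d0 w, ← pow_add, show l + 1 + (u - 1) = u + l by omega] at this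
  exc G _ p n _ S _ Γ h h3 e k := by
    obtain ⟨l, hl⟩ := exl h (m := n - 2) (by rwa [show n - 2 + 1 = n - 1 by omega])
    refine ⟨l, fun f a => ?_⟩
    obtain ⟨c, d, c0, d0, -, w, w'⟩ := gen h h3 a
    obtain rfl := hl f a c d c0 d0 fun u h1 hu => w u h1 (by omega)
    refine ⟨c, c0, fun u h1 hu => ?_, ?_⟩
    · have := w u h1 hu
      rwa [← pow_add, show l + 1 + (u - 1) = u + l by omega] at this
    · have := w' e
      rwa [← pow_add, ← pow_add, show l + 1 + (l + 1) + (n - 3) = n - 1 + 2 * l by omega] at this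
  frat G _ _ p n _ S H Γ h hS hH hn k hk := by
    obtain ⟨a, ha, b, hb, e⟩ := I2A.frattini h.pg hS (N := H ⊓ ⨅ u, B.Sb (Γ (u + 1)) (Γ (u + 1 + 1)))
      (le_inf hH (le_iInf fun u s hs => ⟨h.norm _ hs, fun x hx => h.comm hx hs⟩)) (h := k) fun g hg => by
        have l := H.mul_mem (H.mul_mem hk hg.1) (H.inv_mem hk)
        refine ⟨l, mem_iInf.2 fun u => ⟨hn _ (by omega) l, fun x hx => ?_⟩⟩
        rw [show ⁅x, k * g * k⁻¹⁆ = k * ⁅k⁻¹ * x * k⁻¹⁻¹, g⁆ * k⁻¹ by simp only [commutatorElement_def]; group]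
        exact (mem_normalizer_iff.1 (hn _ (by omega) hk) _).1 ((mem_iInf.1 hg.2 u).2 _
          ((mem_normalizer_iff.1 (hn _ (by omega) (H.inv_mem hk)) _).1 hx))
    have bH : b ∈ H := (H.mul_mem_cancel_left ha.1).1 (e ▸ hk)
    refine ⟨b, bH, hb, fun u hu c w x hx => ?_⟩
    obtain ⟨u, rfl⟩ : ∃ v, u = v + 1 := ⟨u - 1, by omega⟩
    have := mul_mem (w x hx) ((mem_iInf.1 ha.2 u).2 _ (inv_mem ((mem_normalizer_iff.1 (hn _ hu bH) x).1 hx)))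
    rwa [show (x ^ c.val)⁻¹ * cj b x * ⁅(b * x * b⁻¹)⁻¹, a⁆ = (x ^ c.val)⁻¹ * cj k x by
      simp only [commutatorElement_def, cj, e]; group] at this

end CL.MX
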