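/-
Project MX, second part: the amalgam when some member of the chain is not normal in `X`.
-/
import Cfsg.Agent.MX.Defs2

set_option autoImplicit false

namespace CL.MX

open Subgroup Cfsg Cfsg.FusionSystem CL.Fus
open scoped commutatorElement

universe u

namespace AlGx

variable {X L : Type u} [Group X] [Group L] {p n : ℕ} [hp : Fact p.Prime] {S E N : Subgroup X} {Γ : ℕ → Subgroup X}
  {ι : X → L}

theorem le_of (h : Ch p n S Γ) {a b : ℕ} (ha : a < n) (k : Γ a ≤ Γ b) : b ≤ a := by_contra fun l => by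
  obtain ⟨x, h1, h2⟩ := h.ex ha
  exact h2 (h.anti (by omega) (k h1))

omit hp in
theorem nrm (h : Dat p n S Γ E N ι) (R : R1 n Γ E ι) {m : ℕ} (hm : m < n) (h1 : Γ m ≤ E) (h2 : (Γ m).Normal)
    (h3 : ∀ x ∈ E, x ∈ Γ m ↔ x ^ p = 1) : False := by
  refine R m hm h1 h2 ⟨fun y hy g => ?_⟩
  obtain ⟨x, hx, rfl⟩ := h.ex (h1.trans h.le) hy
  obtain ⟨x', hx', e⟩ := h.ex h.le (h.loc.nrm.conj_mem _ (mem_img_of_mem ι (h1 hx)) g)
  refine e ▸ mem_img_of_mem ι ((h3 x' hx').2 ((h.eq_one (pow_mem (h.le hx') p)).1 ?_))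
  rw [h.hom.map_pow (h.le hx'), e, conj_pow, ← h.hom.map_pow (h.le (h1 hx)), (h3 x (h1 hx)).1 hx, h.hom.map_one,
    mul_one, mul_inv_cancel]

/-- a small subgroup containing the commutators with `t` -/
theorem exR [Finite X] (c : Cs p n S Γ) {i r : ℕ} (i1 : 1 ≤ i) (ir : i + 2 ≤ r) (rn : r + 2 ≤ n)
    (hc : ⁅Γ i, Γ 1⁆ ≤ Γ r) (hz : Γ r ≤ centralizer (Γ 1 : Set X)) {t : X} (t1 : t ∈ Γ (r - 1))
    (t2 : t ∉ Γ (r - 1 + 1)) :
    ∃ R ≤ Γ r, Nat.card R ≤ p ^ (min (r - i) (n - r) - 1) ∧ ∀ v ∈ Γ i, ⁅t, v⁆ ∈ R := by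
  have l1 : Γ i ≤ Γ 1 := c.anti i1
  have ti : t ∈ Γ i := c.anti (by omega) t1
  rcases le_total (n - r) (r - i) with l | l
  · refine ⟨Γ (r + 1), c.anti (by omega), ?_, fun v hv => ?_⟩
    · rw [c.card (by omega), min_eq_right l]
      exact le_of_eq (by congr 1)
    · exact c.anti (by omega) (c.sc (r - 1) 1 (by omega) le_rfl (commutator_mem_commutator t1 (l1 hv)))
  · have m : ∀ v ∈ Γ i, ⁅t, v⁆ ∈ Γ r := fun v hv => hc (commutator_mem_commutator ti (l1 hv))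
    let φ : Γ i →* X := MonoidHom.mk' (fun v => ⁅t, (v : X)⁆) fun a b => by
      rw [coe_mul, show ⁅t, (a : X) * b⁆ = ⁅t, (a : X)⁆ * (a * ⁅t, (b : X)⁆ * (a : X)⁻¹) by
        simp only [commutatorElement_def]; group, hz (m b b.2) a (l1 a.2), mul_inv_cancel_right]
    refine ⟨φ.range, fun _ ⟨v, e⟩ => e ▸ m v v.2, ?_, fun v hv => ⟨⟨v, hv⟩, rfl⟩⟩
    have k : Γ (r - 1) ≤ centralizer {t} := by
      rw [← c.sup t1 t2, show r - 1 + 1 = r by omega]
      exact sup_le (fun x hx => mem_centralizer_singleton_iff.2 (hz hx t (l1 ti)).symm)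
        (zpowers_le.2 (mem_centralizer_singleton_iff.2 rfl))
    rw [← index_ker, min_eq_left l, ← c.relIndex_add i (r - i - 1) (by omega), show i + (r - i - 1) = r - 1 by omega]
    exact Nat.le_of_dvd (Nat.pos_of_ne_zero index_ne_zero_of_finite) (index_dvd_of_le fun v hv =>
      commutatorElement_eq_one_iff_mul_comm.2 (mem_centralizer_singleton_iff.1 (k hv)).symm)

end AlGx

open AlGx in
theorem alG (h1 : SLm.{u}) (h2 : AlS.{u}) (h3 : Det.{u}) : AlG.{u} := by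
  intro X L _ _ _ _ p n hp S E N Γ ι h c p3 R nn
  have n3 := h.three_le
  have := h.nrm
  obtain ⟨s, hs⟩ := A.ex_un c (by omega)
  have eqle : ∀ K : Subgroup X, K.Normal → K ≤ Γ 1 → ∃ j, 1 ≤ j ∧ j ≤ n ∧ K = Γ j := fun K hK k =>
    c.eq_of_le hs (A.cmem (by rw [normalizer_eq_top]; trivial)) k (by omega)
  have cE : ∀ x ∈ Γ 1, x ∈ centralizer (Γ 1 : Set X) → x ∈ E := fun x hx k =>
    h.cen (c.le 1 hx) (centralizer_le h.e1 k)
  obtain ⟨r, r1, rn, hr⟩ := eqle (oz p (Γ 1)) inferInstance fun x hx => hx.1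
  have rE : Γ r ≤ E := fun x hx => cE x (hr.ge hx).1 (hr.ge hx).2.1
  have rN : Γ r ≤ N := rE.trans h.le
  have rz : Γ r ≤ centralizer (Γ 1 : Set X) := fun x hx => (hr.ge hx).2.1
  have nr : (Γ r).Normal := hr ▸ inferInstance
  have a1 : Γ (n - 2) ≤ centralizer (Γ 1 : Set X) := commutator_eq_bot_iff_le_centralizer.1
    (le_bot_iff.1 ((c.sc (n - 2) 1 (by omega) le_rfl).trans (c.bot _ (by omega)).le))
  have n5 : 5 ≤ n := by_contra fun k => h.not_le fun x hx =>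
    cE x (c.anti (by omega) hx) (a1 (c.anti (by omega) hx))
  have rn2 : r + 2 ≤ n := by
    have := le_of c.toCh (a := n - 2) (b := r) (by omega) fun x hx => hr.le ⟨c.anti (by omega) hx, a1 hx, by
      have := c.pm (n - 2) (by omega) x hx
      rwa [c.bot _ (by omega), mem_bot] at this⟩
    omega
  have r3 : 3 ≤ r := by_contra fun k => h.not_le ((c.anti (by omega)).trans rE)
  have nc : ⁅Γ 1, Γ 1⁆ ≠ ⊥ := fun k => h.not_le fun x hx =>
    cE x (c.anti (by omega) hx) (commutator_eq_bot_iff_le_centralizer.1 k (c.anti (by omega) hx))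
  obtain ⟨i, hi, st, ni, cv⟩ : ∃ i, (i = 1 ∧ n ≤ p + 1 ∨ i + p = n + 1 ∧ p + 2 ≤ n) ∧
      (∀ x ∈ Γ 1, x ^ p = 1 → x ∈ Γ i) ∧ (Γ i).Normal ∧ (i = 1 ∨ ∀ x ∈ Γ i, x ^ p = 1) := by
    by_cases k : n ≤ p + 1
    · exact ⟨1, .inl ⟨rfl, k⟩, fun x hx _ => hx, this, .inl rfl⟩
    have e : ∀ x ∈ Γ 1, x ∈ Γ (n + 1 - p) ↔ x ^ p = 1 := fun x hx => by
      rw [h1.per X p n (n + 1 - p) S Γ c p3 (by omega) (by omega) (by omega) x hx, c.bot (n + 1 - p + (p - 1)) (by omega),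
        mem_bot]
    have l : Γ (n + 1 - p) ≤ Γ 1 := c.anti (by omega)
    exact ⟨n + 1 - p, .inr (by omega), fun x hx => (e x hx).2, ⟨fun x hx g => (e _ (this.conj_mem x (l hx) g)).2 (by
      rw [conj_pow, (e x (l hx)).1 hx, mul_one, mul_inv_cancel])⟩, .inr fun x hx => (e x (l hx)).1 hx⟩
  have i1 : 1 ≤ i := by omega
  have l1 : Γ i ≤ Γ 1 := c.anti i1
  have iE : ¬ Γ i ≤ E := fun k => cv.elim (fun e => h.not_le ((c.anti (by omega)).trans k))
    fun e => nrm h R (by omega) k ni fun x hx => ⟨e x, st x (h.e1 hx)⟩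
  have ir : i + 2 ≤ r := by
    refine cv.elim (fun e => by omega) fun _ => by_contra fun k => ?_
    have a2 := le_of c.toCh (a := r) (b := i) (by omega) fun x hx => st x (hr.ge hx).1 (hr.ge hx).2.2
    have a3 : r ≠ i := fun e => iE (e ▸ rE)
    obtain rfl : r = i + 1 := by omega
    refine nrm h R (by omega) rE nr fun x hx => ⟨fun e => (hr.ge e).2.2, fun e => by_contra fun e' => iE ?_⟩
    rw [← c.sup (st x (h.e1 hx) e) e']
    exact sup_le rE (zpowers_le.2 hx)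
  obtain ⟨hc, hN, ψ, o, cd, o1, op, act⟩ := h2 X p n i r S Γ c p3 h.syl this nc nn hi ni nr ir rn2
  obtain ⟨t, t1, t2⟩ := c.ex (j := r - 1) (by omega)
  have ti : t ∈ Γ i := c.anti (by omega) t1
  obtain ⟨k, hk⟩ : ∃ k, k * t * k⁻¹ ∉ E := by
    by_contra! k
    have l : normalClosure {t} ⊔ Γ r ≤ Γ i :=
      sup_le (normalClosure_le_normal (Set.singleton_subset_iff.2 ti)) (c.anti (by omega))
    obtain ⟨j, -, -, e⟩ := eqle (normalClosure {t} ⊔ Γ r) inferInstance (l.trans l1)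
    have a2 : j < r := by_contra fun a2 => t2 (c.anti (by omega) (e.le (mem_sup_left (subset_normalClosure rfl))))
    have a3 := le_of c.toCh (a := j) (by omega) (e.ge.trans l)
    have a4 : (Γ j).Normal := e ▸ inferInstance
    obtain rfl : j = i := by_contra fun a5 => hN.no j (by omega) a2 (normalizer_eq_top _).ge
    refine iE (e.ge.trans (sup_le ((closure_le _).2 fun x hx => ?_) rE))
    obtain ⟨_, rfl, a5⟩ := Group.mem_conjugatesOfSet_iff.1 hx
    obtain ⟨g, rfl⟩ := isConj_iff.1 a5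
    exact k g
  have yi := ni.conj_mem t ti k
  have cr : ∀ v ∈ Γ 1, ⁅k * t * k⁻¹, v⁆ ∈ Γ r := fun v hv => hc (commutator_mem_commutator yi hv)
  have yN : k * t * k⁻¹ ∈ N := h.mem_N (c.le i yi) fun e he => rE (comm_symm_mem (cr e (h.e1 he)))
  obtain ⟨R0, b1, b2, b3⟩ := exR c i1 ir rn2 hc rz t1 t2
  have b4 : R0.map (MulAut.conj k).toMonoidHom ≤ N := fun _ ⟨x, hx, e⟩ => e ▸ rN (nr.conj_mem x (b1 hx) k)
  refine R r (by omega) rE nr (h3 L p (n - r) o _ (img ι E) (img ι N) _ (img ι (R0.map (MulAut.conj k).toMonoidHom))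
    (ι ∘ ψ) (ι (k * t * k⁻¹)) h.loc (fun y hy => ?_) ⟨fun a b => ?_, fun a b e => ?_, fun a => ?_, fun y hy => ?_⟩
    (fun g hg => ?_) (mem_img_of_mem ι yN) (fun e => hk ((h.mem_iff h.le yN).1 e)) ?_ (fun v hv => ?_) ?_ o1 op)
  · obtain ⟨x, hx, rfl⟩ := h.ex rN hy
    exact ⟨mem_img_of_mem ι (rE hx), h.hom.map_mem_centralizer h.le (rN hx) (centralizer_le h.e1 (rz hx)), by
      rw [← h.hom.map_pow (rN hx), (hr.ge hx).2.2, h.hom.map_one]⟩
  · exact (congrArg ι (cd.ad a b)).trans (h.hom.map_mul (rN (cd.mem a)) (rN (cd.mem b)))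
  · exact cd.inj (h.inj (rN (cd.mem a)) (rN (cd.mem b)) e)
  · exact mem_img_of_mem ι (cd.mem a)
  · obtain ⟨x, hx, rfl⟩ := h.ex rN hy
    exact (cd.sur x hx).imp fun _ e => congrArg ι e
  · obtain ⟨k', e⟩ := h.ext g hg
    exact (act k').imp fun M a => ⟨a.1, fun v => (congrArg ι (a.2 v)).trans (e _ (rN (cd.mem v))).2⟩
  · rw [← h.hom.map_pow yN, conj_pow]
    exact mem_img_of_mem ι (rE (nr.conj_mem _ (c.anti (by omega) (c.pow_mem t1)) k))
  · obtain ⟨x, hx, rfl⟩ := h.ex h.le hv.1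
    have xN := h.le hx
    have xi := st x (h.e1 hx) ((h.eq_one (pow_mem xN p)).1 ((h.hom.map_pow xN p).trans hv.2.2))
    rw [← h.hom.map_commutator yN xN]
    refine ⟨mem_img_of_mem ι ⟨_, b3 _ (ni.conj_mem' x xi k), ?_⟩,
      (h.commute yN (rN (cr x (h.e1 hx)))).2 (rz (cr x (h.e1 hx)) _ (l1 yi))⟩
    simp only [MulEquiv.coe_toMonoidHom, MulAut.conj_apply, commutatorElement_def]
    group
  · rwa [h.card b4, card_map_of_injective (MulAut.conj k).injective]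

end CL.MX
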