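/-
Project MX2: the structure of `X` when some member of the chain is not normal.
-/
import Cfsg.Agent.MX.Defs2

set_option autoImplicit false

namespace CL.MX

open Subgroup Cfsg
open scoped commutatorElement

universe u

namespace AlSx

section Comb
variable {nm : ℕ → Prop} {x y z : ℕ}

/-- consecutive members of a set of numbers -/
def NN (nm : ℕ → Prop) (x y : ℕ) : Prop := x < y ∧ nm x ∧ nm y ∧ ∀ z, x < z → z < y → ¬ nm z

theorem up (hx : nm x) (h : x < y) (hy : nm y) : ∃ y' ≤ y, NN nm x y' := by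
  classical
  have e : ∃ y, x < y ∧ nm y := ⟨y, h, hy⟩
  exact ⟨_, Nat.find_min' e ⟨h, hy⟩, (Nat.find_spec e).1, hx, (Nat.find_spec e).2,
    fun z a b c => Nat.find_min e b ⟨a, c⟩⟩

theorem great (hx : nm x) (h : x < y) : ∃ x', x ≤ x' ∧ x' < y ∧ nm x' ∧ ∀ z, x' < z → z < y → ¬ nm z := by
  classical
  have a := Nat.findGreatest_le (P := nm) (y - 1)
  exact ⟨_, Nat.le_findGreatest (by omega : x ≤ y - 1) hx, by omega, Nat.findGreatest_spec (by omega : x ≤ y - 1) hx,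
    fun z a b => Nat.findGreatest_is_greatest a (by omega)⟩

theorem wide (hx : nm x) (hy : nm y) (h1 : x < z) (h2 : z < y) (hz : ¬ nm z) :
    ∃ u v, x ≤ u ∧ v ≤ y ∧ NN nm u v ∧ u + 2 ≤ v := by
  obtain ⟨u, u1, u2, u3, u4⟩ := great hx h1
  obtain ⟨v, v1, v2⟩ := up u3 (u2.trans h2) hy
  have a : ¬ v < z := fun e => u4 v v2.1 e v2.2.2.1
  have b : v ≠ z := fun e => hz (e ▸ v2.2.2.1)
  exact ⟨u, v, u1, v1, v2, by omega⟩

theorem pair (hx : nm x) (hy : nm y) (h : x < y) (k : ¬ NN nm x y) :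
    ∃ x' z y', x ≤ x' ∧ y' ≤ y ∧ NN nm x' z ∧ NN nm z y' := by
  obtain ⟨z, z1, z2, z3⟩ : ∃ z, x < z ∧ z < y ∧ nm z := by
    by_contra! e
    exact k ⟨h, hx, hy, e⟩
  obtain ⟨u, u1, u2, u3, u4⟩ := great hx z1
  obtain ⟨v, v1, v2⟩ := up z3 z2 hy
  exact ⟨u, z, v, u1, v1, ⟨u2, u3, z3, u4⟩, v2⟩

theorem comb {i n p a b c d : ℕ} (rule : ∀ x y z u v, NN nm x y → NN nm y z → NN nm u v → i ≤ x → i ≤ u → z ≤ n → v ≤ n →
    u + 2 ≤ v → (z - x) + (v - u) ≤ p → False) (ha : nm a) (hb : nm b) (hc : nm c) (hd : nm d) (ab : a + 2 ≤ b)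
    (cd : c + 2 ≤ d) (ia : i ≤ a) (ic : i ≤ c) (bn : b ≤ n) (dn : d ≤ n) (hp : (b - a) + (d - c) ≤ p) (hz : ¬ nm z)
    (h : a < z ∧ z < b ∨ c < z ∧ z < d) : NN nm c d := by
  by_contra k
  by_cases e : ∃ z, a < z ∧ z < b ∧ ¬ nm z
  · obtain ⟨z, z1, z2, z3⟩ := e
    obtain ⟨u, v, a1, a2, a3, a4⟩ := wide ha hb z1 z2 z3
    obtain ⟨x, y, w, b1, b2, b3, b4⟩ := pair hc hd (by omega) k
    exact rule x y w u v b3 b4 a3 (by omega) (by omega) (by omega) (by omega) a4 (by omega)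
  · obtain ⟨z1, z2⟩ := h.resolve_left fun h => e ⟨z, h.1, h.2, hz⟩
    obtain ⟨u, v, a1, a2, a3, a4⟩ := wide hc hd z1 z2 hz
    obtain ⟨x, y, w, b1, b2, b3, b4⟩ := pair ha hb (by omega) fun k =>
      e ⟨a + 1, by omega, by omega, k.2.2.2 _ (by omega) (by omega)⟩
    exact rule x y w u v b3 b4 a3 (by omega) (by omega) (by omega) (by omega) a4 (by omega)

end Comb

theorem det_tri {p w : ℕ} {A : Mt p w} (hA : Rs 0 A) : A.det = ∏ a ∈ Finset.range w, en A a a := by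
  have := dt_tri (x := 0) (w := w) hA
  rw [dt, show bk 0 w A = A from ext_en fun a ha b hb => by rw [en_bk _ ha hb, zero_add, zero_add]] at this
  simpa only [zero_add] using this

theorem det_J (p w : ℕ) : (1 + Jm p w).det = 1 := by
  rw [det_tri (rs_one.add (rs_Jm.mono zero_le_one))]
  exact Finset.prod_eq_one fun a ha => by
    rw [en_add, en_one, en_Jm, if_pos ⟨rfl, Finset.mem_range.1 ha⟩, if_neg (by omega), add_zero]

end AlSx

open AlSx in
theorem alS (h1 : SLm.{u}) (h2 : WT.{u}) (h3 : SecThm.{u}) (h4 : C4.{u}) : AlS.{u} := by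
  intro G _ _ p n i r hp S Γ h p3 hS n1 hc ⟨j, j1, hj⟩ hi ni nr ir rn
  have : Finite S := inferInstance
  have i1 : 1 ≤ i := by omega
  have np : n ≤ i + p := by omega
  have t1 : ∀ k, k ∈ normalizer (Γ 1 : Set G) := fun k => by rw [normalizer_eq_top]; trivial
  obtain ⟨l, hl⟩ := h2.cs G p n S Γ h hc
  have cjS := fun k hk => h2.conj G p n S Γ k h.toCh hk (t1 k)
  have : ∀ k : G, ∃ a : ZMod p, k ∈ normalizer (S : Set G) → a ≠ 0 ∧
      ∀ u, 1 ≤ u → u < n → Wt Γ u (cj k) (a ^ (u + l)) := fun k => by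
    by_cases hk : k ∈ normalizer (S : Set G)
    · exact (hl _ (cjS k hk).1).imp fun _ e _ => e
    · exact ⟨0, fun e => absurd e hk⟩
  choose a ha using this
  obtain ⟨s, s0, s1⟩ := h.ex (j := 0) (by omega)
  rw [h.zero] at s0
  have sec := fun (H : Subgroup G) (x w : ℕ) (k1 : S ≤ H) (k2 : 1 ≤ x) (k3 : w < p) (k4 : x + w ≤ n)
    (k5 : Nn H Γ x (x + w)) => h3 G p n x w l S H Γ s a h.toCh hS k1 (fun k _ => t1 k) s0 s1 k2 k3 k4 (.inr h) k5
      fun k _ hk => ⟨(ha k hk).1, fun u u1 u2 => (ha k hk).2 u (by omega) (by omega)⟩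
  have nmi : ∀ z, ⊤ ≤ normalizer (Γ z : Set G) ↔ (Γ z).Normal := fun z => by rw [top_le_iff, normalizer_eq_top_iff]
  have nb : ∀ z, n ≤ z → (Γ z).Normal := fun z hz => h.bot z hz ▸ inferInstance
  have toN : ∀ {x y}, NN (fun z => (Γ z).Normal) x y → Nn ⊤ Γ x (x + (y - x)) := fun {x y} k => by
    rw [Nat.add_sub_cancel' k.1.le]
    exact ⟨k.1, (nmi _).2 k.2.1, (nmi _).2 k.2.2.1, fun z a b c => k.2.2.2 z a b ((nmi _).1 c)⟩
  have rule : ∀ x y z u v, NN (fun z => (Γ z).Normal) x y → NN (fun z => (Γ z).Normal) y z →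
      NN (fun z => (Γ z).Normal) u v → i ≤ x → i ≤ u → z ≤ n → v ≤ n → u + 2 ≤ v → (z - x) + (v - u) ≤ p → False := by
    intro x y z u v a1 a2 a3 b1 b2 b3 b4 b5 b6
    have c1 := a1.1
    have c2 := a2.1
    obtain ⟨β₁, d1, -⟩ := sec ⊤ x (y - x) le_top (by omega) (by omega) (by omega) (toN a1)
    obtain ⟨β₂, d2, -⟩ := sec ⊤ y (z - y) le_top (by omega) (by omega) (by omega) (toN a2)
    obtain ⟨β₃, d3, -⟩ := sec ⊤ u (v - u) le_top (by omega) (by omega) (by omega) (toN a3)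
    rw [show y + l = x + l + (y - x) by omega] at d2
    exact h4 G p _ _ _ _ _ β₁ β₂ β₃ _ _ _ _ _ d1 d2 d3 (by omega) (by omega) (by omega) (by omega)
  obtain ⟨z, z1, z2, z3⟩ : ∃ z, i < z ∧ z < n ∧ ¬ (Γ z).Normal := by
    by_contra! k
    have k1 : ∀ z, i ≤ z → (Γ z).Normal := fun z hz => by
      rcases hz.eq_or_lt with rfl | hz
      exacts [ni, (lt_or_ge z n).elim (k z hz) (nb z)]
    have k2 : ∀ m z, 1 ≤ z → i ≤ z + m → (Γ z).Normal := fun m => by
      induction m with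
      | zero => exact fun z _ hz => k1 z hz
      | succ m ih =>
        intro z z1 z2
        by_cases e : i ≤ z
        · exact k1 z e
        rcases z1.eq_or_lt with rfl | z1
        · exact n1
        have per := h1.per G p n z S Γ h p3 (by omega) z1 (by omega)
        exact ⟨fun x hx g => (per _ (n1.conj_mem _ (h.anti z1.le hx) g)).2 (by
          rw [conj_pow]; exact (ih _ (by omega) (by omega)).conj_mem _ ((per x (h.anti z1.le hx)).1 hx) g)⟩
    exact hj (k2 i j j1 (by omega))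
  have zr : z ≠ r := fun e => z3 (e ▸ nr)
  have N1 := toN (comb rule nr (nb n le_rfl) ni nr rn ir (by omega) le_rfl le_rfl (by omega) (by omega) z3 (by omega))
  have N2 := toN (comb rule ni nr nr (nb n le_rfl) ir rn le_rfl (by omega) (by omega) le_rfl (by omega) z3 (by omega))
  obtain ⟨-, -, e1, -⟩ := sec ⊤ i (r - i) le_top i1 (by omega) (by omega) N1
  obtain ⟨β, C, -, e2⟩ := sec ⊤ r (n - r) le_top (by omega) (by omega) (by omega) N2
  obtain ⟨ψ, ψ1, ψ2⟩ := e2 (by omega)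
  have ri : i + (r - i) = r := by omega
  refine ⟨ri ▸ e1, ri ▸ N1, ψ, ?_⟩
  let χ : G →* ZMod p := ⟨⟨fun k => (β k).det, by simp only [C.one, Matrix.det_one]⟩, fun x y => by
    simp only [C.mul x trivial y trivial, Matrix.det_mul]⟩
  have SH : S ≤ χ.ker := fun y hy => by
    obtain ⟨m, e⟩ := MX.C.onS C hy
    change (β y).det = 1
    rw [e, Matrix.det_pow, det_J, one_pow]
  obtain ⟨σ, hσ⟩ : ∃ σ, ∀ k ∈ normalizer (S : Set G), χ k = a k ^ σ := ⟨_, fun k hk => by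
    obtain ⟨t1, -, t2⟩ := C.tri k trivial hk
    exact (det_tri t1).trans ((Finset.prod_congr rfl fun u hu => t2 u (Finset.mem_range.1 hu)).trans
      (Finset.prod_pow_eq_pow_sum _ _ _))⟩
  have fr : ∀ k, ∃ m ∈ χ.ker, ∃ b ∈ normalizer (S : Set G), k = m * b := fun k =>
    I2A.frattini h.pg hS SH fun g hg => (MonoidHom.normal_ker χ).conj_mem g hg k
  have toH : ∀ {x y}, Nn ⊤ Γ x y → Nn χ.ker Γ x y := fun k => ⟨k.lt, le_top.trans k.nx, le_top.trans k.ny,
    fun z a b c => k.no z a b fun g _ => by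
      obtain ⟨m, m1, b, b1, rfl⟩ := fr g
      exact mul_mem (c m1) ((cjS b b1).2 z)⟩
  have g0 : 0 < σ.gcd (p - 1) := Nat.gcd_pos_of_pos_right _ (by omega)
  have key : ∀ x w, 1 ≤ x → x + w ≤ n → 2 * w ≤ p → Nn ⊤ Γ x (x + w) → w ≤ σ.gcd (p - 1) := fun x w a1 a2 a3 a4 => by
    by_contra! k
    obtain ⟨β', C', -⟩ := sec _ x w SH a1 (by omega) a2 (toH a4)
    exact c2' G p w _ β' _ _ _ s a C' _ g0 k (by omega) fun b b1 b2 =>
      pow_gcd_eq_one.2 ⟨(hσ b b2).symm.trans b1, ZMod.pow_card_sub_one_eq_one (ha b b2).1⟩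
  have w0 : min (r - i) (n - r) ≤ σ.gcd (p - 1) := by
    rcases le_total (r - i) (n - r) with e | e
    · rw [min_eq_left e]; exact key i _ i1 (by omega) (by omega) N1
    · rw [min_eq_right e]; exact key r _ (by omega) (by omega) (by omega) N2
  obtain ⟨o, ho⟩ := Nat.gcd_dvd_right σ (p - 1)
  obtain ⟨t, ht⟩ := Nat.gcd_dvd_left σ (p - 1)
  generalize σ.gcd (p - 1) = g at *
  have o1 : 1 ≤ o := Nat.pos_of_ne_zero fun e => by rw [e] at ho; omega
  refine ⟨o, ψ1, o1, ?_, fun k => ⟨β k, ?_, ψ2 k trivial⟩⟩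
  · have := Nat.mul_le_mul_left o (Nat.sub_le_sub_right w0 1)
    rw [Nat.mul_sub_one o g, mul_comm o g, ← ho] at this
    have := Nat.le_mul_of_pos_left o g0
    omega
  · obtain ⟨m, m1, b, b1, rfl⟩ := fr k
    change χ (m * b) ^ o = 1
    rw [map_mul, MonoidHom.mem_ker.1 m1, one_mul, hσ b b1, ← pow_mul, ht, mul_right_comm, ← ho, pow_mul,
      ZMod.pow_card_sub_one_eq_one (ha b b1).1, one_pow]

end CL.MX
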