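/-
Project MX2: two sections with consecutive weights.
-/
import Cfsg.Agent.MX.Defs2

set_option autoImplicit false
set_option linter.unusedSectionVars false

namespace CL.MX

open Subgroup Cfsg

universe u

namespace C4x
open C

variable {G : Type u} [Group G] [Finite G] {p w ε : ℕ} [hp : Fact p.Prime] {β : G → Mt p w} {P S L : Subgroup G}
  {s : G} {a : G → ZMod p} (h : Cyc p w ε β P S L s a)
include h

theorem core (hS : SmCyc.{u}) {j e : ℕ} (h1 : 1 ≤ j) (h2 : j < w) (h3 : e + j + w < p) {ι : Type u}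
    (act : ∀ k ∈ L, ι → ι) (i₀ : ι) (l : ι → G → ZMod p)
    (l1 : ∀ C, RI S L (l C)) (l2 : ∀ C, ∀ k (hk : k ∈ L), ∀ g ∈ L, l (act k hk C) (k * g) = l C g)
    (l3 : ∀ C, ∀ g ∈ L, (fun m => l C (s ^ m * g)) ∈ (gr1 p).S e)
    (l4 : ∀ g ∈ L, g ∈ normalizer (S : Set G) → l i₀ g * a g ^ j = 1) : False := by
  let Ad : G → Mt p w := fun g => β g * Jm p w ^ j * β g⁻¹
  have a1 : ∀ k ∈ L, ∀ g ∈ L, Ad (k * g) = β k * Ad g * β k⁻¹ := fun k hk g hg => by
    simp only [Ad, mul_inv_rev, h.mul _ hk _ hg, h.mul _ (inv_mem hg) _ (inv_mem hk), mul_assoc]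
  have a2 : RI S L Ad := fun g hg y hy => by
    obtain ⟨m, e⟩ := onS h hy
    have c : Commute (β y) (Jm p w ^ j) := e ▸ ((Commute.one_left _).add_left (Commute.refl _)).pow_pow m j
    have i := inv h (inv_mem (h.SL hy))
    rw [inv_inv] at i
    simp only [Ad, mul_inv_rev, h.mul _ hg _ (h.SL hy), h.mul _ (inv_mem (h.SL hy)) _ (inv_mem hg)]
    rw [mul_assoc (β g), c.eq, mul_assoc, mul_assoc, ← mul_assoc (β y), i, one_mul, mul_assoc]
  have rj : Rs j (Jm p w ^ j) := by simpa using rs_Jm.pow j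
  have a3 : ∀ g ∈ L, g ∈ normalizer (S : Set G) → Rs j (Ad g) ∧ en (Ad g) j 0 = a g ^ j := fun g hg hn => by
    obtain ⟨t1, -, t2⟩ := h.tri g hg hn
    have t3 := (h.tri _ (inv_mem hg) (inv_mem hn)).1
    have t4 := (t1.mul rj).en_mul t3 0
    have t5 := t1.en_mul rj 0
    simp only [zero_add, add_zero] at t4 t5
    refine ⟨by simpa using (t1.mul rj).mul t3, ?_⟩
    rw [t4, t5, t2 j h2, en_Jm_pow, if_pos ⟨(zero_add j).symm, h2⟩, mul_one, pow_add, mul_comm, ← mul_assoc,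
      e00 h hg hn (by omega), one_mul]
  let Φ : ι → Mt p w := fun C => sm S L fun g => l C g • Ad g
  have r1 : ∀ C, RI S L fun g => l C g • Ad g := fun C g hg y hy => by simp only [l1 C g hg y hy, a2 g hg y hy]
  have f1 : ∀ k (hk : k ∈ L), ∀ C, β k * Φ C = Φ (act k hk C) * β k := fun k hk C => by
    refine (sm_map (AddMonoidHom.mulLeft (β k))).trans (.trans (sm_congr fun g hg => ?_)
      ((sm_map (AddMonoidHom.mulRight (β k))).symm.trans (congrArg (· * β k) (sm_left h.SL (r1 (act k hk C)) hk))))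
    simp [l2 C k hk g hg, a1 k hk g hg, mul_assoc, inv h hk]
  have f2 : ∀ C u v c, u + (w - 1 - v) ≤ j + (w - 1) →
      (∀ g ∈ L, g ∈ normalizer (S : Set G) → l C g * en (Ad g) u v = c) →
      en (Φ C) u v = (S.relIndex (L ⊓ normalizer (S : Set G)) : ZMod p) * c := fun C u v c k hc =>
    (sm_map (enH p w u v).toAddMonoidHom).trans (collapse h hS (fun g hg y hy => congrArg (en · u v) (r1 C g hg y hy))
      (r := e + (j + (w - 1))) (by omega) (fun g hg => by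
        refine Gr.le (a := e + (u + (w - 1 - v))) ?_ (by omega)
        convert (gr1 p).mul (l3 C g hg) ((dg1 h).conj (dg2 h) (Ad g) u v) using 2 with m
        rw [← a1 _ (pow_mem (h.SL h.sS) m) g hg]
        exact en_smul _ _ _ _) fun g hg hn => (en_smul _ _ _ _).trans (hc g hg hn))
  let W := ⨆ C, LinearMap.range (Φ C).mulVecLin
  have w1 : ∀ k ∈ L, ∀ c ∈ W, (β k).mulVec c ∈ W := fun k hk =>
    (iSup_le fun C => by
      rintro _ ⟨c, rfl⟩
      refine Submodule.mem_iSup_of_mem (act k hk C) ⟨(β k).mulVec c, ?_⟩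
      simp [Matrix.mulVec_mulVec, f1 k hk] : W ≤ W.comap (β k).mulVecLin)
  obtain ⟨x, -, hx⟩ := eq_Fl W fun c hc => by
    simpa [h.βs, Matrix.add_mulVec] using sub_mem (w1 s (h.SL h.sS) c hc) hc
  have w2 : W ≤ Fl p w 1 := iSup_le fun C => by
    rintro _ ⟨c, rfl⟩ u hu
    rw [Matrix.mulVecLin_apply, Matrix.mulVec, dotProduct]
    refine Finset.sum_eq_zero fun v _ => ?_
    rw [← en_val (Φ C), f2 C u v 0 (by omega) fun g hg hn => by rw [(a3 g hg hn).1 u v (by omega), mul_zero],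
      mul_zero, zero_mul]
  obtain ⟨g, hg, k⟩ := h.irr x (Nat.pos_of_ne_zero fun e => by
    simpa using w2 (hx.ge (show (fun _ => 1) ∈ Fl p w x from fun u hu => absurd hu (by omega))) ⟨0, by omega⟩ one_pos)
    (lt_of_not_ge fun e => n0 h (by
      have := hx.le (Submodule.mem_iSup_of_mem i₀ ⟨Pi.single ⟨0, by omega⟩ 1, rfl⟩) ⟨j, h2⟩ (h2.trans_le e)
      rw [← mul_one (Nat.cast _ : ZMod p), ← f2 i₀ j 0 1 le_rfl fun g hg hn => by rw [(a3 g hg hn).2, l4 g hg hn],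
        en_of_lt _ h2 (by omega)]
      simpa using this))
  exact k (st_iff.2 (hx ▸ w1 g hg))

omit h in
theorem col (A : Mt p w) (u : ℕ) : ∀ m, en (A * (1 + Jm p w) ^ m) u (w - 1) = en A u (w - 1)
  | 0 => by rw [pow_zero, mul_one]
  | m + 1 => by
    rw [pow_succ, ← mul_assoc, mul_add, mul_one, en_add, col A u m, en_mul, Finset.sum_eq_zero, add_zero]
    intro x _
    rw [en_Jm, if_neg (by omega), mul_zero]

theorem riCol {k : G} (hk : k ∈ L) (u : ℕ) : RI S L fun g => en (β (k * g)) u (w - 1) := fun g hg y hy => by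
  obtain ⟨m, e⟩ := onS h hy
  simp only
  rw [← mul_assoc, h.mul _ (mul_mem hk hg) _ (h.SL hy), e, col]

theorem dgCol {k g : G} (hk : k ∈ L) (hg : g ∈ L) (u v : ℕ) :
    (fun m => en (β (k * (s ^ m * g))) u v) ∈ (gr1 p).S (w - 1) := by
  have hs := fun m => pow_mem (h.SL h.sS) m
  simp only [fun m => h.mul _ hk _ (mul_mem (hs m) hg), fun m => h.mul _ (hs m) _ hg, en_mul (β k)]
  exact Gr.sum _ fun x hx => Gr.cmul _ (Gr.le ((dg1 h).left _ x v) (by have := Finset.mem_range.1 hx; omega))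

theorem inv_mul {k g : G} (hk : k ∈ L) (hg : g ∈ L) : β (k * g)⁻¹ = β g⁻¹ * β k⁻¹ := by
  rw [mul_inv_rev, h.mul _ (inv_mem hg) _ (inv_mem hk)]

end C4x

open C C4x

theorem c4 : C4.{u} := fun G _ _ p w₁ w₂ w₃ ε₁ ε₃ _ β₁ β₂ β₃ P S L s a h₁ h₂ h₃ k₁ k₂ k₃ hp =>
  C4x.core h₃ smCyc (j := 1) (e := (w₁ - 1) + (w₂ - 1)) le_rfl k₃ (by omega) (ι := L) (fun k hk c => ⟨k, hk⟩ * c) 1
    (fun c g => en (β₁ ((c : G)⁻¹ * g)) (w₁ - 1) (w₁ - 1) * en (β₂ ((c : G)⁻¹ * g)⁻¹) 0 0)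
    (fun c g hg y hy => by
      have e1 := riCol h₁ (inv_mem c.2) (w₁ - 1) g hg y hy
      have e2 := riRow h₂ (β₂ (c : G)⁻¹⁻¹) 0 g hg y hy
      simp only at e1 e2 ⊢
      rw [e1, C4x.inv_mul h₂ (inv_mem c.2) (mul_mem hg (h₂.SL hy)), e2, C4x.inv_mul h₂ (inv_mem c.2) hg])
    (fun c k hk g hg => by
      rw [show (((⟨k, hk⟩ * c : L) : G))⁻¹ * (k * g) = (c : G)⁻¹ * g by rw [Subgroup.coe_mul]; group])
    (fun c g hg => by
      have hs := fun m => pow_mem (h₂.SL h₂.sS) m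
      simp only [fun m => C4x.inv_mul h₂ (inv_mem c.2) (mul_mem (hs m) hg)]
      exact (gr1 p).mul (dgCol h₁ (inv_mem c.2) hg _ _) (dgRow h₂ hg _ 0))
    fun g hg hn => by
      simp only [OneMemClass.coe_one, inv_one, one_mul]
      rw [(h₁.tri g hg hn).2.2 _ (by omega), mul_right_comm, ← pow_add, mul_comm,
        show ε₁ + (w₁ - 1) + 1 = ε₁ + w₁ by omega, e00 h₂ hg hn k₂]

end CL.MX
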