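/-
Project MX, second part: essential subgroups not contained in `Γ 1` that have a characteristic chain.
-/
import Cfsg.Agent.MX.Defs2
import Cfsg.Agent.Fus.SmallEss

set_option autoImplicit false

namespace CL.MX

open Subgroup Cfsg Cfsg.FusionSystem CL.Fus
open scoped commutatorElement

universe u

namespace Chnx

variable {Ω : Type u} [Group Ω]

/-- the elements normalising `K` whose commutator with `v` lies in `K` -/
def Tv (v : Ω) (K : Subgroup Ω) : Subgroup Ω where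
  carrier := {g | g ∈ normalizer (K : Set Ω) ∧ ⁅v, g⁆ ∈ K}
  one_mem' := ⟨one_mem _, by simp⟩
  mul_mem' := fun {a b} ha hb => ⟨mul_mem ha.1 hb.1, by
    rw [show ⁅v, a * b⁆ = ⁅v, a⁆ * (a * ⁅v, b⁆ * a⁻¹) by simp only [commutatorElement_def]; group]
    exact mul_mem ha.2 ((mem_normalizer_iff.1 ha.1 _).1 hb.2)⟩
  inv_mem' := fun {a} ha => ⟨inv_mem ha.1, by
    rw [show ⁅v, a⁻¹⁆ = a⁻¹ * ⁅v, a⁆⁻¹ * a⁻¹⁻¹ by simp only [commutatorElement_def]; group]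
    exact (mem_normalizer_iff.1 (inv_mem ha.1) _).1 (inv_mem ha.2)⟩

theorem comm_of_norm {K : Subgroup Ω} {y a : Ω} (hy : y ∈ normalizer (K : Set Ω)) (ha : a ∈ K) : ⁅y, a⁆ ∈ K :=
  mul_mem ((mem_normalizer_iff.1 hy a).1 ha) (inv_mem ha)

/-- the standing hypotheses, with `j = i + 1` -/
structure Cx (p n i : ℕ) {S : Subgroup Ω} (E : Subgroup Ω) (F : FusionSystem S) (Γ : ℕ → Subgroup Ω) (m : Ω) :
    Prop where
  ch : Ch p n S Γ
  ess : F.IsEssential p E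
  mE : m ∈ E
  m1 : m ∉ Γ 1
  inf : E ⊓ Γ 1 = Γ (i + 1)
  i1 : 1 ≤ i
  n4 : i + 4 ≤ n

namespace Cx

variable {p n i : ℕ} {S E : Subgroup Ω} {F : FusionSystem S} {Γ : ℕ → Subgroup Ω} {m : Ω} (h : Cx p n i E F Γ m)
include h

theorem ES : E ≤ S := h.ess.1.1

theorem le {u : ℕ} (hu : i + 1 ≤ u) : Γ u ≤ E := (h.ch.anti hu).trans (h.inf.ge.trans inf_le_left)

theorem mem {x : Ω} (hx : x ∈ E) (h1 : x ∈ Γ 1) : x ∈ Γ (i + 1) := h.inf.le ⟨hx, h1⟩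

theorem cen {u : ℕ} (hu : 2 ≤ u) : Γ u ≤ centralizer (Γ (n - 2) : Set Ω) :=
  commutator_eq_bot_iff_le_centralizer.1 (le_bot_iff.1 ((h.ch.cc0 u (n - 2)).trans (h.ch.bot _ (by omega)).le))

theorem cle (u : ℕ) : ⁅Γ u, E⁆ ≤ Γ (u + 1) := commutator_le.2 fun _ hx _ he => h.ch.comm hx (h.ES he)

variable [hp : Fact p.Prime]

theorem dec {e : Ω} (he : e ∈ E) : ∃ c : ZMod p, (m ^ c.val)⁻¹ * e ∈ Γ (i + 1) := by
  obtain ⟨c, hc⟩ := h.ch.dec (j := 0) (h.ch.zero ▸ h.ES h.mE) h.m1 (h.ch.zero ▸ h.ES he)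
  exact ⟨c, h.mem (mul_mem (inv_mem (pow_mem h.mE _)) he) hc⟩

theorem le_of {T : Subgroup Ω} (h1 : m ∈ T) (h2 : Γ (i + 1) ≤ T) : E ≤ T := fun e he => by
  obtain ⟨c, hc⟩ := h.dec he
  exact (mul_mem_cancel_left (inv_mem (pow_mem h1 _))).1 (h2 hc)

theorem EE : ⁅E, E⁆ ≤ Γ (i + 2) := by
  have k : ∀ v ∈ E, ⁅v, m⁆ ∈ Γ (i + 2) → ∀ e ∈ E, ⁅v, e⁆ ∈ Γ (i + 2) := fun v hv k e he =>
    (h.le_of (T := Tv v (Γ (i + 2))) ⟨h.ch.norm _ (h.ES h.mE), k⟩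
      (fun x hx => ⟨h.ch.norm _ (h.ch.le _ hx), comm_symm_mem (h.ch.comm hx (h.ES hv))⟩) he).2
  exact commutator_le.2 fun a ha => k a ha (comm_symm_mem (k m h.mE (by simp) a ha))

theorem exa {u : ℕ} {v : Ω} (hu : 1 ≤ u) (hn : u + 3 ≤ n) (hv : v ∈ E) (h1 : v ∉ Γ 1) :
    ∃ x ∈ Γ u, ⁅x, v⁆ ∉ Γ (u + 2) :=
  let ⟨x, a, b⟩ := h.ch.ex (j := u) (by omega)
  ⟨x, a, h.ch.un u hu hn x a b v (h.ES hv) h1⟩

variable [Finite S]

omit hp in
theorem ynorm {y : Ω} (hS : y ∈ S) (hy : ∀ e ∈ S, ⁅y, e⁆ ∈ Γ (i + 1)) : y ∈ normalizer (E : Set Ω) :=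
  have := finite_of_le h.ES
  mem_normalizer_of_finite fun e he => by
    simpa [commutatorElement_def] using mul_mem (h.le le_rfl (hy e (h.ES he))) he

theorem core {K : Subgroup Ω} (h1 : AInv F E (Γ (i + 2))) (hK : AInv F E K) (k1 : Γ (i + 2 + (i + 1)) ≤ K)
    (k2 : K ≤ Γ (i + 4)) (a : ∀ v ∈ E, v ∉ Γ 1 → ∃ x ∈ Γ (i + 2), ⁅x, v⁆ ∉ Γ (i + 4))
    (b : ∀ x ∈ Γ (i + 2), ∀ y ∈ Γ i, ⁅x, y⁆ ∈ frat E) : False := by
  have h0 : AInv F E (Γ (i + 1)) := ⟨h.le le_rfl, fun γ hγ v hv => by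
    have vE := h.le le_rfl hv
    refine h.mem (autFun_mem γ vE) (by_contra fun c => ?_)
    obtain ⟨x, hx, k⟩ := a _ (autFun_mem γ vE) c
    have hx' := h1.2 γ⁻¹ (inv_mem hγ) x hx
    have := hK.2 γ hγ _ (k1 (h.ch.cc0 _ _ (commutator_mem_commutator hx' hv)))
    rw [(homOn_autFun γ).map_commutator (h1.1 hx') vE, autFun_apply_inv γ (h1.1 hx)] at this
    exact k (k2 this)⟩
  obtain ⟨y, hy, hy'⟩ := h.ch.ex (j := i) (by have := h.n4; omega)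
  have yS := h.ch.le _ hy
  have yN := h.ynorm yS fun e he => h.ch.comm hy he
  have e : ∀ x : Ω, x⁻¹ * (y * x * y⁻¹) = ⁅x⁻¹, y⁆ := fun x => by simp only [commutatorElement_def]; group
  have hΦ : AInv F E (frat E) := aInv_self.frat h.ch.pg h.ES
  refine hy' (h.mem (mem_of_chain_frat h.ch.pg h.ess.1 (IsEssential.isRadical h.ch.pg h.ess) le_rfl
    (fun γ _ x hx => autFun_mem γ hx) 2 (fun l => if l = 0 then frat E else if l = 1 then Γ (i + 2) else Γ (i + 1))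
    (fun l hl γ hγ x _ hx => ?_) (fun x _ hx => hx) yS yN
    (fun x hx => mul_mem (inv_mem hx) ((mem_normalizer_iff.1 yN x).1 hx))
    (fun x hx => e x ▸ comm_symm_mem (h.ch.comm hy (inv_mem (h.ES hx)))) fun l hl x _ hx => ?_) (h.ch.anti h.i1 hy))
  · interval_cases l
    exacts [hΦ.2 γ hγ x hx, h1.2 γ hγ x hx, h0.2 γ hγ x hx]
  · rw [e]
    interval_cases l
    exacts [b _ (inv_mem hx) y hy, h.ch.comm (j := i + 1) (inv_mem hx) yS]

omit [Finite S] in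
theorem step {s : Ω} (hs : Un n S Γ s) (sN : s ∈ normalizer (E : Set Ω)) {u : ℕ}
    (hu : ∃ x ∈ Γ u, ⁅x, m⁆ ∉ Γ (u + 2)) : ⁅Γ u, E⁆ = Γ (u + 1) := by
  obtain ⟨x, hx, k⟩ := hu
  have sN' : s ∈ normalizer ((⁅Γ u, E⁆ : Subgroup Ω) : Set Ω) := CL.Grp.le_normalizer_commutator' (A := zpowers s)
    (zpowers_le.2 (h.ch.norm u hs.1)) (zpowers_le.2 sN) (mem_zpowers s)
  exact le_antisymm (h.cle u) (h.ch.le_of_level hs (fun a ha => comm_symm_mem (comm_of_norm sN' ha)) (by omega)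
    (commutator_mem_commutator hx h.mE) (h.ch.comm hx (h.ES h.mE)) k)

theorem um {s : Ω} (hs : Un n S Γ s) (sN : s ∈ normalizer (E : Set Ω))
    (a : ∀ v ∈ E, v ∉ Γ 1 → ∃ x ∈ Γ (i + 2), ⁅x, v⁆ ∉ Γ (i + 4))
    (c : (∃ x ∈ Γ (i + 3), ⁅x, m⁆ ∉ Γ (i + 5)) ∨ AInv F E (Γ (i + 4))) : False := by
  have := finite_of_le h.ES
  have e1 : ⁅E, E⁆ = Γ (i + 2) := le_antisymm h.EE
    ((h.step hs sN (h.exa (u := i + 1) (by omega) h.n4 h.mE h.m1)).ge.trans (commutator_mono (h.le le_rfl) le_rfl))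
  have h1 : AInv F E (Γ (i + 2)) := e1 ▸ aInv_self.commutator aInv_self
  have h2 : AInv F E (Γ (i + 3)) := h.step hs sN (a m h.mE h.m1) ▸ h1.commutator aInv_self
  refine h.core h1 (c.elim (fun c => h.step hs sN c ▸ h2.commutator aInv_self) id)
    (h.ch.anti (by have := h.i1; omega)) le_rfl a fun x hx y hy => ?_
  exact commutator_le_frat (h.ch.pg.to_le h.ES) (e1.ge (h.ch.anti (by omega) (h.ch.comm hx (h.ch.le _ hy))))

theorem caseU (c : m ∉ centralizer (Γ (n - 2) : Set Ω)) : False := by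
  have i1 := h.i1
  have n4 := h.n4
  have un : ∀ v ∈ E, v ∉ Γ 1 → Un n S Γ v := fun v hv h1 => h.ch.un_of (h.ES hv) h1 fun k => c (by
    obtain ⟨d, hd⟩ := h.dec hv
    refine mem_of_pow_val (c := d) (fun e => h1 (h.ch.anti (show 1 ≤ i + 1 by omega) (by simpa [e] using hd)))
      (h.cen (by omega) (h.mem (pow_mem h.mE p) (h.ch.pow_mem (j := 0) (h.ch.zero ▸ h.ES h.mE)))) ?_
    exact inv_mem_iff.1 ((mul_mem_cancel_right k).1 (h.cen (by omega) hd)))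
  have ex : ∀ v ∈ E, v ∉ Γ 1 → ∀ u, 1 ≤ u → u + 2 ≤ n → ∃ x ∈ Γ u, ⁅x, v⁆ ∉ Γ (u + 2) := fun v hv h1 u a b =>
    let ⟨x, k, l⟩ := h.ch.ex (j := u) (by omega)
    ⟨x, k, (un v hv h1).2.2 u a b x k l⟩
  refine h.um (un m h.mE h.m1) (le_normalizer h.mE) (fun v hv h1 => ex v hv h1 _ (by omega) n4) ?_
  by_cases k : i + 5 ≤ n
  · exact .inl (ex m h.mE h.m1 _ (by omega) k)
  · exact .inr (h.ch.bot (i + 4) (by omega) ▸ aInv_bot)

theorem caseM (i1 : i = 1) (n5 : i + 5 ≤ n)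
    (c : i + 6 ≤ n ∨ i + 5 = n ∧ ∀ γ ∈ F.autGroup E, ∀ x ∈ Γ (n - 1), autFun γ x ∈ Γ (n - 1)) : False := by
  subst i1
  obtain ⟨s, hs⟩ := h.ch.exists_un (by omega)
  refine h.um hs (h.ynorm hs.1 fun e he => h.ch.c00 (commutator_mem_commutator hs.1 he))
    (fun v hv h1 => h.exa (by omega) n5 hv h1) (c.imp (fun c => h.exa (by omega) c h.mE h.m1) ?_)
  rintro ⟨rfl, c⟩
  exact ⟨h.le (by omega), c⟩

theorem caseN (hL : SLm.{u}) (c : m ∈ centralizer (Γ (n - 2) : Set Ω)) (i2 : 2 ≤ i) (n5 : i + 5 ≤ n) : False := by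
  have := finite_of_le h.ES
  have hz : zen E = Γ (n - 2) := by
    refine le_antisymm (fun v hv => by_contra fun k => ?_)
      (le_inf (h.le (by omega)) (le_centralizer_iff.1 (h.le_of c (h.cen (by omega)))))
    by_cases h1 : v ∈ Γ 1
    · obtain ⟨u, a1, a2, a3, a4⟩ := h.ch.level h1 k
      refine h.ch.un u a1 (by omega) v a3 a4 m (h.ES h.mE) h.m1 ?_
      rw [commutatorElement_eq_one_iff_mul_comm.2 (hv.2 m h.mE).symm]
      exact one_mem _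
    · obtain ⟨x, a, b⟩ := h.exa (u := n - 3) (by omega) (by omega) hv.1 h1
      rw [commutatorElement_eq_one_iff_mul_comm.2 (hv.2 x (h.le (by omega) a))] at b
      exact b (one_mem _)
  have hZ : AInv F E (Γ (n - 2)) := hz ▸ aInv_zen
  have st : ∀ u, 1 ≤ u → u + 3 ≤ n → ⁅Γ u, E⁆ ⊔ Γ (n - 2) = Γ (u + 1) := fun u a b => by
    have l : ⁅Γ u, E⁆ ⊔ Γ (n - 2) ≤ Γ (u + 1) := sup_le (h.cle u) (h.ch.anti (by omega))
    obtain ⟨x, hx, k⟩ := h.exa a b h.mE h.m1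
    exact le_antisymm l (hL.lev Ω p n (u + 1) S _ Γ m h.ch (h.ES h.mE) h.m1
      (fun a ha _ => mem_sup_left (commutator_mem_commutator (h.ch.anti (Nat.le_succ u) (l ha)) h.mE))
      ((h.ch.anti (by omega)).trans le_sup_right) (by omega) _ (mem_sup_left (commutator_mem_commutator hx h.mE))
      (h.ch.comm hx (h.ES h.mE)) k)
  have e1 : ⁅E, E⁆ ⊔ Γ (n - 2) = Γ (i + 2) := le_antisymm (sup_le h.EE (h.ch.anti (by omega)))
    ((st (i + 1) (by omega) h.n4).ge.trans (sup_le_sup_right (commutator_mono (h.le le_rfl) le_rfl) _))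
  have h1 : AInv F E (Γ (i + 2)) := e1 ▸ (aInv_self.commutator aInv_self).sup hZ
  have h2 : AInv F E (Γ (i + 3)) := st (i + 2) (by omega) n5 ▸ (h1.commutator aInv_self).sup hZ
  have nE : normalizer (E : Set Ω) ≤ normalizer ((⁅E, E⁆ : Subgroup Ω) : Set Ω) :=
    CL.Grp.le_normalizer_commutator' le_rfl le_rfl
  have b : ∀ x ∈ Γ (i + 2), ∀ y ∈ Γ i, ⁅x, y⁆ ∈ frat E := fun x hx y hy => by
    have yN := nE (h.ynorm (h.ch.le _ hy) fun e he => h.ch.comm hy he)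
    have : ⁅E, E⁆ ⊔ Γ (n - 2) ≤ Tv y ⁅E, E⁆ := sup_le (fun a ha => ⟨le_normalizer ha, comm_of_norm yN ha⟩)
      fun z hz => ⟨nE (le_normalizer (hZ.1 hz)), by
        rw [commutatorElement_eq_one_iff_mul_comm.2 (h.cen i2 hy z hz).symm]
        exact one_mem _⟩
    exact commutator_le_frat (h.ch.pg.to_le h.ES) (comm_symm_mem (this (e1.ge hx)).2)
  by_cases k : i + 6 ≤ n
  · exact h.core h1 (K := Γ (i + 4)) (st (i + 3) (by omega) k ▸ (h2.commutator aInv_self).sup hZ)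
      (h.ch.anti (by omega)) le_rfl (fun v hv h1 => h.exa (by omega) n5 hv h1) b
  · exact h.core h1 aInv_bot (h.ch.bot _ (by omega)).le bot_le (fun v hv h1 => h.exa (by omega) n5 hv h1) b

end Cx

end Chnx

theorem chn (h : SLm.{u}) : Chn.{u} := by
  intro Ω _ S E _ p n j _ F Γ m _ ch ess mE m1 inf j2 c
  obtain ⟨i, rfl⟩ : ∃ i, j = i + 1 := ⟨j - 1, by omega⟩
  have k : Chnx.Cx p n i E F Γ m := ⟨ch, ess, mE, m1, inf, by omega, by omega⟩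
  by_cases l : m ∈ centralizer (Γ (n - 2) : Set Ω)
  swap
  · exact k.caseU l
  replace c := c.resolve_left fun e => e.2 l
  by_cases i2 : 2 ≤ i
  · exact k.caseN h l i2 (by omega)
  · exact k.caseM (by omega) (by omega) (c.imp id fun e => ⟨e.1, e.2.resolve_left (by omega)⟩)

end CL.MX
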