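/-
Project MX, second part: the determinant lemma and the subgroup of index `p`.
-/
import Cfsg.Agent.MX.Defs2

set_option autoImplicit false

namespace CL.MX

open Subgroup Cfsg Cfsg.FusionSystem CL.Fus Matrix
open scoped commutatorElement

universe u

namespace Detx

variable {p : ℕ}

theorem gdet {X ι : Type} [Fintype ι] [DecidableEq ι] {Γ : Gr p X} {A : X → Matrix ι ι (ZMod p)} {r : ι → ℕ}
    (h : ∀ a b, (fun x => A x a b) ∈ Γ.S (r b)) : (fun x => (A x).det) ∈ Γ.S (∑ b, r b) := by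
  simp only [Matrix.det_apply']
  exact Gr.sum _ fun σ _ => Gr.cmul _ (Gr.prod _ fun b _ => h _ b)

theorem id1 : (fun j : ℕ => (j : ZMod p)) ∈ (gr1 p).S 1 := by simpa using gr1_id (p := p) 1

theorem deg {w r : ℕ} (A0 : Mt p w) (A1 : Matrix (Fin w) (Fin r) (ZMod p)) (A2 : Matrix (Fin r) (Fin w) (ZMod p)) :
    (fun j : ℕ => (A0 + (j : ZMod p) • (A1 * A2)).det) ∈ (gr1 p).S r := by
  have := gdet (Γ := gr1 p) (A := fun j : ℕ => fromBlocks A0 (-((j : ZMod p) • A1)) A2 1)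
    (r := Sum.elim (fun _ => 0) fun _ => 1) fun a b => by
      rcases a with a | a <;> rcases b with b | b
      · exact Gr.const _ _ _
      · simpa [mul_comm] using Gr.cmul (-A1 a b) (id1 (p := p))
      · exact Gr.const _ _ _
      · exact Gr.const _ _ _
  simpa [det_fromBlocks_one₂₂, Fintype.sum_sum_type] using this

variable [hp : Fact p.Prime]

theorem fac {d m : ℕ} (T : Mt p d) (h : Nat.card (LinearMap.range (toLin' T)) ≤ p ^ m) :
    ∃ r ≤ m, ∃ (P : Matrix (Fin d) (Fin r) (ZMod p)) (Q : Matrix (Fin r) (Fin d) (ZMod p)), T = P * Q := by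
  let b := Module.finBasis (ZMod p) (LinearMap.range (toLin' T))
  refine ⟨_, ?_, LinearMap.toMatrix' ((LinearMap.range (toLin' T)).subtype ∘ₗ b.equivFun.symm.toLinearMap),
    LinearMap.toMatrix' (b.equivFun.toLinearMap ∘ₗ (toLin' T).rangeRestrict), ?_⟩
  · rw [Module.natCard_eq_pow_finrank (K := ZMod p), Nat.card_zmod] at h
    exact (Nat.pow_le_pow_iff_right hp.out.one_lt).1 h
  · rw [← LinearMap.toMatrix'_comp]
    refine (LinearMap.toMatrix'_toLin' T).symm.trans (congrArg _ (LinearMap.ext fun c => ?_))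
    simp

theorem linv {d w : ℕ} (C : Matrix (Fin d) (Fin w) (ZMod p)) (h : ∀ a b, C *ᵥ a = C *ᵥ b → a = b) :
    ∃ Lm : Matrix (Fin w) (Fin d) (ZMod p), Lm * C = 1 := by
  obtain ⟨g, hg⟩ := LinearMap.exists_leftInverse_of_injective (toLin' C) (LinearMap.ker_eq_bot.2 fun a b e => h a b e)
  refine ⟨LinearMap.toMatrix' g, ?_⟩
  rw [← LinearMap.toMatrix'_toLin' C, ← LinearMap.toMatrix'_comp, hg, LinearMap.toMatrix'_id]

theorem sep {d w : ℕ} (C C' : Matrix (Fin d) (Fin w) (ZMod p)) (h : ∀ a b, C' *ᵥ a = C' *ᵥ b → a = b) {c : Fin w → ZMod p}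
    (k : C' *ᵥ c ∉ LinearMap.range (toLin' C)) :
    ∃ Rm : Matrix (Fin w) (Fin d) (ZMod p), (Rm * C).det = 0 ∧ (Rm * C').det ≠ 0 := by
  obtain ⟨l, h1, h2⟩ := exists_form k
  obtain ⟨Lm, hL⟩ := linv C' h
  obtain ⟨i, hi⟩ : ∃ i, (l ᵥ* C') i ≠ 0 := by
    by_contra! e
    rw [dotProduct_mulVec, show l ᵥ* C' = 0 from funext e, zero_dotProduct] at h2
    exact zero_ne_one h2
  refine ⟨Lm.updateRow i l, det_eq_zero_of_row_eq_zero i fun j => ?_, ?_⟩
  · have := h1 _ ⟨Pi.single j 1, rfl⟩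
    simpa [mul_apply, dotProduct] using this
  · have : Lm.updateRow i l * C' = (1 : Mt p w).updateRow i (l ᵥ* C') := by
      rw [← hL]
      ext a b
      by_cases e : a = i
      · subst e; simp [mul_apply, vecMul, dotProduct]
      · simp [mul_apply, e]
    rw [this, ← cramer_transpose_apply, transpose_one, cramer_one]
    exact hi

end Detx

theorem det : Det.{u} := by
  intro L _ _ p w o m hp E N D R ψ y h hD hψ hB hy hy' yp hR cR o1 om
  have := h.nrm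
  obtain ⟨d, Φ, ρ, r⟩ := exists_crd_oz (p := p) E
  obtain ⟨C, hC⟩ : ∃ C : Matrix (Fin d) (Fin w) (ZMod p), ∀ c, Φ (C *ᵥ c) = ψ c := by
    choose T hT using fun c => r.sur _ (hD (hψ.mem c))
    refine ⟨LinearMap.toMatrix' ((AddMonoidHom.mk' T fun a c => r.inj ?_).toZModLinearMap p), fun c => ?_⟩
    · rw [r.ad, hT, hT, hT, hψ.ad]
    · rw [LinearMap.toMatrix'_mulVec]; exact hT c
  have act : ∀ g c, Φ ((ρ g * C) *ᵥ c) = g * ψ c * g⁻¹ := fun g c => by rw [← mulVec_mulVec, r.act, hC]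
  obtain ⟨s, sm, P, P', hT⟩ := Detx.fac (m := m) (ρ y - 1) (le_trans (Nat.card_le_card_of_injective
    (fun v => (⟨Φ v, by
      obtain ⟨_, c, rfl⟩ := v
      exact (r.comm y c).symm ▸ (hR _ (r.mem c)).1 |> fun e : Φ ((ρ y - 1) *ᵥ c) ∈ R => e⟩ : R)) fun a b e => Subtype.ext (r.inj (congrArg Subtype.val e))) cR)
  have sq := r.sq fun u hu => (hR u hu).2
  have cst : ∀ (Rm : Matrix (Fin w) (Fin d) (ZMod p)) (g : L), (Rm * (ρ g * C)).det ^ o = (Rm * (ρ 1 * C)).det ^ o :=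
    fun Rm g => by
    refine h.const hy hy' yp (F := fun g => (Rm * (ρ g * C)).det ^ o) (r := s * o) (fun g _ k hk => ?_)
      (by nlinarith [Nat.mul_le_mul_left o sm]) (fun g g₀ => ?_) g
    · obtain ⟨M, h1, h2⟩ := hB k hk
      have : ρ k * C = C * M := Matrix.ext_iff_mulVec.2 fun c => r.inj (by rw [act, ← mulVec_mulVec, hC, h2])
      simp only
      rw [map_mul, Matrix.mul_assoc, this, ← Matrix.mul_assoc, ← Matrix.mul_assoc, det_mul, mul_pow, h1, mul_one,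
        Matrix.mul_assoc]
    · have e : ρ (g₀ * y * g₀⁻¹) - 1 = ρ g₀ * (P * P') * ρ g₀⁻¹ := by
        rw [← hT, mul_sub, sub_mul, mul_one, ← map_mul, ← map_mul, ← map_mul, mul_inv_cancel, map_one]
      convert Gr.pow (Detx.deg (Rm * (ρ g * C)) (Rm * ρ g₀ * P) (P' * ρ g₀⁻¹ * (ρ g * C))) o using 4 with j
      rw [map_mul, map_pow, Q.pow_eq (Q.sq_conj sq g₀), e]
      simp only [Matrix.add_mul, Matrix.mul_add, Matrix.smul_mul, Matrix.mul_smul, Matrix.mul_assoc, Matrix.one_mul]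
  refine ⟨fun x hx g => ?_⟩
  obtain ⟨c, rfl⟩ := hψ.sur x hx
  by_cases k : (ρ g * C) *ᵥ c ∈ LinearMap.range (toLin' C)
  · obtain ⟨c', e⟩ := k
    rw [← act, ← e, toLin'_apply, hC]
    exact hψ.mem c'
  · obtain ⟨Rm, h1, h2⟩ := Detx.sep C (ρ g * C) (fun a b e => hψ.inj (by
      have := congrArg Φ e
      rwa [act, act, mul_left_inj, mul_right_inj] at this)) k
    have := cst Rm g
    rw [map_one, Matrix.one_mul, h1, zero_pow (by omega)] at this
    exact absurd (pow_eq_zero_iff (by omega) |>.1 this) h2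

theorem n2 : N2.{u} := by
  intro L _ _ p o hp E N C D m y h nD DC CE BC mE mC mp hE hB hy hy' yp hD o1 op
  have nE := h.nrm
  choose! φ hφ using hE
  have cj : ∀ k ∈ normalizer (N : Set L), ∀ x ∈ C, k * x * k⁻¹ ∈ C := fun k hk x hx => (BC hk x).1 hx
  have ev : ∀ e ∈ E, ∀ k : ℕ, (m ^ k)⁻¹ * e ∈ C → φ e = k := fun e he k hk => by
    refine val_eq mC mp (hφ e he) ?_
    have : (m ^ (k % p))⁻¹ * e = (m ^ p) ^ (k / p) * ((m ^ k)⁻¹ * e) := by
      conv_rhs => rw [← Nat.mod_add_div k p, pow_add, pow_mul]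
      rw [Nat.mod_add_div]
      group
    rw [ZMod.val_natCast, this]
    exact mul_mem (pow_mem mp _) hk
  have z0 : ∀ e ∈ C, φ e = 0 := fun e he => by simpa using ev e (CE he) 0 (by simpa using he)
  have add : ∀ a ∈ E, ∀ b ∈ E, φ (a * b) = φ a + φ b := fun a ha b hb => by
    have := mul_mem (cj _ (le_normalizer (h.le (inv_mem (pow_mem mE (φ b).val)))) _ (hφ a ha)) (hφ b hb)
    simpa using ev _ (mul_mem ha hb) ((φ a).val + (φ b).val) (by
      convert this using 1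
      rw [pow_add]; group)
  have pw : ∀ a ∈ E, ∀ k : ℕ, φ (a ^ k) = k * φ a := fun a ha k => by
    induction k with
    | zero => simpa using z0 1 (one_mem _)
    | succ k ih => rw [pow_succ, add _ (pow_mem ha k) _ ha, ih]; push_cast; ring
  have lin : ∀ w, (∀ e ∈ E, ⁅w, ⁅w, e⁆⁆ ∈ D) → ∀ e ∈ E, ∀ j : ℕ, φ (w ^ j * e * (w ^ j)⁻¹) = φ e + j * φ ⁅w, e⁆ :=
    fun w hw e he j => by
    have rE : ⁅w, e⁆ ∈ E := mul_mem (nE.conj_mem e he w) (inv_mem he)
    have a1 : ∀ j : ℕ, φ (w ^ j * ⁅w, e⁆ * (w ^ j)⁻¹) = φ ⁅w, e⁆ := fun j => by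
      induction j with
      | zero => simp
      | succ j ih =>
        have k := DC (nD.conj_mem _ (hw e he) (w ^ j))
        rw [show w ^ (j + 1) * ⁅w, e⁆ * (w ^ (j + 1))⁻¹ =
          w ^ j * ⁅w, ⁅w, e⁆⁆ * (w ^ j)⁻¹ * (w ^ j * ⁅w, e⁆ * (w ^ j)⁻¹) by
            rw [commutatorElement_def w ⁅w, e⁆, pow_succ]; group,
          add _ (CE k) _ (nE.conj_mem _ rE _), z0 _ k, ih, zero_add]
    induction j with
    | zero => simp
    | succ j ih =>
      rw [show w ^ (j + 1) * e * (w ^ (j + 1))⁻¹ = w ^ j * ⁅w, e⁆ * (w ^ j)⁻¹ * (w ^ j * e * (w ^ j)⁻¹) by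
          rw [commutatorElement_def, pow_succ]; group,
        add _ (nE.conj_mem _ rE _) _ (nE.conj_mem _ he _), a1, ih]
      push_cast; ring
  refine ⟨fun v hv g => ?_⟩
  have vE := CE hv
  have := h.const hy hy' yp (F := fun g => φ (g⁻¹ * v * g⁻¹⁻¹) ^ o) (r := 1 * o) (fun g _ k hk => ?_) (by omega)
    (fun g g₀ => ?_) g⁻¹
  · simp only [inv_inv, inv_one, one_mul, mul_one] at this
    rw [z0 v hv, zero_pow (by omega)] at this
    simpa [(pow_eq_zero_iff (by omega)).1 this] using hφ _ (nE.conj_mem v vE g)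
  · obtain ⟨c, h1, h2⟩ := hB _ (inv_mem hk)
    have eE := nE.conj_mem v vE g⁻¹
    have k1 := cj _ (inv_mem hk) _ (hφ _ eE)
    have k2 := nE.conj_mem m mE k⁻¹
    simp only
    rw [show (g * k)⁻¹ * v * (g * k)⁻¹⁻¹ = (k⁻¹ * m * k⁻¹⁻¹) ^ (φ (g⁻¹ * v * g⁻¹⁻¹)).val *
      (k⁻¹ * ((m ^ (φ (g⁻¹ * v * g⁻¹⁻¹)).val)⁻¹ * (g⁻¹ * v * g⁻¹⁻¹)) * k⁻¹⁻¹) by rw [conj_pow]; group,
      add _ (pow_mem k2 _) _ (CE k1), z0 _ k1, pw _ k2, ev _ k2 _ h2]
    simp [mul_pow, h1]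
  · have q : ∀ e ∈ E, ⁅g⁻¹ * g₀ * y * (g⁻¹ * g₀)⁻¹, ⁅g⁻¹ * g₀ * y * (g⁻¹ * g₀)⁻¹, e⁆⁆ ∈ D := fun e he => by
      have := nD.conj_mem _ (hD _ (nE.conj_mem e he (g⁻¹ * g₀)⁻¹)) (g⁻¹ * g₀)
      convert this using 1
      simp only [commutatorElement_def]; group
    generalize hw : g⁻¹ * g₀ * y * (g⁻¹ * g₀)⁻¹ = w at q
    have q' : ∀ e ∈ E, ⁅w⁻¹, ⁅w⁻¹, e⁆⁆ ∈ D := fun e he => by
      have := nD.conj_mem _ (q e he) (w⁻¹ * (⁅w, e⁆ * w)⁻¹)
      convert this using 1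
      simp only [commutatorElement_def]; group
    convert Gr.pow (Gr.add (Gr.const (gr1 p) (φ (g⁻¹ * v * g⁻¹⁻¹)) 1)
      (Gr.mulc (φ ⁅w⁻¹, g⁻¹ * v * g⁻¹⁻¹⁆) Detx.id1)) o using 3 with j
    rw [← lin _ q' _ (nE.conj_mem v vE g⁻¹) j, ← hw]
    congr 1
    rw [inv_pow, conj_pow, conj_pow]
    group

end CL.MX
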