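/-
Project MX, second part: the local group generated by the Sylow subgroups of a model of `N_F(E)`.
-/
import Cfsg.Agent.MX.Defs2
import Cfsg.Agent.MX.Loc

set_option autoImplicit false

namespace CL.MX

open Subgroup Cfsg Cfsg.FusionSystem CL.Fus

universe u

namespace LocFx

theorem loc_of {G : Type u} [Group G] [Finite G] {p : ℕ} [Fact p.Prime] {E R : Subgroup G} (pR : IsPGroup p R)
    (iR : ¬ p ∣ R.index) (le : E ≤ R) [E.Normal] (cen : centralizer (E : Set G) ≤ E)
    (se : SE E R (normalizer (R : Set G))) :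
    Loc p (E.subgroupOf (normalClosure (R : Set G))) (R.subgroupOf (normalClosure (R : Set G))) := by
  have hL : R ≤ normalClosure (R : Set G) := le_normalClosure
  have fr := fun g : G => I2A.frattini pR iR hL (h := g) fun x hx => Normal.conj_mem inferInstance x hx g
  refine ⟨pR.comap_subtype, fun e => iR (e.trans (relIndex_dvd_index_of_le hL)), comap_mono le, inferInstance,
    fun c hc => cen fun x hx => congrArg Subtype.val (hc ⟨x, hL (le hx)⟩ hx), ⟨le_normalizer, fun e => se.ne ?_, ?_⟩, ?_⟩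
  · rw [← subgroupOf_normalizer_eq hL, subgroupOf_eq_top] at e
    refine eq_top_iff.2 fun g _ => ?_
    obtain ⟨n, hn, b, hb, rfl⟩ := fr g
    exact mul_mem (e hn) hb
  · rw [← subgroupOf_normalizer_eq hL]
    exact fun x hx hx' g k => se.cj x hx hx' g k
  · have k : normalClosure (R : Set G) ≤ (normalClosure (SetLike.coe (R.subgroupOf (normalClosure (R : Set G))))).map
        (Subgroup.subtype _) := (closure_le _).2 fun y hy => by
      obtain ⟨r, hr, c⟩ := Group.mem_conjugatesOfSet_iff.1 hy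
      obtain ⟨g, rfl⟩ := isConj_iff.1 c
      obtain ⟨n, hn, b, hb, rfl⟩ := fr g
      have hr' := (mem_normalizer_iff.1 hb r).1 hr
      refine ⟨_, normalClosure_normal.conj_mem ⟨_, hL hr'⟩ (subset_normalClosure ?_) ⟨n, hn⟩, by simp [mul_assoc]⟩
      exact hr'
    refine eq_top_iff.2 fun g _ => ?_
    obtain ⟨y, hy, e⟩ := k g.2
    exact (Subtype.ext e : y = g) ▸ hy

variable {Ω : Type u} [Group Ω] {S E : Subgroup Ω} {p : ℕ} {F : FusionSystem S} {G : Type u} [Group G] [Finite G]
  {i : normalizerIn S E →* G} {π : G →* MulAut E}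

omit [Finite G] in
theorem le_range (hE : E ≤ S) : img (Fus.ext i) E ≤ i.range :=
  img_le_iff.2 fun _ hx => ext_mem_range i (le_normalizerIn hE hx)

theorem key (h : LM p F E i π) (hE : E ≤ S) {g : G} {f : Ω → Ω} (h1 : HomOn (normalizerIn S E) f)
    (h2 : ∀ x ∈ E, f x = autFun (π g) x) (h3 : ∀ x ∈ normalizerIn S E, f x ∈ normalizerIn S E) :
    g ∈ normalizer (i.range : Set G) := by
  have hL := le_normalizerIn hE
  refine mem_normalizer_fintype ?_
  rintro _ ⟨a, rfl⟩
  refine (mul_mem_cancel_left (inv_mem (ext_mem_range i (h3 a a.2)))).1 (le_range hE (h.cen fun e he => ?_))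
  obtain ⟨x0, hx0, rfl⟩ := (mem_img_ext i hL).1 he
  obtain ⟨x, hx, rfl⟩ : ∃ x ∈ E, autFun (π g) x = x0 := ⟨_, autFun_mem _ hx0, autFun_apply_inv _ hx0⟩
  have k := h.act g _ ((mem_normalizer_iff.1 a.2.2 x).1 hx)
  rw [← h2 _ ((mem_normalizer_iff.1 a.2.2 x).1 hx), h1.map_conj a.2 (hL hx),
    (homOn_ext i).map_conj (h3 a a.2) (h3 x (hL hx)), (homOn_ext i).map_conj a.2 (hL hx), h2 x hx, h.act g x hx,
    ext_coe] at k
  rw [h.act g x hx]
  generalize Fus.ext i (f a) = z at k
  rw [mul_inv_eq_iff_eq_mul, ← eq_inv_mul_iff_mul_eq] at k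
  calc _ = (z⁻¹ * (g * (i a * Fus.ext i x * (i a)⁻¹) * g⁻¹ * z)) * (z⁻¹ * (g * i a * g⁻¹)) := by rw [← k]
    _ = _ := by group

end LocFx

open LocFx in
theorem locF : LocF.{u} := by
  intro Ω _ S E _ p _ F hS hF hE H
  obtain ⟨G, _, _, i, π, h, -, se⟩ := exists_loc_ess hS hF hE
  have ES := hE.1.1
  have hL := le_normalizerIn ES
  have k1 : extAut F E ≤ (normalizer (i.range : Set G)).map π := (closure_le _).2 fun α hα => by
    obtain ⟨g, rfl⟩ := h.rng.ge (extAut_le F E (subset_closure hα))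
    obtain ⟨Q, f, hQ, hf, e⟩ := hα
    have := hf.finite
    obtain ⟨f', a, b, c⟩ := H (normalizerIn Q E) f (lt_normalizerIn (hS.to_le hf.le) hQ)
      (inf_le_inf_right _ hf.le) (hf.mono (normalizerIn_le _ _)) fun x hx => e x hx ▸ autFun_mem _ hx
    exact ⟨g, key h ES a (fun x hx => (b x hx).trans (e x hx).symm) c, rfl⟩
  have k2 : (extAut F E).comap π ≤ normalizer (i.range : Set G) := fun g hg => by
    obtain ⟨n, hn, e⟩ := k1 hg
    refine (mul_mem_cancel_left (inv_mem hn)).1 (key h ES (homOn_id _) (fun x hx => ?_) fun _ hx => hx)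
    rw [map_mul, map_inv, e, inv_mul_cancel, autFun_apply _ hx]; rfl
  obtain ⟨a, a1, a2, a3, -⟩ := IsEssential.exists_normalizer hS hF hE
  have a4 : i ⟨a, a1, a2⟩ ∉ img (Fus.ext i) E := fun c => by
    obtain ⟨x, hx, e⟩ := (mem_img_ext i hL).1 c
    rw [ext_apply _ (hL hx)] at e
    obtain rfl : x = a := congrArg Subtype.val (h.inj e)
    exact a3 hx
  have k3 : normalizer (i.range : Set G) ≤ (extAut F E).comap π := fun g hg =>
    se.cj _ ⟨_, rfl⟩ a4 g (se.le ((mem_normalizer_iff.1 hg _).1 ⟨_, rfl⟩))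
  rw [le_antisymm k2 k3] at se
  have := h.nrm
  have l := loc_of ((hS.to_le (normalizerIn_le S E)).of_surjective _ i.rangeRestrict_surjective) h.idx (le_range ES)
    h.cen se
  let j := i.codRestrict (normalClosure (i.range : Set G)) fun x => subset_normalClosure ⟨x, rfl⟩
  have ej : ∀ x ∈ normalizerIn S E, (Fus.ext j x).1 = Fus.ext i x := fun x hx => by
    rw [ext_apply _ hx, ext_apply _ hx]; rfl
  have im : ∀ A ≤ normalizerIn S E, img (Fus.ext j) A = (img (Fus.ext i) A).subgroupOf _ := fun A hA => by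
    ext y
    rw [mem_subgroupOf, mem_img_ext _ hA, mem_img_ext _ hA]
    exact exists_congr fun x => and_congr_right fun hx => by rw [Subtype.ext_iff, ej x (hA hx)]
  refine ⟨_, _, inferInstance, Fus.ext j, homOn_ext j, ext_injOn fun x y e => h.inj (congrArg Subtype.val e), ?_,
    fun P hP g k => ?_⟩
  · rwa [im _ hL, im _ le_rfl, img_ext]
  have k4 : ∀ x, ∃ y, x ∈ P → y ∈ normalizerIn S E ∧ Fus.ext j y = g * Fus.ext j x * g⁻¹ := fun x => by
    by_cases hx : x ∈ P
    · exact ((mem_img_ext j le_rfl).1 (k x hx)).imp fun y hy _ => hy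
    · exact ⟨1, fun c => absurd c hx⟩
  choose f hf using k4
  refine ⟨f, h.mor P hP f g (fun x hx => (hf x hx).1) fun x hx => ?_, hf⟩
  rw [← ej _ (hf x hx).1, (hf x hx).2, ← ej x (hP hx)]; rfl

end CL.MX
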