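/-
Project MX, second part: the weights when the whole chain is normal in `X`.
-/
import Cfsg.Agent.MX.Defs2

set_option autoImplicit false

namespace CL.MX

open Subgroup Cfsg Matrix

universe u

namespace Na12x

variable {L : Type u} [Group L] [Finite L] {p n l j d : ℕ} [hp : Fact p.Prime] {E N : Subgroup L} {Δ : ℕ → Subgroup L}
  {y z z₂ : L} {a : L → ZMod p} {Φ : (Fin d → ZMod p) → L} {ρ : L →* Mt p d} {v₁ v₂ : Fin d → ZMod p}

theorem forms {v w : Fin d → ZMod p} (h : w ∉ Submodule.span (ZMod p) {v}) :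
    ∃ l : Fin d → ZMod p, l ⬝ᵥ v = 0 ∧ l ⬝ᵥ w = 1 :=
  let ⟨l, a, b⟩ := exists_form h; ⟨l, a v (Submodule.mem_span_singleton_self v), b⟩

omit [Finite L] in
theorem span_map {g : L} {v w : Fin d → ZMod p} (h : ρ g *ᵥ w ∈ Submodule.span (ZMod p) {ρ g *ᵥ v}) :
    w ∈ Submodule.span (ZMod p) {v} := by
  obtain ⟨c, e⟩ := Submodule.mem_span_singleton.1 h
  refine Submodule.mem_span_singleton.2 ⟨c, ?_⟩
  have := congrArg (ρ g⁻¹ *ᵥ ·) e
  simpa only [mulVec_smul, mulVec_mulVec, ← map_mul, inv_mul_cancel, map_one, one_mulVec] using this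

variable (h : NA p n l j E N Δ y z z₂ a) (C : Crd (oz p E) Φ ρ) (e1 : Φ v₁ = z) (e2 : Φ v₂ = z₂)

include C e1 in
theorem mem_iff {c : Fin d → ZMod p} : Φ c ∈ zpowers z ↔ c ∈ Submodule.span (ZMod p) {v₁} := by
  rw [Submodule.mem_span_singleton]
  refine ⟨fun k => ?_, ?_⟩
  · obtain ⟨m, hm⟩ := mem_powers_iff_mem_zpowers.2 k
    exact ⟨m, C.inj (by rw [Nat.cast_smul_eq_nsmul, C.ad.nsmul, e1]; exact hm)⟩
  · rintro ⟨t, rfl⟩
    rw [C.ad.smul, e1]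
    exact npow_mem_zpowers _ _

include h C

omit [Finite L] in
theorem deg (lam v : Fin d → ZMod p) (g g₀ : L) :
    (fun i : ℕ => lam ⬝ᵥ ρ ((g₀ * y * g₀⁻¹) ^ i * g) *ᵥ v) ∈ (gr1 p).S 1 := by
  simp only [map_mul ρ (_ ^ _), map_pow, Q.pow_eq (Q.sq_conj (C.sq h.quad) g₀), ← mulVec_mulVec, add_mulVec, one_mulVec,
    smul_mulVec, dotProduct_add, dotProduct_smul, smul_eq_mul]
  exact Gr.add (Gr.const _ _ _) (Gr.mulc _ (by simpa using gr1_id (p := p) 1))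

omit C in
theorem const {F : L → ZMod p} (hF : ∀ g, ∀ b ∈ normalizer (N : Set L), F (g * b) = F g) {r : ℕ} (hr : r + 2 ≤ p)
    (k : ∀ g g₀, (fun i : ℕ => F ((g₀ * y * g₀⁻¹) ^ i * g)) ∈ (gr1 p).S r) (g : L) : F g = F 1 :=
  h.loc.const (h.one ▸ h.anti h.j1 h.yΔ) h.yE h.yp (fun g _ => hF g) hr k g

include e1

omit [Finite L] in
theorem act1 {b : L} (hb : b ∈ normalizer (N : Set L)) : ρ b *ᵥ v₁ = a b ^ (n - 1 + l) • v₁ := by
  have := h.n3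
  have k := (h.wt b hb).2 (n - 1) (by omega) (by omega) z (h.Δz ▸ mem_zpowers z)
  rw [show n - 1 + 1 = n by omega, h.bot, mem_bot, inv_mul_eq_one] at k
  exact C.inj (by rw [C.act, C.ad.smul, e1]; exact k.symm)

theorem lemA {o : ℕ} (h1 : 1 ≤ o) (h2 : o + 2 ≤ p) (h3 : ∀ b ∈ normalizer (N : Set L), (a b ^ (n - 1 + l)) ^ o = 1) :
    False := by
  refine h.nz (h.Δz ▸ ⟨fun x hx g => (zpowers_le (H := (zpowers z).comap (MulAut.conj g).toMonoidHom)).2 ?_ hx⟩)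
  change g * z * g⁻¹ ∈ zpowers z
  nth_rw 2 [← e1]
  rw [← C.act, mem_iff C e1]
  by_contra k
  obtain ⟨lam, a1, a2⟩ := forms k
  have := const h (F := fun g => (lam ⬝ᵥ ρ g *ᵥ v₁) ^ o) (fun g b hb => by
    simp only [map_mul, ← mulVec_mulVec, act1 h C e1 hb, mulVec_smul, dotProduct_smul, smul_eq_mul, mul_pow, h3 b hb,
      one_mul]) (r := 1 * o) (by omega) (fun g g₀ => Gr.pow (deg h C lam v₁ g g₀) o) g
  simp only [a2, map_one, one_mulVec, a1, one_pow, zero_pow (show o ≠ 0 by omega)] at this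
  exact one_ne_zero this

include e2

theorem act2 {b : L} (hb : b ∈ normalizer (N : Set L)) : ∃ c : ZMod p, ρ b *ᵥ v₂ = a b ^ (n - 2 + l) • v₂ + c • v₁ := by
  have := h.n3
  have k := (h.wt b hb).2 (n - 2) (by omega) (by omega) z₂ (h.Δz₂ ▸ mem_sup_right (mem_zpowers z₂))
  rw [show n - 2 + 1 = n - 1 by omega, h.Δz, ← e2, cj, ← C.act, ← C.ad.smul, ← one_mul (Φ _)⁻¹, ← C.ad.zero, ← C.ad.sub,
    ← C.ad, mem_iff C e1, Submodule.mem_span_singleton] at k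
  obtain ⟨c, k⟩ := k
  exact ⟨c, by rw [k]; abel⟩

theorem lemB {r : ℕ} (h2 : r + 4 ≤ p)
    (h3 : ∀ b ∈ normalizer (N : Set L), (a b ^ (n - 1 + l)) ^ r * (a b ^ (n - 1 + l) * a b ^ (n - 2 + l)) = 1) : False := by
  have n2 : v₂ ∉ Submodule.span (ZMod p) {v₁} := fun k => h.z₂z (e2 ▸ (mem_iff C e1).2 k)
  have n0 : v₁ ∉ Submodule.span (ZMod p) {(0 : Fin d → ZMod p)} := fun k => h.z1 (by
    rw [Submodule.span_zero_singleton, Submodule.mem_bot] at k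
    rw [← e1, k, C.ad.zero])
  have n1 : v₁ ∉ Submodule.span (ZMod p) {v₂} := fun k => by
    obtain ⟨c, k⟩ := Submodule.mem_span_singleton.1 k
    have c0 : c ≠ 0 := by rintro rfl; exact n0 (by rw [← k, zero_smul]; exact zero_mem _)
    exact n2 (Submodule.mem_span_singleton.2 ⟨c⁻¹, by rw [← k, smul_smul, inv_mul_cancel₀ c0, one_smul]⟩)
  have key : ∀ g (l₁ l₂ : Fin d → ZMod p), (∀ w ∈ Submodule.span (ZMod p) {v₁, v₂}, l₁ ⬝ᵥ w = 0) →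
      (l₁ ⬝ᵥ ρ g *ᵥ v₁) * (l₂ ⬝ᵥ ρ g *ᵥ v₂) - (l₂ ⬝ᵥ ρ g *ᵥ v₁) * (l₁ ⬝ᵥ ρ g *ᵥ v₂) = 0 := fun g l₁ l₂ k => by
    obtain ⟨lam, -, a2⟩ := forms (v := 0) (w := ρ g *ᵥ v₁) fun e => n0 (span_map (g := g) (by rwa [mulVec_zero]))
    have := const h (F := fun g => (lam ⬝ᵥ ρ g *ᵥ v₁) ^ r *
      ((l₁ ⬝ᵥ ρ g *ᵥ v₁) * (l₂ ⬝ᵥ ρ g *ᵥ v₂) - (l₂ ⬝ᵥ ρ g *ᵥ v₁) * (l₁ ⬝ᵥ ρ g *ᵥ v₂))) (fun g b hb => by
        obtain ⟨c, hc⟩ := act2 h C e1 e2 hb
        simp only [map_mul, ← mulVec_mulVec, act1 h C e1 hb, hc, mulVec_smul, mulVec_add, dotProduct_smul, dotProduct_add,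
          smul_eq_mul, mul_pow]
        linear_combination ((lam ⬝ᵥ ρ g *ᵥ v₁) ^ r *
          ((l₁ ⬝ᵥ ρ g *ᵥ v₁) * (l₂ ⬝ᵥ ρ g *ᵥ v₂) - (l₂ ⬝ᵥ ρ g *ᵥ v₁) * (l₁ ⬝ᵥ ρ g *ᵥ v₂))) * h3 b hb)
      (r := 1 * r + (1 + 1)) (by omega) (fun g g₀ => (gr1 p).mul (Gr.pow (deg h C lam v₁ g g₀) r)
        (Gr.sub ((gr1 p).mul (deg h C l₁ v₁ g g₀) (deg h C l₂ v₂ g g₀))
          ((gr1 p).mul (deg h C l₂ v₁ g g₀) (deg h C l₁ v₂ g g₀)))) g
    simpa only [a2, one_pow, one_mul, map_one, one_mulVec, k v₁ (Submodule.subset_span (by simp)),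
      k v₂ (Submodule.subset_span (by simp)), zero_mul, mul_zero, sub_zero] using this
  have back : ∀ w ∈ Submodule.span (ZMod p) {v₁, v₂}, Φ w ∈ zpowers z ⊔ zpowers z₂ := fun w k => by
    obtain ⟨s, t, rfl⟩ := Submodule.mem_span_pair.1 k
    rw [C.ad, C.ad.smul, C.ad.smul, e1, e2]
    exact mul_mem (mem_sup_left (npow_mem_zpowers _ _)) (mem_sup_right (npow_mem_zpowers _ _))
  refine h.nz₂ (h.Δz₂ ▸ ⟨fun x hx g => (sup_le (zpowers_le.2 ?_) (zpowers_le.2 ?_) :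
    zpowers z ⊔ zpowers z₂ ≤ (zpowers z ⊔ zpowers z₂).comap (MulAut.conj g).toMonoidHom) hx⟩)
  · change g * z * g⁻¹ ∈ zpowers z ⊔ zpowers z₂
    refine (show Φ (ρ g *ᵥ v₁) = g * z * g⁻¹ by rw [C.act, e1]) ▸ back _ (by_contra fun k => ?_)
    obtain ⟨l₁, a1, a2⟩ := exists_form k
    obtain ⟨l₂, a3, a4⟩ := forms (v := ρ g *ᵥ v₁) (w := ρ g *ᵥ v₂) fun e => n2 (span_map e)
    simpa [a2, a3, a4] using key g l₁ l₂ a1
  · change g * z₂ * g⁻¹ ∈ zpowers z ⊔ zpowers z₂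
    refine (show Φ (ρ g *ᵥ v₂) = g * z₂ * g⁻¹ by rw [C.act, e2]) ▸ back _ (by_contra fun k => ?_)
    obtain ⟨l₁, a1, a2⟩ := exists_form k
    obtain ⟨l₂, a3, a4⟩ := forms (v := ρ g *ᵥ v₂) (w := ρ g *ᵥ v₁) fun e => n1 (span_map e)
    simpa [a2, a3, a4] using key g l₁ l₂ a1

end Na12x

open Na12x in
theorem na12 : Na12.{u} := by
  intro L _ _ p n l j _ E N Δ y z z₂ a h
  have := h.loc.nrm
  obtain ⟨d, Φ, ρ, C⟩ := exists_crd_oz (p := p) E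
  obtain ⟨v₁, e1⟩ := C.sur z h.zU
  obtain ⟨v₂, e2⟩ := C.sur z₂ h.z₂U
  have p3 := h.p3
  have n3 := h.n3
  have f : ∀ b ∈ normalizer (N : Set L), ∀ r, a b ^ r = a b ^ (r % (p - 1)) := fun b hb r =>
    pow_eq_pow_mod r (ZMod.pow_card_sub_one_eq_one (h.wt b hb).1)
  refine ⟨?_, fun r hr => by_contra fun k => lemA h C e1 (o := r % (p - 1))
    (Nat.pos_of_ne_zero fun e => k (Nat.dvd_of_mod_eq_zero e)) (by have := Nat.mod_lt r (show 0 < p - 1 by omega); omega)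
    fun b hb => by rw [← pow_mul, mul_comm, pow_mul, ← f b hb, hr b hb, one_pow]⟩
  have c : (n - 1 + l).Coprime (p - 1) := by_contra fun k => by
    obtain ⟨s, hs⟩ := Nat.gcd_dvd_left (n - 1 + l) (p - 1)
    obtain ⟨o, ho⟩ := Nat.gcd_dvd_right (n - 1 + l) (p - 1)
    have g0 : 0 < Nat.gcd (n - 1 + l) (p - 1) := Nat.gcd_pos_of_pos_right _ (by omega)
    rw [Nat.Coprime] at k
    generalize Nat.gcd (n - 1 + l) (p - 1) = e at *
    have o0 : 1 ≤ o := Nat.pos_of_ne_zero fun e => by rw [e] at ho; omega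
    have : 2 * o ≤ e * o := Nat.mul_le_mul_right o (by omega)
    exact lemA h C e1 o0 (by omega) fun b hb => by
      rw [← pow_mul, f b hb, hs, mul_right_comm, ← ho, Nat.mul_mod_right, pow_zero]
  obtain ⟨r, r1, r2⟩ := Nat.exists_mul_mod_eq_one_of_coprime c (by omega)
  match r, r1, r2 with
  | 0, _, r2 => simp at r2
  | 1, _, r2 =>
    rw [mul_one] at r2
    exact ⟨(n - 1 + l) / (p - 1), by have := Nat.div_add_mod (n - 1 + l) (p - 1); omega⟩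
  | r + 2, r1, r2 =>
    refine (lemB h C e1 e2 (r := r) (by omega) fun b hb => mul_right_cancel₀ (h.wt b hb).1 ?_).elim
    rw [one_mul, mul_assoc, mul_assoc, ← pow_succ, show n - 2 + l + 1 = n - 1 + l by omega, ← pow_two, ← pow_add, ← pow_mul,
      f b hb, r2, pow_one]

end CL.MX
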