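/-
Project MX, second part: the end of the case in which the whole chain is normal in `X`.
-/
import Cfsg.Agent.MX.Defs2

set_option autoImplicit false
set_option linter.unusedSectionVars false

namespace CL.MX

open Subgroup Cfsg Matrix
open scoped commutatorElement

universe u

namespace Na34x

theorem step (P : ℕ → Prop) {s : ℕ} (hs : P s) : ∀ n, s ≤ n → ¬ P n → ∃ u, s ≤ u ∧ u < n ∧ P u ∧ ¬ P (u + 1) := by
  intro n hn
  induction n, hn using Nat.le_induction with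
  | base => exact fun k => absurd hs k
  | succ n hn ih =>
    intro k
    by_cases e : P n
    · exact ⟨n, hn, by omega, e, k⟩
    · obtain ⟨u, a, b, c⟩ := ih e
      exact ⟨u, a, by omega, c⟩

theorem exr (m κ : ℕ) (hm : 0 < m) : ∃ r < m, m ∣ r + κ := by
  obtain ⟨m, rfl⟩ : ∃ k, m = k + 1 := ⟨m - 1, by omega⟩
  refine ⟨m * κ % (m + 1), Nat.mod_lt _ hm, Nat.dvd_of_mod_eq_zero ?_⟩
  rw [Nat.mod_add_mod, ← Nat.succ_mul]
  exact Nat.mul_mod_right _ _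

variable {L : Type u} [Group L] {p d : ℕ}

theorem nrm {z : L} (k : ∀ g, g * z * g⁻¹ ∈ zpowers z) : (zpowers z).Normal := ⟨by
  rintro _ ⟨i, rfl⟩ g
  simpa only [conj_zpow] using zpow_mem (k g) i⟩

theorem cjm (ρ : L →* Mt p d) (g x : L) : ρ (g * x * g⁻¹) - 1 = ρ g * (ρ x - 1) * ρ g⁻¹ := by
  rw [mul_sub, sub_mul, mul_one, ← map_mul, ← map_mul, ← map_mul, mul_inv_cancel, map_one]

theorem cjm' (ρ : L →* Mt p d) (g x : L) : ρ g * (ρ x - 1) = (ρ (g * x * g⁻¹) - 1) * ρ g := by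
  rw [cjm, mul_assoc, ← map_mul, inv_mul_cancel, map_one, mul_one]

theorem zero_of [Fact p.Prime] {v : Fin d → ZMod p} (k : ∀ μ : Fin d → ZMod p, μ ⬝ᵥ v = 0) : v = 0 :=
  funext fun i => by simpa using k (Pi.single i 1)

theorem fermat [hp : Fact p.Prime] {c : ZMod p} (hc : c ≠ 0) {m : ℕ} (k : p - 1 ∣ m) : c ^ m = 1 := by
  obtain ⟨i, rfl⟩ := k
  rw [pow_mul, ZMod.pow_card_sub_one_eq_one hc, one_pow]

theorem idd : (fun j : ℕ => (j : ZMod p)) ∈ (gr1 p).S 1 := by simpa using gr1_id (p := p) 1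

theorem dg1 {M : Mt p d} (h : (M - 1) ^ 2 = 0) (l w : Fin d → ZMod p) :
    (fun j : ℕ => l ⬝ᵥ (M ^ j).mulVec w) ∈ (gr1 p).S 1 := by
  simp only [Q.pow_eq h, add_mulVec, smul_mulVec, dotProduct_add, dotProduct_smul, smul_eq_mul]
  exact Gr.add (Gr.const _ _ _) (Gr.mulc _ idd)

theorem dg2 {M M' : Mt p d} (h : (M - 1) ^ 2 = 0) (h' : (M' - 1) ^ 2 = 0) (A : Mt p d) (l w : Fin d → ZMod p) :
    (fun j : ℕ => l ⬝ᵥ (M ^ j * A * M' ^ j - 1).mulVec w) ∈ (gr1 p).S 2 := by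
  have e : ∀ j : ℕ, l ⬝ᵥ (M ^ j * A * M' ^ j - 1).mulVec w = l ⬝ᵥ (A - 1).mulVec w +
      (j : ZMod p) * (l ⬝ᵥ ((M - 1) * A + A * (M' - 1)).mulVec w) +
      (j : ZMod p) * ((j : ZMod p) * (l ⬝ᵥ ((M - 1) * A * (M' - 1)).mulVec w)) := fun j => by
    rw [Q.pow_eq h, Q.pow_eq h']
    generalize M - 1 = T, M' - 1 = T'
    simp only [add_mul, mul_add, smul_mul_assoc, mul_smul_comm, add_mulVec, smul_mulVec, sub_mulVec, one_mul, mul_one,
      dotProduct_add, dotProduct_sub, dotProduct_smul, smul_eq_mul, smul_add]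
    ring
  simp only [e]
  exact Gr.add (Gr.add (Gr.const _ _ _) (Gr.le (Gr.mulc _ idd) one_le_two)) ((gr1 p).mul (a := 1) (b := 1) idd (Gr.mulc _ idd))

variable [Finite L] [hp : Fact p.Prime] {n l j : ℕ} {E N : Subgroup L} {Δ : ℕ → Subgroup L} {y z z₂ : L} {a : L → ZMod p}
  (h : NA p n l j E N Δ y z z₂ a)
include h

theorem yN : y ∈ N := h.one ▸ h.anti h.j1 h.yΔ

theorem yz : ⁅y, z⁆ = 1 := by
  have := h.n3
  have k := h.anti (show n ≤ n - 1 + 3 by omega) (h.cm (n - 1) (by omega) z (h.Δz ▸ mem_zpowers z))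
  rwa [h.bot, mem_bot] at k

theorem bz {b : L} (hb : b ∈ normalizer (N : Set L)) : b * z * b⁻¹ = z ^ (a b ^ (n - 1 + l)).val := by
  have := h.n3
  have k := (h.wt b hb).2 (n - 1) (by omega) (by omega) z (h.Δz ▸ mem_zpowers z)
  rw [show n - 1 + 1 = n by omega, h.bot, mem_bot, inv_mul_eq_one] at k
  exact k.symm

theorem exF : ∃ g, ¬ Commute y (g * z * g⁻¹) := by
  by_contra! k
  let K : Subgroup L := ⨅ g : L, centralizer {g * z * g⁻¹}
  have mem : ∀ x, x ∈ K ↔ ∀ g, Commute x (g * z * g⁻¹) := fun x => by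
    simp only [K, mem_iInf, mem_centralizer_singleton_iff]; rfl
  have : K.Normal := ⟨fun x hx g => (mem _).2 fun c => by
    have := ((mem _).1 hx (g⁻¹ * c)).eq
    have e : g * x * g⁻¹ * (c * z * c⁻¹) = g * (x * (g⁻¹ * c * z * (g⁻¹ * c)⁻¹)) * g⁻¹ := by group
    rw [Commute, SemiconjBy, e, this]; group⟩
  refine h.nz (h.Δz ▸ nrm fun g => ?_)
  obtain ⟨c, hc, b, hb, rfl⟩ := h.loc.frat (yN h) h.yE ((mem y).2 k) g
  have e : c * b * z * (c * b)⁻¹ = c * (b * z * b⁻¹) * c⁻¹ := by group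
  rw [e, ((mem c).1 hc b).eq, mul_inv_cancel_right, bz h hb]
  exact pow_mem (mem_zpowers z) _

variable {Φ : (Fin d → ZMod p) → L} {ρ : L →* Mt p d} (c : Crd (oz p E) Φ ρ)
include c

theorem sqz : (ρ y - 1) ^ 2 = 0 := c.sq h.quad

theorem by_ {b : L} (hb : b ∈ normalizer (N : Set L)) : ρ (b * y * b⁻¹) - 1 = a b ^ (j + l) • (ρ y - 1) := by
  have k := h.ΔE ((h.wt b hb).2 j h.j1 h.jn y h.yΔ)
  have e := c.eq_one_iff.2 (show _ ∈ centralizer (oz p E : Set L) from fun u hu => (hu.2.1 _ k).symm)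
  have e2 : ρ (b * y * b⁻¹) = ρ y ^ (a b ^ (j + l)).val := by
    rw [← map_pow, ← mul_one (ρ (y ^ _)), ← e, ← map_mul, mul_inv_cancel_left, cj]
  rw [e2, Q.pow_eq (sqz h c), ZMod.natCast_zmod_val, add_sub_cancel_left]

theorem low (h1 : p - 1 ∣ n - 2 + l) {r : ℕ} (hr : p - 1 ∣ r + (j + l)) : ¬ r + 4 ≤ p := fun k => by
  have := h.n3
  have := h.loc.nrm
  obtain ⟨v, hv⟩ := c.sur z h.zU
  obtain ⟨g₁, hg₁⟩ := exF h
  have bv : ∀ b ∈ normalizer (N : Set L), (ρ b).mulVec v = a b • v := fun b hb => c.inj (by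
    rw [c.act, c.ad.smul, hv, bz h hb, show n - 1 + l = n - 2 + l + 1 by omega, pow_succ, fermat (h.wt b hb).1 h1, one_mul])
  have key : ∀ (g : L) (lam μ w : Fin d → ZMod p), (lam ⬝ᵥ (ρ g).mulVec v) ^ r * (μ ⬝ᵥ (ρ (g * y * g⁻¹) - 1).mulVec w) =
      (lam ⬝ᵥ v) ^ r * (μ ⬝ᵥ (ρ y - 1).mulVec w) := fun g lam μ w => by
    have := h.loc.const (yN h) h.yE h.yp
      (F := fun g => (lam ⬝ᵥ (ρ g).mulVec v) ^ r * (μ ⬝ᵥ (ρ (g * y * g⁻¹) - 1).mulVec w)) (fun g _ b hb => by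
        have e : g * b * y * (g * b)⁻¹ = g * (b * y * b⁻¹) * g⁻¹ := by group
        simp only [e]
        rw [cjm ρ g, cjm ρ g, by_ h c hb, map_mul, ← mulVec_mulVec, bv b hb, mulVec_smul, dotProduct_smul, mul_smul_comm,
          smul_mul_assoc, smul_mulVec, dotProduct_smul, smul_eq_mul, smul_eq_mul, mul_pow, mul_mul_mul_comm, ← pow_add,
          fermat (h.wt b hb).1 hr, one_mul]) (r := 1 * r + 2) (by omega) (fun g g₀ => by
        have e : ∀ i : ℕ, (g₀ * y * g₀⁻¹) ^ i * g * y * ((g₀ * y * g₀⁻¹) ^ i * g)⁻¹ =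
            (g₀ * y * g₀⁻¹) ^ i * (g * y * g⁻¹) * ((g₀ * y * g₀⁻¹) ^ i)⁻¹ := fun i => by group
        have s := Q.sq_conj (sqz h c) g₀
        simp only [e, map_mul ρ (_ ^ _ * _), map_mul ρ (_ ^ _), ← inv_pow, map_pow, ← mulVec_mulVec v]
        exact (gr1 p).mul (Gr.pow (dg1 s lam _) r) (dg2 s (Q.sq_inv s) _ μ w)) g
    simpa using this
  rcases Nat.eq_zero_or_pos r with rfl | r0
  · have e : (ρ y - 1).mulVec v = 0 := c.inj (by rw [c.comm, hv, yz h, c.ad.zero])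
    have := c.comm (g₁⁻¹ * y * g₁⁻¹⁻¹) v
    rw [zero_of (v := (ρ (g₁⁻¹ * y * g₁⁻¹⁻¹) - 1).mulVec v) fun μ => by
      simpa only [e, pow_zero, one_mul, dotProduct_zero] using key g₁⁻¹ 0 μ v, c.ad.zero, hv, eq_comm,
      commutatorElement_eq_one_iff_mul_comm] at this
    refine hg₁ ?_
    have e1 : y * (g₁ * z * g₁⁻¹) = g₁ * (g₁⁻¹ * y * g₁⁻¹⁻¹ * z) * g₁⁻¹ := by group
    rw [Commute, SemiconjBy, e1, this]; group
  · obtain ⟨g, hg⟩ : ∃ g, (ρ g).mulVec v ∉ Submodule.span (ZMod p) {v} := by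
      by_contra! e
      refine h.nz (h.Δz ▸ nrm fun g => ?_)
      obtain ⟨t, ht⟩ := Submodule.mem_span_singleton.1 (e g)
      rw [← hv, ← c.act, ← ht, c.ad.smul]
      exact pow_mem (mem_zpowers _) _
    obtain ⟨lam, l0, l1⟩ := exists_form hg
    obtain ⟨w, hw⟩ := c.sur _ (Normal.conj_mem inferInstance z h.zU (g * g₁))
    have := c.comm (g * y * g⁻¹) w
    rw [zero_of (v := (ρ (g * y * g⁻¹) - 1).mulVec w) fun μ => by
      simpa only [l1, l0 v (Submodule.mem_span_singleton_self v), zero_pow r0.ne', one_pow, one_mul, zero_mul]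
        using key g lam μ w,
      c.ad.zero, hw, eq_comm, commutatorElement_eq_one_iff_mul_comm] at this
    refine hg₁ ?_
    have e1 : y * (g₁ * z * g₁⁻¹) = g⁻¹ * (g * y * g⁻¹ * (g * g₁ * z * (g * g₁)⁻¹)) * g := by group
    rw [Commute, SemiconjBy, e1, this]; group

theorem high (h2 : ∀ r, (∀ b ∈ normalizer (N : Set L), a b ^ r = 1) → p - 1 ∣ r) {r : ℕ} (hr : p - 1 ∣ r + (j + l))
    (r1 : r < p - 1) (r2 : ¬ r + 4 ≤ p) : False := by
  have := h.n3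
  have := h.p3
  have := h.loc.nrm
  obtain ⟨g₁, hg₁⟩ := exF h
  have m1 := Normal.conj_mem inferInstance z h.zU g₁
  obtain ⟨u, u1, un, ⟨x, xU, xΔ, xy⟩, mx⟩ := step (fun u => ∃ x ∈ oz p E, x ∈ Δ u ∧ ⁅y, x⁆ ≠ 1) (s := 1)
    ⟨_, m1, h.one ▸ h.loc.le m1.1, fun e => hg₁ (commutatorElement_eq_one_iff_commute.1 e)⟩ n (by omega) (by
      rintro ⟨x, -, hx, e⟩
      rw [h.bot, mem_bot] at hx
      simp [hx] at e)
  have wΔ := h.cm u u1 x xΔ
  have wn : ⁅y, x⁆ ∉ Δ n := by rwa [h.bot, mem_bot]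
  obtain ⟨t, t1, tn, wt, wt'⟩ := step (fun u => ⁅y, x⁆ ∈ Δ u) wΔ n
    (by_contra fun e => wn (h.anti (by omega) wΔ)) wn
  obtain ⟨v, rfl⟩ := c.sur x xU
  obtain ⟨s, rfl⟩ := Nat.exists_eq_add_of_le (show u ≤ t by omega)
  have dv := h2 (s + r) fun b hb => by
    obtain ⟨a0, w⟩ := h.wt b hb
    have e0 : Φ ((ρ b).mulVec v - a b ^ (u + l) • v) = (Φ v ^ (a b ^ (u + l)).val)⁻¹ * cj b (Φ v) := by
      rw [eq_inv_mul_iff_mul_eq, ← c.ad.smul, ← c.ad, add_sub_cancel, c.act, cj]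
    have e1 : (ρ y - 1).mulVec ((ρ b).mulVec v - a b ^ (u + l) • v) = 0 := c.inj (by
      rw [c.comm, c.ad.zero]
      exact by_contra fun e => mx ⟨_, c.mem _, e0 ▸ w u u1 un _ xΔ, e⟩)
    have e2 : cj b ⁅y, Φ v⁆ = ⁅y, Φ v⁆ ^ (a b ^ (j + l) * a b ^ (u + l)).val := by
      rw [mulVec_sub, sub_eq_zero, mulVec_smul] at e1
      rw [← c.comm, cj, ← c.act, ← c.ad.smul, mulVec_mulVec, cjm', by_ h c hb, smul_mul_assoc, smul_mulVec,
        ← mulVec_mulVec, e1, mul_smul]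
    have e3 := val_eq wt' (by rw [← c.comm, (c.mem _).2.2]; exact one_mem _) (w (u + s) (by omega) tn _ wt)
      (c' := a b ^ (j + l) * a b ^ (u + l)) (by rw [e2, inv_mul_cancel]; exact one_mem _)
    refine mul_left_cancel₀ (pow_ne_zero (u + l) a0) ?_
    rw [← pow_add, show u + l + (s + r) = r + (u + s + l) by omega, pow_add, e3, ← mul_assoc, ← pow_add,
      fermat a0 hr, one_mul, mul_one]
  obtain ⟨i, hi⟩ := dv
  have : 2 ≤ i := by
    rcases i with _ | _ | i <;> omega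
  have : (p - 1) * 2 ≤ (p - 1) * i := Nat.mul_le_mul_left _ this
  exact mx ⟨_, xU, h.pw u u1 (by omega) _ xΔ xU.2.2, xy⟩

end Na34x

theorem na34 : Na34.{u} := fun L _ _ p n l j _ E N Δ y z z₂ a h h1 h2 => by
  have := h.p3
  have := h.loc.nrm
  obtain ⟨d, Φ, ρ, c⟩ := exists_crd_oz (p := p) E
  obtain ⟨r, r1, hr⟩ := Na34x.exr (p - 1) (j + l) (by omega)
  exact Na34x.high h c h2 hr r1 (Na34x.low h c h1 hr)

end CL.MX
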