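/-
Project MX2, job MX2-NAG: the configuration inside `L` when the whole chain is normal in `X`.
-/
import Cfsg.Agent.MX.Defs2
import Cfsg.Agent.Fus.Basic2

set_option autoImplicit false

namespace CL.MX

open Subgroup Cfsg Cfsg.FusionSystem CL.Fus
open scoped commutatorElement

universe u

theorem naG (h1 : SLm.{u}) (h2 : Quad.{u}) (h3 : WT.{u}) (h4 : Na12.{u}) (h5 : Na34.{u}) : NaG.{u} := by
  intro X L _ _ _ _ p n _ S E N Γ ι h c p3 r k
  have n3 := h.three_le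
  have c2 : ∀ x ∈ Γ (n - 2), x ∈ centralizer (E : Set X) := fun x hx e he =>
    (commutatorElement_eq_one_iff_mul_comm.1 (mem_bot.1 ((c.bot _ (by omega)).le
      (c.sc (n - 2) 1 (by omega) le_rfl (commutator_mem_commutator hx (h.e1 he)))))).symm
  have E2 : Γ (n - 2) ≤ E := fun x hx => h.cen (h.ch.le _ hx) (c2 x hx)
  have n5 : 5 ≤ n := by_contra fun l => h.not_le ((c.anti (by omega)).trans E2)
  have oz2 : ∀ x ∈ Γ (n - 2), ι x ∈ oz p (img ι E) := fun x hx =>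
    ⟨mem_img_of_mem ι (E2 hx), h.hom.map_mem_centralizer h.le (h.le (E2 hx)) (c2 x hx), by
      rw [← h.hom.map_pow (h.le (E2 hx)), mem_bot.1 ((c.bot _ (by omega)).le (c.pm (n - 2) (by omega) x hx)),
        h.hom.map_one]⟩
  have nab : ⁅Γ 1, Γ 1⁆ ≠ ⊥ := fun e => h.not_le fun x hx => h.cen (h.ch.le _ hx) fun y hy =>
    commutatorElement_eq_one_iff_mul_comm.1 (mem_bot.1 (e.le
      (commutator_mem_commutator (h.e1 hy) (c.anti (by omega) hx))))
  have nt : ∀ u, 1 ≤ u → ⊤ ≤ normalizer (Γ u : Set X) := fun u hu => by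
    have := k u hu
    rw [normalizer_eq_top]
  obtain ⟨l, hl⟩ := h3.cs X p n S Γ c nab
  have wt : ∀ g ∈ normalizer (img ι N : Set L), ∃ a : ZMod p, a ≠ 0 ∧ ∀ u, 1 ≤ u → u < n →
      Wt (fun u => img ι (N ⊓ Γ u)) u (cj g) (a ^ (u + l)) := fun g hg => by
    obtain ⟨t, ht⟩ := h.ext g hg
    obtain ⟨t₁, -, s₁, w₁⟩ := h3.frat X p n S ⊤ Γ h.ch h.syl le_top nt t trivial
    obtain ⟨a, a0, ha⟩ := hl _ (h3.conj X p n S Γ t₁ h.ch s₁ (nt 1 le_rfl trivial)).1
    refine ⟨a, a0, fun u hu un x' hx' => ?_⟩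
    obtain ⟨x, ⟨xN, xΓ⟩, rfl⟩ := h.ex inf_le_left hx'
    rw [cj, ← (ht x xN).2, ← h.hom.map_pow xN, ← h.hom.map_inv (pow_mem xN _),
      ← h.hom.map_mul (inv_mem (pow_mem xN _)) (ht x xN).1]
    exact mem_img_of_mem ι ⟨N.mul_mem (N.inv_mem (N.pow_mem xN _)) (ht x xN).1, w₁ u hu _ (ha u hu un) x xΓ⟩
  choose! a ha using wt
  obtain ⟨j, y, j2, jn, jE, yΓ, yE, yN, yp⟩ := h.exists_j
  obtain ⟨z, z0, z1⟩ := h.ch.ex (j := n - 1) (by omega)
  obtain ⟨w, w0, w1⟩ := h.ch.ex (j := n - 2) (by omega)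
  have ez := h.ch.sup z0 z1
  rw [c.bot _ (by omega), bot_sup_eq] at ez
  have ew := h.ch.sup w0 w1
  rw [show n - 2 + 1 = n - 1 by omega] at ew w1
  have N1 : Γ (n - 1) ≤ N := h.last_le.trans h.le
  have N2 : Γ (n - 2) ≤ N := E2.trans h.le
  have iz : img ι (Γ (n - 1)) = zpowers (ι z) := by rw [← ez, h.hom.img_zpowers (N1 z0)]
  have cN : ∀ x ∈ N, ⁅y, x⁆ ∈ N := fun x hx => mul_mem (mul_mem (mul_mem yN hx) (inv_mem yN)) (inv_mem hx)
  have na : NA p n l j (img ι E) (img ι N) (fun u => img ι (N ⊓ Γ u)) (ι y) (ι z) (ι w) a :=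
    { loc := h.loc
      p3 := p3
      n3 := n3
      anti := fun _ _ e => img_mono ι (inf_le_inf_left _ (c.anti e))
      one := by rw [inf_eq_left.2 h.n1]
      bot := by rw [c.bot n le_rfl, inf_bot_eq, img_bot h.hom.map_one]
      zU := oz2 z (c.anti (by omega) z0)
      z₂U := oz2 w w0
      z1 := fun e => z1 (((h.eq_one (N1 z0)).1 e).symm ▸ one_mem _)
      z₂z := fun e => w1 ((h.mem_iff N1 (N2 w0)).1 (iz ▸ e))
      Δz := by rw [inf_eq_right.2 N1, iz]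
      Δz₂ := by
        rw [inf_eq_right.2 N2, ← ew, (h.hom.mono (ew ▸ N2)).img_sup, iz, h.hom.img_zpowers (N2 w0)]
      j1 := by omega
      jn := by omega
      yΔ := mem_img_of_mem ι ⟨yN, yΓ⟩
      yE := fun e => yE ((h.mem_iff h.le yN).1 e)
      yp := h.hom.map_pow yN p ▸ mem_img_of_mem ι yp
      ΔE := img_mono ι (inf_le_right.trans jE)
      wt := ha
      quad := fun u' hu' => by
        obtain ⟨u, hu, rfl⟩ := h.ex h.le hu'.1
        have uN := h.le hu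
        rw [← h.hom.map_commutator yN uN, h.commute yN (cN u uN)]
        exact h2 X p n j S Γ c j2 y yΓ u (h.e1 hu)
          (fun e he => (h.commute (h.le (jE he)) uN).1 (hu'.2.1 _ (mem_img_of_mem ι (jE he))))
          ((h.eq_one (pow_mem uN p)).1 ((h.hom.map_pow uN p).trans hu'.2.2))
      cm := fun u hu x' hx' => by
        obtain ⟨x, ⟨xN, xΓ⟩, rfl⟩ := h.ex inf_le_left hx'
        rw [← h.hom.map_commutator yN xN]
        exact mem_img_of_mem ι ⟨cN x xN, c.anti (by omega) (c.sc j u (by omega) hu (commutator_mem_commutator yΓ xΓ))⟩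
      pw := fun u hu un x' hx' e => by
        obtain ⟨x, ⟨xN, xΓ⟩, rfl⟩ := h.ex inf_le_left hx'
        refine mem_img_of_mem ι ⟨xN, (h1.per X p n (u + 1) S Γ c p3 (by omega) (by omega) (by omega) x (h.n1 xN)).2 ?_⟩
        rw [(h.eq_one (pow_mem xN p)).1 ((h.hom.map_pow xN p).trans e)]
        exact one_mem _
      nz := by rw [inf_eq_right.2 N1]; exact r _ (by omega) h.last_le (k _ (by omega))
      nz₂ := by rw [inf_eq_right.2 N2]; exact r _ (by omega) E2 (k _ (by omega)) }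
  exact h5 L p n l j _ _ _ _ _ _ a na (h4 L p n l j _ _ _ _ _ _ a na).1 (h4 L p n l j _ _ _ _ _ _ a na).2

end CL.MX
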