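/-
Project MX, second part: the case `N_S(E) ≤ γ₁(S)`, pulled back to the fusion system.
-/
import Cfsg.Agent.MX.Defs2

set_option autoImplicit false

namespace CL.MX

open Subgroup Cfsg Cfsg.FusionSystem CL.Fus
open scoped commutatorElement

universe u

namespace NeFx
variable {Ω : Type u} [Group Ω] {S E N Q : Subgroup Ω} [Finite S] {p n m r : ℕ} [hp : Fact p.Prime]
  {Γ : ℕ → Subgroup Ω} {F : FusionSystem S} {f : Ω → Ω}

/-- maps on larger subgroups of `Γ 1` extend to `Γ 1` -/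
theorem extd (h4 : WT.{u}) (hF : F.IsSaturated p) (h : Ch p n S Γ) (n4 : 4 ≤ n)
    (hA : ∀ A Q, F.IsEssential p A → Q ≤ A → Q ≤ Γ 1 → Nat.card E < Nat.card Q → A = Γ 1) (hQ : E < Q) (h1 : Q ≤ Γ 1)
    (hf : Mor F Q f) : ∃ β ∈ F.autGroup (Γ 1), ∀ x ∈ Q, f x = autFun β x := by
  have := hf.finite
  have hc : Nat.card E < Nat.card Q :=
    lt_of_le_of_ne (card_le_of_le hQ.le) fun e => hQ.ne (eq_of_le_of_card_ge hQ.le e.ge)
  refine alperin_induction h.pg hF (fun f => ∃ β ∈ F.autGroup (Γ 1), ∀ x ∈ Q, f x = autFun β x)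
    (fun f e => ⟨1, one_mem _, fun x hx => (e x hx).trans (autFun_one (h1 hx)).symm⟩) ?_ hf
  rintro f g a A hf ⟨β, hβ, e⟩ hA' ha e1 hfA hg
  obtain ⟨γ, hγ, e'⟩ : ∃ γ ∈ F.autGroup (Γ 1), ∀ x ∈ Γ 1, autFun γ x = a x := by
    rcases hA' with rfl | hA'
    · exact ha.exists_aut' (h.le 1) ((h4.of Ω p n _ Γ a h n4 ha.homOn ha.injOn fun x hx => ha.mem hx).mem 1)
    · obtain rfl := hA A (img f Q) hA' (img_le_iff.2 hfA)
        (img_le_iff.2 fun x hx => (e x hx).symm ▸ autFun_mem β (h1 hx)) (by rwa [hf.card_img])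
      exact ha.exists_aut e1
  exact ⟨γ * β, mul_mem hγ hβ, fun x hx => by
    rw [hg x hx, autFun_mul _ _ (h1 hx), e' _ (autFun_mem β (h1 hx)), e x hx]⟩

/-- the local group acts as a `p`-group on a normal member of the chain -/
theorem uni (h3 : UniF.{u}) (hF : F.IsSaturated p) (h : Ch p n S Γ) {L : Type u} [Group L] {ι : Ω → L}
    (hom : HomOn N ι) (inj : Set.InjOn ι N) (loc : Loc p (img ι E) (img ι N)) (hN : N ≤ Γ 1)
    (ex : ∀ P ≤ N, ∀ g : L, (∀ x ∈ P, g * ι x * g⁻¹ ∈ img ι N) →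
      ∃ f, Mor F P f ∧ ∀ x ∈ P, f x ∈ N ∧ ι (f x) = g * ι x * g⁻¹)
    (r3 : 3 ≤ r) (mn : m ≤ n) (nm : n ≤ m + 1) (c : m < n ∨ Cs p n S Γ)
    (cen : ∀ g : L, ∀ x ∈ Γ m, g * ι x * g⁻¹ = ι x) (rN : Γ r ≤ N) (nr : (img ι (Γ r)).Normal) (g : L)
    (hg : (orderOf g).Coprime p) : g ∈ centralizer (img ι (Γ r) : Set L) := by
  refine mem_centralizer_of_conj_eq fun y hy => ?_
  obtain ⟨x, hx, rfl⟩ := (hom.mono rN).mem_img.1 hy
  rcases le_total m r with rm | rm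
  · exact cen g x (h.anti rm hx)
  obtain ⟨O, o1, o2, o3⟩ := h3 Ω S p n m r F Γ hF h r3 rm mn nm c
  have al : ∀ g : L, ∃ α ∈ F.autGroup (Γ r), ∀ x ∈ Γ r, ι (autFun α x) = g * ι x * g⁻¹ := fun g => by
    have k : ∀ x ∈ Γ r, g * ι x * g⁻¹ ∈ img ι (Γ r) := fun x hx => nr.conj_mem _ (mem_img_of_mem ι hx) g
    obtain ⟨f, hf, e⟩ := ex (Γ r) rN g fun x hx => img_mono ι rN (k x hx)
    obtain ⟨α, hα, e'⟩ := hf.exists_aut' le_rfl fun x hx =>
      hom.mem_of_mem_img inj rN (e x hx).1 ((e x hx).2.symm ▸ k x hx)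
    exact ⟨α, hα, fun x hx => by rw [e' x hx, (e x hx).2]⟩
  choose ρ hρ e using al
  let σ : L →* MulAut (Γ r) := MonoidHom.mk' ρ fun a b => aut_ext fun x hx =>
    inj (rN (autFun_mem _ hx)) (rN (autFun_mem _ hx)) (by
      rw [e _ x hx, autFun_mul _ _ hx, e _ _ (autFun_mem _ hx), e _ x hx]; group)
  have : (O.comap σ).Normal := ⟨fun a ha b => by
    rw [mem_comap, map_mul, map_mul, map_inv]
    exact o2 _ (hρ b) (fun x hx => inj (rN (autFun_mem _ (h.anti rm hx))) (rN (h.anti rm hx))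
      ((e b x (h.anti rm hx)).trans (cen b x hx))) _ ha⟩
  have t : O.comap σ = ⊤ := loc.top_of (img_le_iff.2 fun y hy => o3 y (hN hy) _ fun x hx =>
    inj (rN (autFun_mem _ hx)) (mul_mem (mul_mem hy (rN hx)) (inv_mem hy))
      ((e _ x hx).trans (hom.map_conj hy (rN hx)).symm))
  have k : ρ g = 1 := o1 _ (t.ge (mem_top g)) (hg.coprime_dvd_left (orderOf_map_dvd σ g))
  rw [← e g x hx, k, autFun_one hx]

end NeFx

theorem neF (h1 : GT.{u}) (h2 : LocF.{u}) (h3 : UniF.{u}) (h4 : WT.{u}) : NeF.{u} := by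
  intro Ω _ S E _ p n _ F Γ hF h p3 n4 hE hN c hA
  have hES := hE.1.1
  have hEN : E ≤ normalizerIn S E := le_normalizerIn hES
  obtain ⟨L, _, _, ι, hom, inj, loc, ex⟩ := h2 Ω S E p F h.pg hF hE fun Q f hQ hQN hf hfE => by
    obtain ⟨β, hβ, e⟩ := NeFx.extd h4 hF h n4 hA hQ (hQN.trans hN) hf
    have m := mor_autFun (h.le 1) hβ
    refine ⟨autFun β, m.homOn.mono hN, fun x hx => (e x (hQ.le hx)).symm, fun x hx => ?_⟩
    have := m.map_mem_normalizerIn (hEN.trans hN) (hN hx) hx.2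
    rwa [m.img_eq_self (hEN.trans hN) fun x hx => e x (hQ.le hx) ▸ hfE x hx] at this
  obtain ⟨X, _, _, i, π, l⟩ := exists_loc h.pg hF (isFullyNormalized_of_normalizerIn_eq F (h.le 1) (h.norm 1))
    (centric_of_le hE.1 (hEN.trans hN) (h.le 1))
  have hL : S ≤ normalizerIn S (Γ 1) := le_inf le_rfl (h.norm 1)
  have gL : ∀ j, Γ j ≤ normalizerIn S (Γ 1) := fun j => (h.le j).trans hL
  have NL := (normalizerIn_le S E).trans hL
  have EL := hES.trans hL
  obtain ⟨η, k⟩ := exists_gIso_of_injective i l.inj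
  have r : img (Fus.ext i) S = i.range := by
    rw [img_ext_of_le i hL, subgroupOf_eq_top.2 (normalizerIn_le S _), MonoidHom.range_eq_map]
  have ch := (h.subgroupOf hL).map i (m := n) (by
    rw [(MonoidHom.ker_eq_bot_iff i).2 l.inj, inf_bot_eq, h.bot n le_rfl, bot_subgroupOf]) le_rfl
  rw [← img_ext_of_le i hL, r] at ch
  simp only [← img_ext_of_le i (gL _)] at ch
  have im : ∀ A ≤ normalizerIn S (Γ 1), img (fun y => ι (η y)) (img (Fus.ext i) A) = img ι A := fun A hA => by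
    rw [(k.symm.homOn.mono (k.img_le hA)).img_comp (k := ι), k.img_img hA]
  have ηN : ∀ y ∈ img (Fus.ext i) (normalizerIn S E), η y ∈ normalizerIn S E := fun y hy =>
    ((k.mem_img_iff' NL).1 hy).2
  have dat : Dat p n i.range (fun j => img (Fus.ext i) (Γ j)) (img (Fus.ext i) E)
      (img (Fus.ext i) (normalizerIn S E)) fun y => ι (η y) := by
    refine ⟨ch, l.idx, l.nrm, img_mono _ hEN, img_mono _ hN, ?_, (k.symm.homOn.mono (k.img_le NL)).comp hom ηN,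
      fun x hx y hy e => k.symm.injOn (k.img_le NL hx) (k.img_le NL hy) (inj (ηN x hx) (ηN y hy) e),
      by rwa [im _ EL, im _ NL], fun g hg => ?_⟩
    · rintro _ ⟨a, rfl⟩ hx
      rw [← ext_coe] at hx ⊢
      exact mem_img_of_mem _ ⟨a.2.1, (k.mem_normalizer_iff EL a.2).1 hx⟩
    · rw [im _ NL] at hg
      obtain ⟨f, hf, e⟩ := ex _ le_rfl g fun x hx => conj_mem_of_mem_normalizer hg (mem_img_of_mem ι hx)
      obtain ⟨β, hβ, e'⟩ := NeFx.extd h4 hF h n4 hA (lt_normalizerIn h.pg (IsEssential.lt_top h.pg hF hE)) hN hf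
      obtain ⟨a, rfl⟩ := l.rng.ge hβ
      refine ⟨a, fun y hy => ?_⟩
      obtain ⟨x, hx, rfl⟩ := (k.mem_img NL).1 hy
      rw [← l.act a x (hN hx), ← e' x hx, k.left _ (NL (e x hx).1), k.left _ (NL hx)]
      exact ⟨mem_img_of_mem _ (e x hx).1, (e x hx).2⟩
  have cb : ⁅img (Fus.ext i) (Γ (n - 2)), img (Fus.ext i) (Γ 1)⁆ = ⊥ ↔ ⁅Γ (n - 2), Γ 1⁆ = ⊥ := by
    rw [← k.img_commutator (gL _) (gL _), k.img_eq_bot_iff ((h.cc0 _ _).trans (gL _))]
  refine h1 X L p n _ _ _ _ _ dat p3 n4 (c.imp cb.2 fun e => by rwa [k.card_img EL]) fun c2 j hj nj g hg => ?_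
  have j3 : 3 ≤ j := by_contra fun d => dat.not_le ((ch.anti (by omega : j ≤ 2)).trans hj)
  have jN := ((k.img_le_img_iff (gL j) EL).1 hj).trans hEN
  beta_reduce at c2 nj ⊢
  rw [im _ (gL _)] at c2 nj ⊢
  rcases c2 with c2 | c2
  · refine NeFx.uni h3 hF h hom inj loc hN ex j3 le_rfl (Nat.le_succ n) (.inr (h.cs (by omega) (cb.1 c2)))
      (fun g x hx => ?_) jN nj g hg
    rw [h.bot n le_rfl, mem_bot] at hx
    rw [hx, hom.map_one, mul_one, mul_inv_cancel]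
  · have zN : Γ (n - 1) ≤ normalizerIn S E := fun x hx => ⟨h.le _ hx, centralizer_le_normalizer _
      fun y hy => (h.central hx (hES hy)).symm.eq⟩
    have t : centralizer (img ι (Γ (n - 1)) : Set L) = ⊤ := loc.top_of (img_le_iff.2 fun y hy =>
      hom.map_mem_centralizer zN hy fun x hx => (h.central hx hy.1).eq)
    exact NeFx.uni h3 hF h hom inj loc hN ex j3 (Nat.sub_le n 1) (by omega) (.inl (by omega))
      (fun g x hx => conj_eq_of_mem_centralizer (t.ge (mem_top g)) (mem_img_of_mem ι hx)) jN nj g hg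

end CL.MX
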