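/-
Project MX, second part: the prime two.
-/
import Cfsg.Agent.MX.Defs2
import Cfsg.Agent.Fus.MCFus
import Cfsg.Agent.Fus.SubGrp
import Cfsg.Agent.Fus.EssExt
import Cfsg.Agent.Grp.PGroupMaxClass

set_option autoImplicit false

namespace CL.MX

open Subgroup Cfsg Cfsg.FusionSystem CL.Fus CL.Grp CL.Inv
open scoped commutatorElement

universe u

namespace P2x

section Top

variable {G : Type*} [Group G] {m : ℕ} {a b : G}

theorem two_step (h : DQSGen m a b) (h3 : 3 ≤ m) (x : G) :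
    (∀ y ∈ (⊤ : Subgroup G).lowerCentralSeries 1,
      x * y * x⁻¹ * y⁻¹ ∈ (⊤ : Subgroup G).lowerCentralSeries 3) ↔ x ∈ zpowers a := by
  rw [h.lowerCentralSeries_succ_eq 0, h.lowerCentralSeries_succ_eq 2]
  constructor
  · intro hx
    obtain ⟨i, rfl | rfl⟩ := h.elt x
    · exact zpow_mem (mem_zpowers a) i
    · exfalso
      obtain ⟨k, hk⟩ := mem_zpowers_iff.1 (hx _ (mem_zpowers _))
      have h1 := h.conj_sq 1
      have h2 : a ^ i * b * a ^ 2 ^ (0 + 1) * (a ^ i * b)⁻¹ * (a ^ 2 ^ (0 + 1))⁻¹ = a ^ (-4 : ℤ) := by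
        have e : a ^ 2 ^ (0 + 1) = a ^ (2 * 1 : ℤ) := by norm_num [zpow_ofNat]
        rw [e, show a ^ i * b * a ^ (2 * 1 : ℤ) * (a ^ i * b)⁻¹ =
          a ^ i * (b * a ^ (2 * 1 : ℤ) * b⁻¹) * (a ^ i)⁻¹ by group, h1]
        group
      rw [h2, ← zpow_natCast, ← zpow_mul, zpow_eq_zpow_iff_of_orderOf h.ord] at hk
      have h4 := (pow_dvd_pow ((2 : ℕ) : ℤ) h3).trans hk
      push_cast at h4
      omega
  · rintro ⟨i, rfl⟩ y ⟨j, rfl⟩
    have : a ^ i * (a ^ 2 ^ (0 + 1)) ^ j * (a ^ i)⁻¹ * ((a ^ 2 ^ (0 + 1)) ^ j)⁻¹ = 1 := by group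
    simp only [this, one_mem]

theorem cent_two (h : DQSGen m a b) (h3 : 3 ≤ m) (x : G) :
    x ∈ centralizer (Subgroup.upperCentralSeries G 2 : Set G) ↔ x ∈ zpowers a := by
  obtain ⟨k, rfl⟩ : ∃ k, m = k + 3 := ⟨m - 3, by omega⟩
  have hZ : ∀ y, y ∈ Subgroup.upperCentralSeries G 2 ↔ ∀ g, ⁅y, g⁆ ∈ zpowers (a ^ 2 ^ (k + 2)) := fun y => by
    rw [Subgroup.mem_upperCentralSeries_succ_iff, Subgroup.upperCentralSeries_one, h.center_eq]
    rfl
  constructor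
  · intro hx
    obtain ⟨i, rfl | rfl⟩ := h.elt x
    · exact zpow_mem (mem_zpowers a) i
    · exfalso
      have h1 : a ^ ((2 : ℤ) ^ (k + 1)) ∈ Subgroup.upperCentralSeries G 2 := (hZ _).2 fun g => by
        have := commutator_mem_commutator (mem_zpowers (a ^ ((2 : ℤ) ^ (k + 1)))) (mem_top g)
        rw [h.commutator_zpowers_top, ← pow_succ'] at this
        rw [← zpow_natCast]
        push_cast
        exact this
      have h2 : Commute (a ^ ((2 : ℤ) ^ (k + 1))) (a ^ i * b) := mem_centralizer_iff.1 hx _ h1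
      have h4 : Commute (a ^ ((2 : ℤ) ^ (k + 1))) b := by
        have := (Commute.zpow_zpow_self a ((2 : ℤ) ^ (k + 1)) (-i)).mul_right h2
        rwa [zpow_neg, inv_mul_cancel_left] at this
      rw [h.zpow_commute_iff, pow_dvd_pow_iff (by norm_num) (by norm_num [Int.isUnit_iff])] at h4
      omega
  · rintro ⟨i, rfl⟩
    refine mem_centralizer_iff.2 fun y hy => ?_
    obtain ⟨j, rfl | rfl⟩ := h.elt y
    · exact Commute.zpow_zpow_self a j i
    · exfalso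
      obtain ⟨r, hr, h4, -⟩ := h.exists_conj
      obtain ⟨t, ht⟩ := mem_zpowers_iff.1 ((hZ _).1 hy a)
      have h2 : ⁅a ^ j * b, a⁆ = a ^ (r - 1) := by
        rw [commutatorElement_def, show a ^ j * b * a * (a ^ j * b)⁻¹ = a ^ j * (b * a * b⁻¹) * (a ^ j)⁻¹ by group,
          hr]
        group
      rw [h2, ← zpow_natCast, ← zpow_mul, zpow_eq_zpow_iff_of_orderOf h.ord] at ht
      have h5 := (pow_dvd_pow ((2 : ℕ) : ℤ) (show 2 ≤ k + 3 by omega)).trans ht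
      push_cast at h5
      rw [pow_add, mul_right_comm] at h5
      omega

end Top

variable {Ω : Type*} [Group Ω] {S : Subgroup Ω} {m : ℕ}

theorem exists_mc {a b : S} (h : DQSGen m a b) : ∃ e d, Nonempty (MC S m e d) := by
  have hx : orderOf (a : Ω) = 2 ^ m := by rw [orderOf_coe, h.ord]
  have hx1 : (a : Ω) ^ 2 ^ m = 1 := hx ▸ pow_orderOf_eq_one _
  have hn : (b : Ω) ∉ zpowers (a : Ω) := fun ⟨i, hi⟩ => h.notMem ⟨i, Subtype.ext hi⟩
  have h2 := h.two_le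
  have e0 : b ^ 2 = 1 → (b : Ω) * b = (a : Ω) ^ (0 : ZMod (2 ^ m)).val := fun e => by
    rw [ZMod.val_zero, pow_zero, ← pow_two]
    exact congrArg Subtype.val e
  have e1 : b * a * b⁻¹ = a⁻¹ → (b : Ω) * a * (b : Ω)⁻¹ = (a : Ω) ^ ((0 : ZMod (2 ^ m)) - 1).val := fun e => by
    have := zpow_eq_pow_val hx1 (-1)
    rw [zero_sub]
    push_cast at this
    rw [← this, zpow_neg_one]
    exact congrArg Subtype.val e
  rcases h.rel with ⟨r1, r2⟩ | ⟨r1, r2⟩ | ⟨r0, r1, r2⟩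
  · exact ⟨0, 0, MC.nonempty_of_gens h2 (Or.inl rfl) (Or.inl rfl) hx (e1 r2) (e0 r1) hn a.2 b.2 h.card⟩
  · refine ⟨0, _, MC.nonempty_of_gens h2 (Or.inl rfl) (Or.inr rfl) hx (e1 r2) ?_ hn a.2 b.2 h.card⟩
    have := zpow_eq_pow_val hx1 ((2 ^ (m - 1) : ℕ) : ℤ)
    rw [zpow_natCast] at this
    push_cast at this
    rw [two_mul_zq h2, ← this, ← pow_two]
    exact congrArg Subtype.val r1
  · refine ⟨_, 0, MC.nonempty_of_gens h2 (Or.inr ⟨rfl, r0⟩) (Or.inl rfl) hx ?_ (e0 r1) hn a.2 b.2 h.card⟩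
    have := zpow_eq_pow_val hx1 ((2 ^ (m - 1) - 1 : ℕ) : ℤ)
    rw [zpow_natCast, Nat.cast_sub Nat.one_le_two_pow] at this
    push_cast at this
    rw [two_mul_zq h2, ← this]
    exact congrArg Subtype.val r2

variable {e d : ZMod (2 ^ m)} (D : MC S m e d)

theorem elem {i : ZMod (2 ^ m)} (h : e * i + d = 0) : IsElementaryAbelian 2 (D.sub (2 * zq m) i) := by
  have key : ∀ g ∈ D.sub (2 * zq m) i, g ^ 2 = 1 := fun g hg => by
    obtain ⟨r, rfl | rfl⟩ := (D.mem_sub ⟨1, (mul_one _).symm⟩ i g).1 hg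
    · rw [D.a_pow, D.a_eq_one_iff]
      push_cast
      linear_combination r * D.h4
    · rw [pow_two, D.b_mul_self, D.a_eq_one_iff]
      linear_combination h + 2 * r * D.e_q
  exact ⟨⟨⟨Commute.of_orderOf_dvd_two fun g =>
    orderOf_dvd_of_pow_eq_one (Subtype.ext (key g g.2))⟩⟩, key⟩

theorem quat {i : ZMod (2 ^ m)} (h : e * i + d = 2 * zq m) :
    IsExtraspecial 2 (D.sub (zq m) i) ∧ Nonempty (D.sub (zq m) i ≃* QuaternionGroup 2) := by
  have r1 : (⟨D.b i, D.b_mem_sub_self _ _⟩ : D.sub (zq m) i) ^ 2 =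
      (⟨D.a (zq m), D.a_mem_sub_self _ _⟩ : D.sub (zq m) i) ^ 2 ^ (2 - 1) := Subtype.ext (by
    change D.b i ^ 2 = D.a (zq m) ^ 2
    rw [pow_two, D.b_mul_self, D.a_pow, h]
    rfl)
  have r2 : (⟨D.b i, D.b_mem_sub_self _ _⟩ : D.sub (zq m) i) * ⟨D.a (zq m), D.a_mem_sub_self _ _⟩ *
      (⟨D.b i, D.b_mem_sub_self _ _⟩ : D.sub (zq m) i)⁻¹ =
      (⟨D.a (zq m), D.a_mem_sub_self _ _⟩ : D.sub (zq m) i)⁻¹ := Subtype.ext (by
    change D.b i * D.a (zq m) * (D.b i)⁻¹ = (D.a (zq m))⁻¹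
    rw [D.conj_b_a, D.a_inv, D.a_eq_iff]
    linear_combination D.e_q)
  have hq : DQSGen 2 (⟨D.a (zq m), D.a_mem_sub_self _ _⟩ : D.sub (zq m) i) ⟨D.b i, D.b_mem_sub_self _ _⟩ :=
    ⟨le_rfl, D.card_sub_q i, by rw [← orderOf_coe]; exact D.orderOf_a_q,
      fun ⟨j, hj⟩ => D.b_not_mem_zpowers_a (zq m) i ⟨j, congrArg Subtype.val hj⟩, Or.inr (Or.inl ⟨r1, r2⟩)⟩
  exact ⟨isExtraspecial_of_card_eq_cube (D.card_sub_q i) hq.not_isMulCommutative, hq.nonempty_quaternion r1 r2⟩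

end P2x

open P2x in
theorem p2 : P2.{u} := by
  intro Ω _ S _ n hn h4 hmax F _ Γ₁ hΓ
  have hcl := maxCl_of_ne_bot hn (by omega) hmax
  obtain ⟨a, b, h⟩ := exists_dqsGen_of_maxClass hn (by omega) hcl.cl
  have h3 : 3 ≤ n - 1 := by omega
  refine ⟨fun E hE => ?_, Subgroup.ext fun x => ?_⟩
  · obtain ⟨e, d, ⟨D⟩⟩ := exists_mc h
    obtain ⟨i, rfl, -⟩ := D.exists_sp_of_essential hE
    rcases D.sp_cases i with ⟨h1, h2⟩ | ⟨h1, h2⟩
    · rw [h1]
      exact Or.inl ⟨D.card_sub_z i, elem D h2⟩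
    · rw [h1]
      exact Or.inr ⟨D.card_sub_q i, quat D h2⟩
  · rw [hΓ, mem_inf]
    refine and_congr_right fun hx => ?_
    have k1 := two_step h h3 ⟨x, hx⟩
    have k2 := cent_two h h3 ⟨x, hx⟩
    rw [← top_subtype_lowerCentralSeries S 1, ← top_subtype_lowerCentralSeries S 3]
    constructor
    · intro H
      have := k2.2 (k1.1 fun y hy => by
        obtain ⟨z, hz, e⟩ := H y (mem_map_of_mem _ hy)
        rwa [show z = ⟨x, hx⟩ * y * ⟨x, hx⟩⁻¹ * y⁻¹ from Subtype.ext e] at hz)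
      refine mem_centralizer_iff.2 ?_
      rintro _ ⟨y, hy, rfl⟩
      exact congrArg Subtype.val (mem_centralizer_iff.1 this y hy)
    · rintro H _ ⟨y, hy, rfl⟩
      exact ⟨_, k1.2 (k2.1 (mem_centralizer_iff.2 fun z hz =>
        Subtype.ext (mem_centralizer_iff.1 H z (mem_map_of_mem _ hz)))) y hy, rfl⟩

end CL.MX
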