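/-
Project MX, second part: quadratic action.
-/
import Cfsg.Agent.MX.Defs2

set_option autoImplicit false

namespace CL.MX

open Subgroup Cfsg
open scoped commutatorElement

universe u

namespace QDx

theorem exk {p d : ℕ} {τ : Mt p d} (n0 : τ ≠ 0) (r2 : Rs 2 τ) (tJ : τ * Jm p d = Jm p d * τ) :
    ∃ k, 2 ≤ k ∧ k < d ∧ Rs k τ ∧ en τ k 0 ≠ 0 := by
  classical
  have ex : ∃ k, ¬ Rs (k + 1) τ := ⟨d, fun r => n0 (r.eq_zero (by omega))⟩
  have k2 : 2 ≤ Nat.find ex := (Nat.le_find_iff ex 2).2 fun m hm => not_not.2 (r2.mono (by omega))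
  have rk : Rs (Nat.find ex) τ := by
    have := Nat.find_min ex (m := Nat.find ex - 1) (by omega)
    rwa [not_not, show Nat.find ex - 1 + 1 = Nat.find ex by omega] at this
  refine ⟨_, k2, not_le.1 fun l => n0 (rk.eq_zero l), rk, fun z => Nat.find_spec ex fun u v huv => ?_⟩
  by_cases l : u < v + Nat.find ex
  · exact rk u v l
  · obtain rfl : u = v + Nat.find ex := by omega
    by_cases l' : v + Nat.find ex < d
    · rw [LB.toep tJ _ _ l', z]
    · exact en_left _ (not_lt.1 l') _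

theorem top {G : Type u} [Group G] [Finite G] {p n m : ℕ} [Fact p.Prime] {S : Subgroup G} {Γ : ℕ → Subgroup G}
    (h : Cs p n S Γ) (hS : ∀ g, g ∈ S) (hm : 1 ≤ m) {y u : G} (hy : y ∈ Γ (m + 1)) (hu : u ∈ Γ 1)
    (hc : u ∈ centralizer (Γ (m + 1 + 1) : Set G)) (hp : u ^ p = 1) : Commute y ⁅y, u⁆ := by
  have nΓ : ∀ i, (Γ i).Normal := fun i => ⟨fun a ha g => h.conj ha (hS g)⟩
  by_cases yC : y ∈ centralizer (Γ (m + 1 + 1) : Set G)
  · exact (yC _ (h.comm hy (hS u))).symm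
  have hn : m + 1 + 1 < n := not_le.1 fun l => yC fun x hx => by
    rw [h.bot _ l, SetLike.mem_coe, mem_bot] at hx
    rw [hx, one_mul, mul_one]
  obtain ⟨s, hs⟩ := A.ex_un h (by omega)
  have ev : ∀ B : Subgroup G, B.Normal → B ≤ Γ 1 → ∃ j, 1 ≤ j ∧ j ≤ n ∧ B = Γ j := fun B hB l =>
    h.eq_of_le hs (A.cmem (by rw [normalizer_eq_top]; trivial)) l (by omega)
  obtain ⟨c, -, cn, eA⟩ := ev (centralizer (Γ (m + 1 + 1) : Set G) ⊓ Γ 1) inferInstance inf_le_right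
  have hc1 : m + 1 + 1 ≤ c := not_lt.1 fun l => yC (eA.ge (h.anti (by omega) hy)).1
  obtain ⟨i, -, ni, eV⟩ := ev (oz p (Γ c)) inferInstance fun x hx => h.anti (by omega) hx.1
  have ci : c ≤ i := not_lt.1 fun l => by
    obtain ⟨x, x1, x2⟩ := h.ex (j := i) (by omega)
    exact x2 (h.anti l (eV.ge x1).1)
  obtain ⟨d, hd⟩ := Nat.exists_eq_add_of_le ni
  have dp : d < p := not_le.1 fun l => by
    have := (Fact.out : p.Prime).pos
    obtain ⟨x, x1, x2⟩ := h.ex (j := i) (by omega)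
    exact h.pw i (by omega) (by omega) x x1 x2 ((eV.ge x1).2.2 ▸ one_mem _)
  obtain ⟨Φ, ρ, r, -, ρs, rP⟩ := h.coord (x := i) (by omega) hd.symm
    (fun a ha b hb => (eV.ge hb).2.1 a (eV.ge ha).1) (fun a ha => (eV.ge ha).2.2) hs.1 hs.2.1
  have k1 : ∀ e ∈ Γ (m + 1 + 1), ρ e = 1 := fun e he => r.eq_one_iff.2 fun x hx => ((eA.ge (eV.ge hx).1).1 e he).symm
  obtain ⟨t', t1, t2⟩ := h.ex (j := m) (by omega)
  have t3 : ⁅t', s⁆ ∈ Γ (m + 1) := h.comm t1 hs.1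
  have tc : ∀ g, ρ ⁅t', s⁆ * ρ g = ρ g * ρ ⁅t', s⁆ := fun g => by
    rw [← map_mul, ← map_mul, ← one_mul (ρ (g * _)), ← k1 _ (h.comm t3 (hS g)), ← map_mul, commutatorElement_def _ g]
    congr 1; group
  have sq : (ρ ⁅t', s⁆ - 1) ^ 2 = 0 := by_contra fun n0 => by
    have tJ : (ρ ⁅t', s⁆ - 1) * Jm p d = Jm p d * (ρ ⁅t', s⁆ - 1) := by
      have := tc s
      rw [ρs] at this
      linear_combination (norm := noncomm_ring) this
    obtain ⟨k, k2, kd, rt, c0⟩ := exk (fun e => n0 (by rw [e, zero_pow two_ne_zero])) (rP _ (h.anti (by omega) t3)) tJ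
    refine n0 ((rt.pow 2).eq_zero ?_)
    have := (LB.big_aux dp k2 kd rt tJ c0 (rP t' (h.anti hm t1)) ?_ ?_).2
    · omega
    · have := tc t'
      linear_combination (norm := noncomm_ring) -this
    · have : ρ t' * ρ s = ρ ⁅t', s⁆ * (ρ s * ρ t') := by
        rw [← map_mul, ← map_mul, ← map_mul, commutatorElement_def]
        congr 1; group
      rw [ρs] at this
      linear_combination (norm := noncomm_ring) this
  obtain ⟨a, ha⟩ := h.dec t3 (h.sun m hm (by omega) t' t1 t2 s hs.1 hs.2.1) hy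
  have e : ρ y - 1 = (a.val : ZMod p) • (ρ ⁅t', s⁆ - 1) := by
    rw [← mul_inv_cancel_left (⁅t', s⁆ ^ a.val) y, map_mul, k1 _ ha, mul_one, map_pow, Q.pow_eq sq, add_sub_cancel_left]
  obtain ⟨v, rfl⟩ := r.sur u (eV.le ⟨eA.le ⟨hc, hu⟩, centralizer_le (h.anti hc1) hc, hp⟩)
  rw [← commutatorElement_eq_one_iff_commute, ← r.comm, ← r.comm, Matrix.mulVec_mulVec, ← pow_two, e, smul_pow, sq,
    smul_zero, Matrix.zero_mulVec, r.ad.zero]

end QDx

theorem quad : Quad.{u} := by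
  intro G _ _ p n j _ S Γ h hj y hy u hu hc hp
  obtain ⟨m, rfl⟩ : ∃ m, j = m + 1 := ⟨j - 1, by omega⟩
  exact congrArg Subtype.val (QDx.top (h.subgroupOf le_rfl) (fun g => g.2) (by omega) (y := ⟨y, h.le _ hy⟩)
    (u := ⟨u, h.le _ hu⟩) hy hu (fun x hx => Subtype.ext (hc x hx)) (Subtype.ext hp)).eq

end CL.MX
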