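/-
Project MX, second part: passing to the quotient by the largest member of the chain that is normal in both groups.
-/
import Cfsg.Agent.MX.Defs2

set_option autoImplicit false

namespace CL.MX

open Subgroup Cfsg Cfsg.FusionSystem CL.Fus
open scoped commutatorElement

universe u

namespace Quox

variable {G G' : Type u} [Group G] [Group G'] {f : G →* G'} {A : Subgroup G} {x : G}

theorem mem_map' (h : f.ker ≤ A) : f x ∈ A.map f ↔ x ∈ A := by
  rw [← mem_comap, comap_map_eq, sup_eq_left.2 h]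

theorem norm_iff (hf : Function.Surjective f) (h : f.ker ≤ A) :
    f x ∈ normalizer (A.map f : Set G') ↔ x ∈ normalizer (A : Set G) := by
  simp only [mem_normalizer_iff, hf.forall, ← map_inv, ← map_mul, mem_map' h]

theorem normal_of (h : f.ker ≤ A) (k : (A.map f).Normal) : A.Normal :=
  ⟨fun a ha g => (mem_map' h).1 (by simpa only [map_mul, map_inv] using k.conj_mem _ (mem_map_of_mem f ha) (f g))⟩

theorem quot [Finite G] {p : ℕ} [Fact p.Prime] {E N : Subgroup G} (h : Loc p E N) (hf : Function.Surjective f)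
    (k : f.ker ≤ E) (c : ∀ g : G, (orderOf g).Coprime p → g ∈ centralizer (f.ker : Set G)) :
    Loc p (E.map f) (N.map f) := by
  have kN := k.trans h.le
  have nE := h.nrm.map f hf
  refine ⟨h.pg.map f, fun d => h.syl (d.trans (N.index_map_dvd hf)), map_mono h.le, nE, fun y hy => ?_,
    ⟨le_normalizer, fun e => ?_, ?_⟩, ?_⟩
  · obtain ⟨g, rfl⟩ := hf y
    refine mem_map_of_mem f (h.core (K := (centralizer (E.map f : Set G')).comap f)
      (A.pg_of (h.pg_stb f.ker ⊥) fun g hg l => (mem_stb bot_le).2 ⟨fun e he => ?_, fun v hv => ?_, fun d hd => ?_⟩) hy)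
    · rw [MonoidHom.mem_ker, map_commutatorElement, commutatorElement_eq_one_iff_mul_comm]
      exact hg _ (mem_map_of_mem f he)
    · exact commutatorElement_eq_one_iff_mul_comm.2 (c g l v hv)
    · rw [mem_bot.1 hd, commutatorElement_one_left]
  · obtain ⟨g, hg⟩ := h.exists_not
    exact hg ((norm_iff hf kN).1 (e ▸ mem_top _))
  · rintro _ ⟨x, hx, rfl⟩ hx' g l
    obtain ⟨g, rfl⟩ := hf g
    rw [← map_inv, ← map_mul, ← map_mul, norm_iff hf kN] at l
    exact (norm_iff hf kN).2 (h.se.cj x hx (fun e => hx' (mem_map_of_mem f e)) g l)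
  · rw [coe_map, ← map_normalClosure _ _ hf, h.gen, map_top_of_surjective f hf]

end Quox

open Quox in
theorem gt1 (h0 : GT0.{u}) : GT1.{u} := by
  intro X L _ _ _ _ p n _ S E N Γ ι h p3 hc un
  classical
  have pn : Γ n ≤ E ∧ (Γ n).Normal ∧ (img ι (Γ n)).Normal := by
    rw [h.ch.bot n le_rfl, img_bot h.hom.map_one]
    exact ⟨bot_le, inferInstance, inferInstance⟩
  have ex : ∃ r, Γ r ≤ E ∧ (Γ r).Normal ∧ (img ι (Γ r)).Normal := ⟨n, pn⟩
  obtain ⟨r1, r2, r3⟩ := Nat.find_spec ex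
  have rn : Nat.find ex ≤ n := Nat.find_min' ex pn
  have rc : Nat.find ex < n ∨ Cs p n S Γ := hc.symm.imp_left fun k => by
    have := Nat.find_min' ex (m := n - 1) ⟨h.last_le, k⟩
    have := h.three_le
    omega
  have mn := fun r => Nat.find_min ex (m := r)
  generalize Nat.find ex = r at *
  let π := QuotientGroup.mk' (Γ r)
  let π' := QuotientGroup.mk' (img ι (Γ r))
  have sπ : Function.Surjective π := QuotientGroup.mk'_surjective _
  have sπ' : Function.Surjective π' := QuotientGroup.mk'_surjective _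
  have kπ : π.ker = Γ r := QuotientGroup.ker_mk' _
  have kπ' : π'.ker = img ι (Γ r) := QuotientGroup.ker_mk' _
  have rN := r1.trans h.le
  have ki : ∀ x ∈ N, π' (ι x) = 1 ↔ π x = 1 := fun x hx => by
    rw [← MonoidHom.mem_ker, ← MonoidHom.mem_ker, kπ, kπ', h.mem_iff rN hx]
  obtain ⟨ι', e⟩ := exists_induced_fun (P := N) (t := π) (u := fun x => π' (ι x)) (fun x _ y _ => map_mul π x y)
    (fun x hx y hy => (congrArg π' (h.hom x hx y hy)).trans (map_mul π' _ _)) fun x hx => (ki x hx).2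
  have im : ∀ A ≤ N, img ι' (A.map π) = (img ι A).map π' := fun A hA => le_antisymm
    (img_le_iff.2 (by rintro _ ⟨x, hx, rfl⟩; exact e x (hA hx) ▸ mem_map_of_mem π' (mem_img_of_mem ι hx))) (by
      rintro _ ⟨y, hy, rfl⟩
      obtain ⟨x, hx, rfl⟩ := h.ex hA hy
      exact e x (hA hx) ▸ mem_img_of_mem ι' (mem_map_of_mem π hx))
  have kS : S ⊓ π.ker = Γ r := by rw [kπ, inf_eq_right.2 (h.ch.le r)]
  have cs : Cs p r (S.map π) fun j => (Γ j).map π := rc.elim (h.ch.map_cs π kS) fun c => c.map π kS rn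
  refine h0 _ _ p r (S.map π) (E.map π) (N.map π) (fun j => (Γ j).map π) ι'
    ⟨cs.toCh, fun d => h.syl (d.trans (S.index_map_dvd sπ)), h.nrm.map π sπ, map_mono h.le, map_mono h.n1, ?_, ?_, ?_,
      ?_, fun g hg => ?_⟩ cs p3 fun j hj k1 k2 k3 => ?_
  · rintro _ ⟨x, hx, rfl⟩ k
    exact mem_map_of_mem π (h.nN x hx ((norm_iff sπ (kπ.le.trans r1)).1 k))
  · rintro _ ⟨x, hx, rfl⟩ _ ⟨y, hy, rfl⟩
    rw [← map_mul, e _ (mul_mem hx hy), e x hx, e y hy, h.hom x hx y hy, map_mul]
  · rintro _ ⟨x, hx, rfl⟩ _ ⟨y, hy, rfl⟩ k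
    rw [e x hx, e y hy] at k
    have := (ki _ (mul_mem (inv_mem hx) hy)).1 (by
      rw [h.hom.map_mul (inv_mem hx) hy, h.hom.map_inv hx, map_mul, map_inv, k, inv_mul_cancel])
    rwa [map_mul, map_inv, inv_mul_eq_one] at this
  · rw [im E h.le, im N le_rfl]
    exact quot h.loc sπ' (kπ'.le.trans (img_mono ι r1)) (by rw [kπ']; exact un r r1 r3)
  · obtain ⟨g, rfl⟩ := sπ' g
    rw [im N le_rfl, norm_iff sπ' (kπ'.le.trans (img_mono ι rN))] at hg
    obtain ⟨k, hk⟩ := h.ext g hg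
    refine ⟨π k, ?_⟩
    rintro _ ⟨x, hx, rfl⟩
    rw [← map_inv, ← map_mul, ← map_mul, e _ (hk x hx).1, (hk x hx).2, e x hx, map_mul π', map_mul π', map_inv π']
    exact ⟨mem_map_of_mem π (hk x hx).1, rfl⟩
  · have l : Γ j ≤ E := fun x hx => (mem_map' (kπ.le.trans r1)).1 (k1 (mem_map_of_mem π hx))
    have a : Γ r ≤ Γ j := h.ch.anti hj.le
    exact mn j hj ⟨l, normal_of (kπ.le.trans a) k2,
      normal_of (kπ'.le.trans (img_mono ι a)) (im _ (l.trans h.le) ▸ k3)⟩

end CL.MX
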