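/-
Project MX, second part: chief factors in coordinates.
-/
import Cfsg.Agent.MX.Defs2

set_option autoImplicit false

namespace CL.MX

open Subgroup Cfsg
open scoped commutatorElement

universe u

namespace Secx

theorem core {G : Type u} [Group G] [Finite G] {p m x w : ℕ} [Fact p.Prime] {S : Subgroup G} {Γ : ℕ → Subgroup G} {s : G}
    (h : Cs p m S Γ) (hx : 1 ≤ x) (hm : x + w = m) (hw : x < m) [(Γ 1).Normal] [nx : (Γ x).Normal]
    (no : ∀ z, x < z → z < m → ¬ (Γ z).Normal) (sS : s ∈ S) (sP : s ∉ Γ 1) :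
    ⁅Γ x, Γ 1⁆ = ⊥ ∧ ∃ (Φ : (Fin w → ZMod p) → G) (ρ : G →* Mt p w), Crd (Γ x) Φ ρ ∧
      (∀ z c, Φ c ∈ Γ (x + z) ↔ c ∈ Fl p w z) ∧ ρ s = 1 + Jm p w := by
  have key : ∀ A : Subgroup G, A.Normal → A ≤ Γ (x + 1) → A = ⊥ := fun A hA le => by
    obtain ⟨j, -, j2, e⟩ := h.toCh.eq_of_le (A := A) (h.un' sS sP) (fun a ha => by
      simpa [commutatorElement_def, mul_assoc] using A.mul_mem ha (hA.conj_mem _ (A.inv_mem ha) s))
      (le.trans (h.anti (by omega))) (by omega)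
    by_cases k : j < m
    · refine absurd (e ▸ hA) (no j (by_contra fun l => ?_) k)
      obtain ⟨y, hy, hy'⟩ := h.toCh.ex hw
      exact hy' (le (e ▸ h.anti (by omega) hy))
    · rw [e, h.bot j (by omega)]
  have c := key ⁅Γ x, Γ 1⁆ inferInstance (h.cc0 x 1)
  have hc : ∀ a ∈ Γ x, ∀ b ∈ Γ x, a * b = b * a := fun a ha b hb =>
    commutatorElement_eq_one_iff_mul_comm.1 (mem_bot.1 (c ▸ commutator_mem_commutator ha (h.anti hx hb)))
  have hn : (normalClosure ((fun v => v ^ p) '' (Γ x : Set G))) = ⊥ := by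
    refine key _ inferInstance ((closure_le _).2 fun y hy => ?_)
    obtain ⟨_, ⟨v, hv, rfl⟩, e⟩ := Group.mem_conjugatesOfSet_iff.1 hy
    obtain ⟨g, rfl⟩ := isConj_iff.1 e
    rw [← conj_pow]
    exact h.toCh.pow_mem (nx.conj_mem v hv g)
  obtain ⟨Φ, ρ, r, fl, e, -⟩ := h.coord hx hm hc
    (fun a ha => mem_bot.1 (hn ▸ subset_normalClosure ⟨a, ha, rfl⟩)) sS sP
  exact ⟨c, Φ, ρ, r, fl, e⟩

end Secx

theorem secThm (wt : WT.{u}) : SecThm.{u} := by
  intro G _ _ p n x w l hp S H Γ s a h syl SH nP sS sP hx wp hn cs nn ha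
  classical
  have lH : ∀ j, Γ j ≤ H := fun j => (h.le j).trans SH
  have nK : ((Γ (x + w)).subgroupOf H).Normal := (normal_subgroupOf_iff_le_normalizer (lH _)).2 nn.ny
  let π := QuotientGroup.mk' ((Γ (x + w)).subgroupOf H)
  have πs : Function.Surjective π := QuotientGroup.mk'_surjective _
  have ker : ∀ y : H, π y = 1 ↔ (y : G) ∈ Γ (x + w) := fun y => QuotientGroup.eq_one_iff y
  have hk : S.subgroupOf H ⊓ π.ker = (Γ (x + w)).subgroupOf H := by
    rw [QuotientGroup.ker_mk']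
    exact inf_eq_right.2 (comap_mono (h.le _))
  have c : Cs p (x + w) ((S.subgroupOf H).map π) fun j => ((Γ j).subgroupOf H).map π :=
    cs.elim (fun k => (h.subgroupOf SH).map_cs π hk k) fun k => (k.subgroupOf SH).map π hk hn
  have mm : ∀ j ≤ x + w, ∀ y : H, π y ∈ ((Γ j).subgroupOf H).map π ↔ (y : G) ∈ Γ j := fun j hj y => by
    refine ⟨fun ⟨z, hz, e⟩ => ?_, fun k => mem_map_of_mem π k⟩
    have : ((z⁻¹ * y : H) : G) ∈ Γ (x + w) := (ker _).1 (by rw [map_mul, map_inv, e, inv_mul_cancel])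
    exact (mul_mem_cancel_left (inv_mem hz)).1 (h.anti hj this)
  have n1 : ∀ j, H ≤ normalizer (Γ j : Set G) → (((Γ j).subgroupOf H).map π).Normal := fun j k =>
    ((normal_subgroupOf_iff_le_normalizer (lH j)).2 k).map π πs
  have n2 : ∀ j ≤ x + w, (((Γ j).subgroupOf H).map π).Normal → H ≤ normalizer (Γ j : Set G) := fun j hj k =>
    (normal_subgroupOf_iff_le_normalizer (lH j)).1 ⟨fun y hy g => (mm j hj (g * y * g⁻¹)).1 (by
      rw [map_mul, map_mul, map_inv]; exact k.conj_mem _ ((mm j hj _).2 hy) _)⟩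
  have := n1 1 nP
  have := n1 x nn.nx
  obtain ⟨c0, Φ, ρ, r, fl, e⟩ := Secx.core (s := π ⟨s, SH sS⟩) c hx rfl nn.lt
    (fun z a b k => nn.no z a b (n2 z b.le k)) (mem_map_of_mem π sS) fun k => sP ((mm 1 (by omega) _).1 k)
  let β : G → Mt p w := fun g => if k : g ∈ H then ρ (π ⟨g, k⟩) else 1
  have hβ : ∀ g (k : g ∈ H), β g = ρ (π ⟨g, k⟩) := fun g k => dif_pos k
  refine ⟨β, ⟨wp, h.le 1, SH, nP, fun k => syl (k.trans (relIndex_dvd_index_of_le SH)), sS,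
    h.pow_mem (j := 0) (h.zero ▸ sS), fun y hy => ?_, ?_, fun g hg k hk => ?_, (hβ s _).trans e, fun y hy => ?_,
    fun k hk hk' => ⟨rs_of_st fun z => ?_, (ha k hk hk').1, fun u hu => ?_⟩, fun y y0 yw => ?_⟩,
    commutator_le.2 fun g hg k hk => ?_, fun hn => ?_⟩
  · obtain ⟨d, hd⟩ := h.dec (j := 0) (h.zero ▸ sS) sP (h.zero ▸ hy)
    exact ⟨d.val, d.val_lt, hd⟩
  · rw [hβ 1 (one_mem _)]
    exact (congrArg ρ π.map_one).trans ρ.map_one
  · rw [hβ _ (mul_mem hg hk), hβ g hg, hβ k hk, ← map_mul, ← map_mul]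
    rfl
  · rw [hβ y (lH 1 hy), r.eq_one_iff]
    exact le_centralizer_iff.1 (commutator_eq_bot_iff_le_centralizer.1 c0) (mem_map_of_mem π hy)
  · rw [hβ k hk, Crd.st_iff (Γ := fun j => ((Γ j).subgroupOf H).map π) r c.anti fl]
    rintro _ ⟨v, hv, rfl⟩
    rw [← map_inv, ← map_mul, ← map_mul]
    exact mem_map_of_mem π ((mem_normalizer_iff.1 ((wt.conj G p n S Γ k h hk' (nP hk)).2 (x + z)) v).1 hv)
  · rw [hβ k hk, show x + l + u = x + u + l by omega]
    refine Crd.diag (Γ := fun j => ((Γ j).subgroupOf H).map π) r fl hu ?_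
    rintro _ ⟨v, hv, rfl⟩
    rw [cj, ← map_inv π, ← map_mul, ← map_mul, ← map_pow, ← map_inv, ← map_mul]
    exact mem_map_of_mem π ((ha k hk hk').2 (x + u) (by omega) (by omega) v hv)
  · by_contra! k
    refine nn.no (x + y) (by omega) (by omega) (n2 _ (by omega) ⟨fun v hv g => ?_⟩)
    obtain ⟨g, rfl⟩ := πs g
    exact (Crd.st_iff (Γ := fun j => ((Γ j).subgroupOf H).map π) r c.anti fl).1 (hβ g g.2 ▸ k g g.2) v hv
  · refine (ker ⁅(⟨g, lH x hg⟩ : H), ⟨k, lH 1 hk⟩⁆).1 (mem_bot.1 ?_)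
    rw [map_commutatorElement, ← c0]
    exact commutator_mem_commutator (mem_map_of_mem π hg) (mem_map_of_mem π hk)
  · have inj : Function.Injective π := (injective_iff_map_eq_one π).2 fun y hy =>
      Subtype.ext (mem_bot.1 (h.bot (x + w) hn.ge ▸ (ker y).1 hy))
    choose σ hσ using πs
    refine ⟨fun d => σ (Φ d), ⟨fun d d' => ?_, fun d d' k => r.inj ?_, fun d => (mm x (by omega) _).1 ?_, fun g hg => ?_⟩,
      fun k hk d => ?_⟩
    · exact congrArg Subtype.val (inj (a₂ := σ (Φ d) * σ (Φ d')) (by rw [map_mul, hσ, hσ, hσ, r.ad]))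
    · rw [← hσ (Φ d), ← hσ (Φ d'), Subtype.ext k]
    · rw [hσ]
      exact r.mem d
    · obtain ⟨d, hd⟩ := r.sur (π ⟨g, lH x hg⟩) (mem_map_of_mem π hg)
      exact ⟨d, congrArg Subtype.val (inj (a₂ := ⟨g, lH x hg⟩) (by rw [hσ, hd]))⟩
    · have : σ (Φ ((β k).mulVec d)) = ⟨k, hk⟩ * σ (Φ d) * ⟨k, hk⟩⁻¹ :=
        inj (by rw [map_mul π, map_mul π, map_inv π, hβ k hk, hσ, r.act, hσ])
      exact congrArg Subtype.val this

end CL.MX
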