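/-
Project MX, second part: the action on a normal member of the chain, group form.
-/
import Cfsg.Agent.MX.Defs2

set_option autoImplicit false

namespace CL.MX

open Subgroup Cfsg CL.Grp
open scoped commutatorElement

universe u

namespace Unix

variable {G : Type u} [Group G] {p n m : ℕ} {S : Subgroup G} {Γ : ℕ → Subgroup G}

theorem normal_of_center {F : Subgroup G} (h : F ≤ center G) : F.Normal :=
  ⟨fun x hx g => by rwa [mem_center_iff.1 (h hx) g, mul_inv_cancel_right]⟩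

variable [Finite G] [hp : Fact p.Prime]

theorem cent_quot (hc : centralizer (pCore p G : Set G) ≤ pCore p G) (F : Subgroup G) [F.Normal]
    (hF : IsPGroup p F) (hZ : F ≤ center G) : centralizer (pCore p (G ⧸ F) : Set (G ⧸ F)) ≤ pCore p (G ⧸ F) := by
  have h1 := map_pCore_quotient hF
  have h2 : (centralizer (pCore p (G ⧸ F) : Set (G ⧸ F))).comap (QuotientGroup.mk' F) ≤ pCore p G := by
    refine B.le_core fun g hg c => hc (CL.Loc.mem_cent_of_stab_chain (pCore_isPGroup p G)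
      (by rw [normalizer_eq_top]; trivial) c (fun i => if i = 0 then ⊥ else if i = 1 then F else ⊤) rfl (n := 2) le_top
      fun i a a1 a2 => ?_)
    rcases i with _ | _ | i
    · exact commutatorElement_eq_one_iff_mul_comm.2 (mem_center_iff.1 (hZ a2) g).symm
    · exact (QuotientGroup.eq_one_iff (N := F) _).1 ((map_commutatorElement (QuotientGroup.mk' F) a g).trans
        (commutatorElement_eq_one_iff_mul_comm.2 (hg _ (h1 ▸ mem_map_of_mem _ a1))))
    · rw [if_neg (by omega), if_neg (by omega)]; trivial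
  rw [← map_comap_eq_self_of_surjective (QuotientGroup.mk'_surjective F) (centralizer _)]
  exact (map_mono h2).trans h1.le

theorem not_le (h : Ch p n S Γ) (hi : ¬ p ∣ S.index) (hc : centralizer (pCore p G : Set G) ≤ pCore p G) (h1 : 1 ≤ m)
    (hm : m ≤ n) (k : m < n ∨ Cs p n S Γ) (hZ : Γ m ≤ center G) : ¬ pCore p G ≤ Γ 2 := fun hle => by
  have := normal_of_center hZ
  have pF : IsPGroup p (Γ m) := h.pg.to_le (h.le m)
  have hk : S ⊓ (QuotientGroup.mk' (Γ m)).ker = Γ m := by rw [QuotientGroup.ker_mk', inf_eq_right.2 (h.le m)]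
  refine thmA' _ p m _ _ (k.elim (h.map_cs _ hk) fun c => c.map _ hk hm)
    (fun l => hi (l.trans (index_map_dvd S (QuotientGroup.mk'_surjective _)))) h1 (cent_quot hc _ pF hZ) ?_
  rw [← map_pCore_quotient pF]
  exact map_mono hle

theorem normal (h : Ch p n S Γ) (hi : ¬ p ∣ S.index) (h4 : 4 ≤ m) (hm : m ≤ n) (hn : n ≤ m + 1)
    (k : m < n ∨ Cs p n S Γ) (hZ : Γ m ≤ center G) (a1 : ¬ pCore p G ≤ Γ 2) (a0 : ¬ Γ 1 ≤ pCore p G) (u : ℕ) :
    (Γ (u + 3)).Normal := by
  have hS := B.core_le h hi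
  obtain ⟨s, us⟩ := h.exists_un (by omega)
  have l0 : ∀ y ∈ pCore p G, y ∈ Γ 1 → y ∈ Γ 2 := fun y y1 y2 => by_contra fun y3 =>
    a0 (h.le_of_level us (fun a ha => B.comm_mem ha s) le_rfl y1 y2 y3)
  obtain ⟨z, z1, z3⟩ := SetLike.not_le_iff_exists.1 a1
  have z2 : z ∉ Γ 1 := fun e => z3 (l0 z z1 e)
  obtain ⟨x, x1, x2⟩ := h.ex (j := 1) (by omega)
  have a2 : Γ 2 ≤ pCore p G := h.le_of_level us (fun a ha => B.comm_mem ha s) one_le_two
    (comm_symm_mem (B.comm_mem z1 x)) (h.comm x1 (hS z1)) (h.un 1 le_rfl (by omega) x x1 x2 z (hS z1) z2)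
  have e : pCore p G ≤ Γ 2 ⊔ zpowers z := fun y hy => by
    obtain ⟨c, hc⟩ := h.dec (j := 0) (h.zero ▸ hS z1) z2 (h.zero ▸ hS hy)
    rw [← mul_inv_cancel_left (z ^ c.val) y]
    exact mul_mem (mem_sup_right (pow_mem (mem_zpowers z) _))
      (mem_sup_left (l0 _ (mul_mem (inv_mem (pow_mem z1 _)) hy) hc))
  have b1 : ∀ j, 1 ≤ j → (j + 3 ≤ n ∨ Cs p n S Γ ∧ j + 2 ≤ n) → ∀ (A : Subgroup G) [A.Normal], Γ j ≤ A →
      Γ (j + 1) ≤ ⁅A, pCore p G⁆ := fun j hj l A _ hA => by
    obtain ⟨x, x1, x2⟩ := h.ex (j := j) (by omega)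
    exact h.le_of_level us (fun a ha => B.comm_mem ha s) (by omega) (commutator_mem_commutator (hA x1) z1)
      (h.comm x1 (hS z1)) (l.elim (fun l => h.un j hj l x x1 x2 z (hS z1) z2)
        fun l => l.1.sun j hj l.2 x x1 x2 z (hS z1) z2)
  have b2 : ⁅pCore p G, pCore p G⁆ = Γ 3 := by
    refine le_antisymm (commutator_le.2 fun x hx y hy => ?_)
      (b1 2 one_le_two (k.imp (fun _ => by omega) fun c => ⟨c, by omega⟩) _ a2)
    have k : ∀ A ≤ S, (∀ a ∈ A, ⁅a, z⁆ ∈ Γ 3) → pCore p G ≤ B.Sb A (Γ 3) := fun A hA k => e.trans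
      (sup_le (fun y hy => ⟨h.norm 3 (h.le 2 hy), fun a ha => comm_symm_mem (h.comm hy (hA ha))⟩)
        (zpowers_le.2 ⟨h.norm 3 (hS z1), k⟩))
    refine (k _ hS (fun a ha => comm_symm_mem ((k (zpowers z) (zpowers_le.2 (hS z1)) ?_ ha).2 z (mem_zpowers z))) hy).2 x hx
    rintro _ ⟨i, rfl⟩
    rw [commutatorElement_eq_one_iff_commute.2 ((Commute.refl z).zpow_left i)]
    exact one_mem _
  induction u with
  | zero => exact b2 ▸ inferInstance
  | succ u ih =>
    by_cases l : u + 3 + 3 ≤ n ∨ Cs p n S Γ ∧ u + 3 + 2 ≤ n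
    · rw [show Γ (u + 1 + 3) = ⁅Γ (u + 3), pCore p G⁆ from le_antisymm (b1 _ (by omega) l _ le_rfl)
        ((commutator_mono le_rfl hS).trans (h.cm _ (by omega)).le)]
      infer_instance
    by_cases l' : n ≤ u + 1 + 3
    · rw [h.bot _ l']; infer_instance
    have : m < n := k.resolve_right fun c => l (.inr ⟨c, by omega⟩)
    obtain rfl : m = u + 1 + 3 := by omega
    exact normal_of_center hZ

end Unix

open Unix in
theorem uniG : UniG.{u} := by
  intro G _ _ p n m r hp S Γ h hi hc r3 rm mn nm k hZ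
  rcases rm.eq_or_lt with rfl | rm
  · exact ⟨⊤, inferInstance, le_top, fun g _ _ x hx => (mem_center_iff.1 (hZ hx) g).symm⟩
  by_cases a0 : Γ 1 ≤ pCore p G
  · exact ⟨_, inferInstance, a0, fun g hg c => eq_one_of_coprime_of_mem (pCore_isPGroup p G) hg c ▸ one_mem _⟩
  have nr : ∀ j, (Γ (r + j)).Normal := fun j => by
    rw [show r + j = r + j - 3 + 3 by omega]
    exact normal h hi (by omega) mn nm k hZ (not_le h hi hc (by omega) mn k hZ) a0 _
  have b5 : ∀ j, (B.Sb (Γ (r + j)) (Γ (r + (j + 1)))).Normal := fun j => B.sb_normal _ _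
  refine ⟨_, normal_iInf_normal b5, le_iInf fun j g hg => ⟨h.norm _ (h.le 1 hg), fun x hx => h.comm hx (h.le 1 hg)⟩,
    fun g hg c => ?_⟩
  have : (Γ r).Normal := nr 0
  refine CL.Loc.mem_cent_of_stab_chain (h.pg.to_le (h.le r)) (by rw [normalizer_eq_top]; trivial) c
    (fun i => Γ (n - i)) (h.bot _ le_rfl) (n := n) (h.anti (by omega)) fun i a a1 a2 => ?_
  by_cases l : r ≤ n - (i + 1)
  · exact h.anti (by omega) ((mem_iInf.1 hg (n - (i + 1) - r)).2 a (h.anti (by omega) a2))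
  · exact h.anti (by omega) ((mem_iInf.1 hg 0).2 a a1)

end CL.MX
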