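/-
Project MX, second part: essential subgroups of order `p ^ 3` or `p ^ 4` outside `γ₁(S)` in an exceptional group.
-/
import Cfsg.Agent.MX.Defs2
import Cfsg.Agent.Fus.EssCube

set_option autoImplicit false

namespace CL.MX

open Subgroup Cfsg Cfsg.FusionSystem CL.Fus
open scoped commutatorElement

universe u

theorem x1F (h1 : X1G.{u}) (h2 : LocF.{u}) (h3 : Chn.{u}) (h4 : SLm.{u}) (h5 : WT.{u}) : X1F.{u} := by
  intro Ω _ S E _ p n j hp F Γ m hF h n4 ex hE mE m1 eE cas big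
  have n6 := (h4.exc Ω p n S Γ h n4 ex).2.1
  obtain ⟨k, rfl⟩ : ∃ k, j = k + 1 := ⟨j - 1, by omega⟩
  have hk : k + 4 = n ∨ k + 3 = n := cas.imp And.left And.left
  have ES := IsEssential.le hE
  have mS := ES mE
  have := finite_of_le ES
  have EN : E ≤ normalizerIn S E := le_normalizerIn ES
  have NS := normalizerIn_le S E
  have ΓE : Γ (k + 1) ≤ E := eE ▸ inf_le_left
  have ZE : Γ (n - 1) ≤ E := (h.anti (by omega)).trans ΓE
  have dec : ∀ x ∈ S, ∃ c : ZMod p, (m ^ c.val)⁻¹ * x ∈ Γ 1 := fun x hx => h.dec (h.zero ▸ mS) m1 (h.zero ▸ hx)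
  have cj : ∀ a b : Ω, a * b * a⁻¹ = ⁅a, b⁆ * b := fun a b => by group
  have ΓN : Γ k ≤ normalizerIn S E := fun y hy => mem_normalizerIn.2 ⟨h.le _ hy,
    mem_normalizer_of_finite fun e he => cj y e ▸ mul_mem (ΓE (h.comm hy (ES he))) he⟩
  have eN : normalizerIn S E ⊓ Γ 1 = Γ k := le_antisymm (fun x hx => by_contra fun c => by
    obtain ⟨i, i1, i2, i3, i4⟩ := h.level hx.2 c
    exact h.un i i1 (by omega) x i3 i4 m mS m1 (h.anti (by omega) (eE.le (mem_inf.2 ⟨E.mul_mem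
      (conj_mem_of_mem_normalizer (mem_normalizerIn.1 hx.1).2 mE) (E.inv_mem mE),
      h.anti (by omega) (h.comm hx.2 mS)⟩))))
    (le_inf ΓN (h.anti (by omega)))
  obtain ⟨L, _, _, ι, ι1, ι2, loc, ext⟩ := h2 Ω S E p F h.pg hF hE fun Q f hQ hQN hf hfE => by
    obtain ⟨q, hq, hq'⟩ := SetLike.exists_of_lt hQ
    obtain ⟨c, hc⟩ := dec q (NS (hQN hq))
    have a1 := mul_mem (inv_mem (pow_mem (hQ.le mE) c.val)) hq
    have a2 : Γ k ≤ Q := h.sup (eN.le ⟨hQN a1, hc⟩) (fun e => hq' ((mul_mem_cancel_left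
      (inv_mem (pow_mem mE c.val))).1 (ΓE e))) ▸ sup_le (ΓE.trans hQ.le) (zpowers_le.2 a1)
    obtain rfl : Q = normalizerIn S E := le_antisymm hQN fun y hy => by
      obtain ⟨d, hd⟩ := dec y (NS hy)
      exact (mul_mem_cancel_left (inv_mem (pow_mem (hQ.le mE) d.val))).1
        (a2 (eN.le (mem_inf.2 ⟨Subgroup.mul_mem _ (Subgroup.inv_mem _ (pow_mem (EN mE) d.val)) hy, hd⟩)))
    exact ⟨f, hf.homOn, fun _ _ => rfl, fun x hx => hf.img_eq_self EN hfE ▸ hf.map_normalizerIn ES hx⟩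
  refine h1 Ω L p n (k + 1) S E _ Γ m ι h n4 ex EN NS mE m1 eE eN cas ι1 ι2 loc fun a ha ha' => ?_
  obtain ⟨f, hf, hf'⟩ := ext _ le_rfl a fun x hx => conj_mem_of_mem_normalizer ha (mem_img_of_mem ι hx)
  have ZN := ZE.trans EN
  have cS : centralizerIn S (Γ (n - 1)) = S :=
    le_antisymm (centralizerIn_le _ _) fun x hx => mem_centralizerIn'.2 ⟨hx, fun y hy => h.central hy hx⟩
  have hZ : KNormalized F (Γ (n - 1)) ⊥ := kNormalized_of_le_autInducedBy h.pg hF
    ⟨h.le _, fun Q _ => by rw [cS]; exact card_le_of_le (centralizerIn_le _ _)⟩ bot_le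
  have hF' := isSaturated_normKSystem h.pg hF hZ (normK_bot.trans cS)
  have mF := fun P g => (mor_normKSystem (F := F) (hQ := hZ.1) (hT := normK_bot.trans cS) (P := P) (f := g)).trans
    nMor_bot_iff
  generalize normKSystem F (Γ (n - 1)) hZ.1 ⊥ S _ = F' at hF' mF
  have m2 : ∀ {P g}, Mor F' P g → Mor F P g ∧ ∀ x ∈ P, x ∈ Γ (n - 1) → g x = x := fun k =>
    let ⟨_, _, a, b, c⟩ := (mF _ _).1 k
    ⟨(a.mono le_sup_left).congr b, fun x hx hz => (b x hx).symm.trans (c x hz)⟩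
  obtain ⟨g, hg, e⟩ := exists_extend_top h.pg hF' (P := normalizerIn S E) (f := f) (fun B hB g hg hgB => by
    obtain ⟨hg, gZ⟩ := m2 hg
    have := finite_of_le (IsEssential.le hB)
    have B1 : B ≤ Γ 1 := by
      rcases big F' hF' B hB ((card_lt_of_lt (lt_normalizerIn h.pg (IsEssential.lt_top h.pg hF hE))).trans_le
        (hg.card_le hgB)) with rfl | rfl
      · exact le_rfl
      by_contra c
      obtain ⟨m', a1, a2⟩ := SetLike.not_le_iff_exists.1 c
      have e2 : S ⊓ centralizer (Γ (n - 2) : Set Ω) ⊓ Γ 1 = Γ 2 := le_antisymm (fun x hx => h.anti (by omega)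
        (h4.cen Ω p n (n - 2) S Γ h ex (by omega) (by omega) x hx.2 hx.1.2)) (le_inf (le_inf (h.le 2)
          (commutator_eq_bot_iff_le_centralizer.1 (eq_bot_iff.2 ((h.cc0 2 (n - 2)).trans (h.bot _ (by omega)).le))))
          (h.anti (by omega)))
      refine h3 Ω S _ p n 2 F' Γ m' hF' h hB a1 a2 e2 le_rfl (.inr ((show 2 + 5 ≤ n ∨ 2 + 4 = n by omega).imp_right
        fun k => ⟨k, .inr fun γ hγ x hx => ?_⟩))
      rwa [(m2 (mor_autFun inf_le_left hγ)).2 x (e2.ge (h.anti (by omega) hx)).1 hx]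
    have cc : ∀ {v y}, v ∈ Γ (n - 3) → y ∈ Γ 1 → ⁅v, y⁆ ∈ Γ (n - 1) := fun hv hy => h.anti (by omega)
      (h.cc (n - 3) 1 (by omega) le_rfl (by omega) (commutator_mem_commutator hv hy))
    have := finite_of_le (hg.img_le' EN)
    have le : Γ (n - 3) ≤ img g (Γ (n - 2)) := fun v hv => by
      obtain ⟨r, hr, rfl⟩ := hg.mem_img.1 ((hg.img_normalizerIn hE.2.1).ge (mem_normalizerIn.2 ⟨h.le _ hv,
        mem_normalizer_of_finite fun y hy => cj v y ▸ mul_mem (by
          have := cc hv (img_le_iff.2 (fun x hx => B1 (hgB x (EN hx))) hy)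
          exact gZ _ (ZN this) this ▸ mem_img_of_mem g (ZE this)) hy⟩))
      have cm : ∀ x ∈ normalizerIn S E, ⁅r, x⁆ ∈ Γ (n - 1) := fun x hx => by
        have a1 := cc hv (B1 (hgB x hx))
        rw [← hg.homOn.map_commutator hr hx] at a1
        have rx : ⁅r, x⁆ ∈ normalizerIn S E := Subgroup.mul_mem _ (Subgroup.mul_mem _ (Subgroup.mul_mem _ hr hx)
          (Subgroup.inv_mem _ hr)) (Subgroup.inv_mem _ hx)
        exact hg.injOn (ZN a1) rx (gZ _ (ZN a1) a1) ▸ a1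
      refine mem_img_of_mem g (by_contra fun c => ?_)
      by_cases r1 : r ∈ Γ 1
      · obtain ⟨i, i1, i2, i3, i4⟩ := h.level r1 c
        exact h.un i i1 (by omega) r i3 i4 m mS m1 (h.anti (by omega) (cm m (EN mE)))
      · obtain ⟨x, x1, x2⟩ := h.ex (j := n - 3) (by omega)
        exact h.un (n - 3) (by omega) (by omega) x x1 x2 r (NS hr) r1 (h.anti (by omega)
          (comm_symm_mem (cm x (ΓN (h.anti (by omega) x1)))))
    have a1 : Γ (n - 2) ≤ normalizerIn S E := (h.anti (by omega)).trans ΓN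
    have := finite_of_le (hg.img_le' a1)
    have a2 := card_le_of_le le
    rw [hg.card_img' a1, h.card (by omega), h.card (by omega), Nat.pow_le_pow_iff_right hp.out.one_lt] at a2
    omega) ((mF _ _).2 ⟨cS.symm ▸ NS, f, (sup_eq_left.2 ZN).symm ▸ hf, fun _ _ => rfl, fun z hz =>
      ι2 (hf' z (ZN hz)).1 (ZN hz) ((hf' z (ZN hz)).2.trans (conj_eq_of_mem_centralizer ha' (mem_img_of_mem ι hz)))⟩)
  exact ⟨g, h5.of Ω p n S Γ g h n4 hg.homOn hg.injOn fun x hx => hg.mem hx, fun x hx => (e x hx).symm ▸ hf' x hx⟩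

end CL.MX
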