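/-
Project MX: essential subgroups of order `p ^ 3` or `p ^ 4` outside `γ₁(S)` in an exceptional group, group form.
-/
import Cfsg.Agent.MX.Defs2

set_option autoImplicit false

namespace CL.MX

open Subgroup Cfsg CL.Fus
open scoped commutatorElement

universe u

namespace X1Gx
variable {G : Type u} [Group G] {p n j : ℕ} [hp : Fact p.Prime] {S E : Subgroup G} {Γ : ℕ → Subgroup G} {m : G}

omit hp in
theorem commute_of (h : Ch p n S Γ) {a b : ℕ} (k : n ≤ a + b) {x y : G} (hx : x ∈ Γ a) (hy : y ∈ Γ b) :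
    Commute x y := by
  have := h.cc0 a b (commutator_mem_commutator hx hy)
  rwa [h.bot _ k, mem_bot, commutatorElement_eq_one_iff_commute] at this

theorem dec (h : Ch p n S Γ) (hS : E ≤ S) (mE : m ∈ E) (m1 : m ∉ Γ 1) (hE : E ⊓ Γ 1 = Γ j) {x : G} (hx : x ∈ E) :
    ∃ c : ZMod p, (m ^ c.val)⁻¹ * x ∈ Γ j := by
  obtain ⟨c, hc⟩ := h.dec (j := 0) (h.zero ▸ hS mE) m1 (h.zero ▸ hS hx)
  exact ⟨c, hE ▸ mem_inf.2 ⟨mul_mem (inv_mem (pow_mem mE _)) hx, hc⟩⟩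

theorem wt_one (h : Ch p n S Γ) {u : ℕ} (hu : u < n) {f : G → G} (hf : ∀ x ∈ Γ u, f x = x) {c : ZMod p}
    (w : Wt Γ u f c) : c = 1 := by
  obtain ⟨z, h1, h2⟩ := h.ex hu
  exact val_eq h2 (h.pow_mem h1) (w z h1) (by rw [hf z h1, ZMod.val_one, pow_one, inv_mul_cancel]; exact one_mem _)

/-- an element of level `n - 2` commuting with `m` -/
theorem cent_of (h : Ch p n S Γ) (hj : j + 2 = n) (mS : m ∈ S) {v : G} (h1 : v ∈ Γ j) (h2 : v ∉ Γ (j + 1))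
    (k : Commute v m) : m ∈ centralizer (Γ (n - 2) : Set G) := by
  have : Γ j ≤ centralizer {m} := by
    rw [← h.sup h1 h2]
    refine sup_le (fun z hz => ?_) (zpowers_le.2 (mem_centralizer_singleton_iff.2 k))
    exact mem_centralizer_singleton_iff.2 (h.central (by rwa [show n - 1 = j + 1 by omega]) mS)
  rw [show n - 2 = j by omega]
  exact fun z hz => mem_centralizer_singleton_iff.1 (this hz)

/-- the centre of `E` -/
theorem cen (h : Ch p n S Γ) (j3 : 3 ≤ j) (hS : E ≤ S) (mE : m ∈ E) (m1 : m ∉ Γ 1) (hE : E ⊓ Γ 1 = Γ j)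
    (hc : j + 3 = n ∨ j + 2 = n ∧ m ∉ centralizer (Γ (n - 2) : Set G)) {v : G} (hv : v ∈ E)
    (k : ∀ e ∈ E, Commute e v) : v ∈ Γ (j + 1) := by
  have ΓE : Γ j ≤ E := hE ▸ inf_le_left
  by_contra hn
  by_cases v1 : v ∈ Γ 1
  · have vj : v ∈ Γ j := hE ▸ ⟨hv, v1⟩
    rcases hc with hc | ⟨hc, hm⟩
    · refine h.un j (by omega) (by omega) v vj hn m (hS mE) m1 ?_
      rw [commutatorElement_eq_one_iff_commute.2 (k m mE).symm]; exact one_mem _
    · exact hm (cent_of h hc (hS mE) vj hn (k m mE).symm)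
  · rcases hc with hc | ⟨hc, hm⟩
    · obtain ⟨x, x1, x2⟩ := h.ex (j := j) (by omega)
      refine h.un j (by omega) (by omega) x x1 x2 v (hS hv) v1 ?_
      rw [commutatorElement_eq_one_iff_commute.2 (k x (ΓE x1))]; exact one_mem _
    · obtain ⟨c, hc'⟩ := dec h hS mE m1 hE hv
      have ab : Γ j ≤ centralizer (Γ j : Set G) := fun a ha b hb => commute_of h (by omega) hb ha
      have c0 : c ≠ 0 := fun e => v1 (h.anti (show 1 ≤ j by omega) (by simpa [e] using hc'))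
      have mp : m ^ p ∈ Γ j := hE ▸ ⟨pow_mem mE _, h.pow_mem (j := 0) (h.zero ▸ hS mE)⟩
      rw [show n - 2 = j by omega] at hm
      refine hm (mem_of_pow_val c0 (ab mp) ?_)
      have vc : v ∈ centralizer (Γ j : Set G) := fun b hb => k b (ΓE hb)
      simpa using mul_mem vc (inv_mem (ab hc'))

/-- the weights in the second case -/
theorem wt2 (h : Ch p n S Γ) (j2 : 2 ≤ j) (hj : j + 2 = n) (mS : m ∈ S) (hm : m ∉ centralizer (Γ (n - 2) : Set G))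
    {f : G → G} (hf : HomOn S f) (fx : ∀ x ∈ Γ (j + 1), f x = x) {a c : ZMod p} (w : Wt Γ j f c)
    (wm : (m ^ a.val)⁻¹ * f m ∈ Γ j) : c * a = 1 := by
  obtain ⟨x, x1, x2⟩ := h.ex (j := j) (by omega)
  have e1 : j + 1 = n - 1 := by omega
  have zm : ⁅x, m⁆ ∈ Γ (j + 1) := h.comm x1 mS
  have zc : ∀ y ∈ S, ∀ z ∈ Γ (j + 1), Commute z y := fun y hy z hz => h.central (e1 ▸ hz) hy
  have z1 : ⁅x, m⁆ ≠ 1 := fun e => hm (cent_of h hj mS x1 x2 (commutatorElement_eq_one_iff_commute.1 e))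
  have zp : ⁅x, m⁆ ^ p = 1 := by
    have := h.pow_mem zm
    rwa [h.bot _ (by omega), mem_bot] at this
  have xS := h.le _ x1
  obtain ⟨z', hz', e2⟩ : ∃ z' ∈ Γ (j + 1), f x = x ^ c.val * z' := ⟨_, w x x1, by group⟩
  obtain ⟨x', hx', e3⟩ : ∃ x' ∈ Γ j, f m = m ^ a.val * x' := ⟨_, wm, by group⟩
  have c1 : Commute z' (m ^ a.val * x') := zc _ (mul_mem (pow_mem mS _) (h.le _ hx')) _ hz'
  have c2 : Commute (x ^ c.val) x' := commute_of h (by omega) (pow_mem x1 _) hx'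
  have e4 : ⁅x ^ c.val * z', m ^ a.val * x'⁆ = ⁅x ^ c.val, m ^ a.val⁆ := by
    calc ⁅x ^ c.val * z', m ^ a.val * x'⁆
        = x ^ c.val * (z' * (m ^ a.val * x')) * z'⁻¹ * (x ^ c.val)⁻¹ * x'⁻¹ * (m ^ a.val)⁻¹ := by
          rw [commutatorElement_def]; group
      _ = x ^ c.val * m ^ a.val * (x' * (x ^ c.val)⁻¹) * x'⁻¹ * (m ^ a.val)⁻¹ := by rw [c1.eq]; group
      _ = _ := by rw [← c2.inv_left.eq, commutatorElement_def]; group
  have e5 : ⁅x, m ^ a.val⁆ = ⁅x, m⁆ ^ a.val := CL.Grp.comm_pow_right (zc m mS _ zm).symm _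
  have e6 : ⁅x, m⁆ = ⁅x, m⁆ ^ (c * a).val := by
    conv_lhs => rw [← fx _ zm, hf.map_commutator xS mS, e2, e3, e4,
      CL.Grp.comm_pow_left (by rw [e5]; exact (zc x xS _ zm).symm.pow_right _), e5, ← pow_mul]
    rw [ZMod.val_mul, ← pow_eq_pow_mod _ zp, mul_comm]
  exact val_eq (K := ⊥) (y := ⁅x, m⁆) z1 zp (by rw [← e6, inv_mul_cancel]; exact one_mem _)
    (by rw [ZMod.val_one, pow_one, inv_mul_cancel]; exact one_mem _)

theorem arith {ν : ℕ} (hν : Odd ν) (p3 : 3 ≤ p) : 1 ≤ ν.gcd (p - 1) ∧ ν.gcd (p - 1) + 2 ≤ p := by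
  have h1 : Odd (ν.gcd (p - 1)) := hν.of_dvd_nat (Nat.gcd_dvd_left _ _)
  obtain ⟨c, hc⟩ := Nat.gcd_dvd_right ν (p - 1)
  have h2 : Odd p := hp.out.odd_of_ne_two (by omega)
  set o := ν.gcd (p - 1)
  obtain ⟨k, hk⟩ := h1
  obtain ⟨l, hl⟩ := h2
  refine ⟨by omega, ?_⟩
  rcases c with _ | _ | c
  · omega
  · omega
  · have : o * (c + 1 + 1) = o * c + 2 * o := by ring
    omega

end X1Gx
open X1Gx

theorem x1G (h1 : SLm.{u}) (h2 : WT.{u}) (h3 : N2.{u}) : X1G.{u} := by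
  intro G L _ _ _ p n j hp S E N _ Γ m ι h n4 exc EN NS mE m1 hE hN hc hom inj loc ext
  obtain ⟨ev, n6, np⟩ := h1.exc G p n S Γ h n4 exc
  have jn : j + 3 = n ∨ j + 2 = n := hc.imp And.left And.left
  have j3 : 3 ≤ j := by omega
  have ES := EN.trans NS
  have ΓE : Γ j ≤ E := hE ▸ inf_le_left
  have ΓN : Γ (j - 1) ≤ N := hN ▸ inf_le_left
  have ΓE' : Γ (j + 1) ≤ E := (h.anti (by omega)).trans ΓE
  have mi : ∀ {A : Subgroup G}, A ≤ N → ∀ {x}, x ∈ N → ι x ∈ img ι A → x ∈ A := fun hA _ hx =>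
    hom.mem_of_mem_img inj hA hx
  have ex : ∀ {A : Subgroup G}, A ≤ N → ∀ {y}, y ∈ img ι A → ∃ x ∈ A, ι x = y := fun hA _ hy =>
    (hom.mono hA).mem_img.1 hy
  have cN : ∀ x ∈ N, ∀ v ∈ Γ (j + 1), Commute v x := by
    intro x hx v hv
    rcases hc with ⟨hc, hm⟩ | ⟨hc, -⟩
    · obtain ⟨c, hc'⟩ := dec h NS (EN mE) m1 hN hx
      have c1 : Commute v m := hm v (by rwa [show n - 2 = j + 1 by omega])
      simpa using (c1.pow_right c.val).mul_right (commute_of h (by omega) hv hc')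
    · exact h.central (by rwa [show n - 1 = j + 1 by omega]) (NS hx)
  have cL : ∀ x ∈ N, ∀ v ∈ Γ (j + 1), ι v * ι x = ι x * ι v := fun x hx v hv => by
    rw [← hom.map_mul (EN (ΓE' hv)) hx, ← hom.map_mul hx (EN (ΓE' hv)), (cN x hx v hv).eq]
  have nE := loc.nrm
  have hD : img ι (Γ (j + 1)) = img ι E ⊓ centralizer (img ι E : Set L) := by
    refine le_antisymm (img_le_iff.2 fun v hv => ⟨mem_img_of_mem ι (ΓE' hv), fun y hy => ?_⟩) fun y hy => ?_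
    · obtain ⟨x, hx, rfl⟩ := ex EN hy
      exact (cL x (EN hx) v hv).symm
    · obtain ⟨v, hv, rfl⟩ := ex EN hy.1
      refine mem_img_of_mem ι (cen h j3 ES mE m1 hE (hc.imp_left And.left) hv fun e he => ?_)
      refine inj (mul_mem (EN he) (EN hv)) (mul_mem (EN hv) (EN he)) ?_
      rw [hom.map_mul (EN he) (EN hv), hom.map_mul (EN hv) (EN he)]
      exact hy.2 _ (mem_img_of_mem ι he)
  have nD : (img ι (Γ (j + 1))).Normal := by rw [hD]; infer_instance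
  have cD : centralizer (img ι (Γ (j + 1)) : Set L) = ⊤ := loc.top_of (img_le_iff.2 fun x hx y hy => by
    obtain ⟨v, hv, rfl⟩ := ex (ΓE'.trans EN) hy
    exact cL x hx v hv)
  have cD' : ∀ g : L, ∀ y ∈ img ι (Γ (j + 1)), y * g = g * y := fun g => (cD ▸ mem_top g :
    g ∈ centralizer (img ι (Γ (j + 1)) : Set L))
  have ext' : ∀ g ∈ normalizer (img ι N : Set L), ∃ f, Au S Γ f ∧ (∀ x ∈ N, f x ∈ N ∧ ι (f x) = g * ι x * g⁻¹) ∧
      ∀ x ∈ Γ (j + 1), f x = x := fun g hg => by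
    obtain ⟨f, a1, a2⟩ := ext g hg fun y hy => cD' g y (img_mono ι (h.anti (by omega)) hy)
    refine ⟨f, a1, a2, fun x hx => inj (a2 x (EN (ΓE' hx))).1 (EN (ΓE' hx)) ?_⟩
    rw [(a2 x (EN (ΓE' hx))).2, ← cD' g _ (mem_img_of_mem ι hx), mul_inv_cancel_right]
  obtain ⟨ν, hν, wν⟩ : ∃ ν, Odd ν ∧ ∀ g ∈ normalizer (img ι N : Set L), ∃ c : ZMod p, c ≠ 0 ∧ c ^ ν = 1 ∧
      (ι m ^ c.val)⁻¹ * (g * ι m * g⁻¹) ∈ img ι (Γ j) := by
    refine ⟨if j + 3 = n then n - 3 else n - 1, by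
      obtain ⟨k, hk⟩ := ev
      split_ifs
      exacts [⟨k - 2, by omega⟩, ⟨k - 1, by omega⟩], fun g hg => ?_⟩
    obtain ⟨f, a1, a2, a3⟩ := ext' g hg
    obtain ⟨a, b, a0, b0, w0, w1, w2⟩ := h2.gen G p n S Γ f h (by omega) a1
    obtain ⟨b1, b2⟩ := a2 m (EN mE)
    have fE : f m ∈ E := mi EN b1 (b2 ▸ nE.conj_mem _ (mem_img_of_mem ι mE) g)
    have wm : (m ^ a.val)⁻¹ * f m ∈ Γ j :=
      hE ▸ mem_inf.2 ⟨mul_mem (inv_mem (pow_mem mE _)) fE, w0 m (h.zero ▸ ES mE)⟩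
    have e1 := wt_one h (u := n - 1) (by omega) (fun x hx => a3 x (h.anti (by omega) hx)) (w2 exc)
    refine ⟨a, a0, ?_, ?_⟩
    · rcases hc with ⟨hc, -⟩ | ⟨hc, hm⟩
      · have e2 := wt_one h (u := j + 1) (by omega) a3 (w1 _ (by omega) (by omega))
        rw [show j + 1 - 1 = n - 3 by omega] at e2
        rw [mul_assoc, e2, mul_one] at e1
        rw [e1, one_mul] at e2
        rwa [if_pos hc]
      · have e2 := wt2 h (by omega) hc (ES mE) hm a1.hom a3 (w1 _ (by omega) (by omega)) wm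
        rw [show j - 1 = n - 3 by omega] at e2
        have e3 : a = b := by
          calc a = b * (b * a ^ (n - 3) * a) := by linear_combination (-a) * e1
            _ = b := by rw [e2, mul_one]
        rw [if_neg (by omega), show n - 1 = n - 3 + 1 + 1 by omega, ← e2, ← e3]
        ring
    · rw [← b2, ← hom.map_pow (EN mE), ← hom.map_inv (pow_mem (EN mE) _),
        ← hom.map_mul (inv_mem (pow_mem (EN mE) _)) b1]
      exact mem_img_of_mem ι wm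
  obtain ⟨o1, o2⟩ := arith (p := p) hν (by omega)
  obtain ⟨y, y1, y2⟩ := h.ex (j := j - 1) (by omega)
  rw [show j - 1 + 1 = j by omega] at y2
  have yN := ΓN y1
  have yE : ι y ∉ img ι E := fun k => y2 (hE ▸ ⟨mi EN yN k, h.anti (by omega) y1⟩)
  have yj : ∀ {x}, x ∈ Γ (j - 1 + 1) → x ∈ Γ j := fun k => by rwa [show j - 1 + 1 = j by omega] at k
  have c1 : ∀ e ∈ E, ⁅y, e⁆ ∈ Γ j := fun e he => yj (h.comm y1 (ES he))
  have c2 : ∀ v ∈ Γ j, ⁅v, y⁆ ∈ Γ (j + 1) := fun v hv => h.comm hv (NS yN)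
  have DC : img ι (Γ (j + 1)) ≤ img ι (Γ j) := img_mono ι (h.anti (by omega))
  have nC : (img ι (Γ j)).Normal := by
    refine h3 L p _ _ _ _ _ (ι m) (ι y) loc nD DC (img_mono ι ΓE) (fun g hg => ?_) (mem_img_of_mem ι mE)
      (fun k => m1 (h.anti (by omega) (mi (ΓE.trans EN) (EN mE) k))) ?_ (fun e he => ?_) (fun g hg => ?_)
      (mem_img_of_mem ι yN) yE ?_ (fun e he => ?_) o1 o2
    · obtain ⟨f, a1, a2, -⟩ := ext' g hg
      refine mem_normalizer_fintype fun v hv => ?_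
      obtain ⟨x, hx, rfl⟩ := ex (ΓE.trans EN) hv
      rw [← (a2 x (EN (ΓE hx))).2]
      exact mem_img_of_mem ι (a1.mem _ x hx)
    · rw [← hom.map_pow (EN mE)]
      exact mem_img_of_mem ι (hE ▸ ⟨pow_mem mE _, h.pow_mem (j := 0) (h.zero ▸ ES mE)⟩)
    · obtain ⟨x, hx, rfl⟩ := ex EN he
      obtain ⟨c, hc'⟩ := dec h ES mE m1 hE hx
      refine ⟨c, ?_⟩
      rw [← hom.map_pow (EN mE), ← hom.map_inv (pow_mem (EN mE) _),
        ← hom.map_mul (inv_mem (pow_mem (EN mE) _)) (EN hx)]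
      exact mem_img_of_mem ι hc'
    · obtain ⟨c, c0, k1, k2⟩ := wν g hg
      exact ⟨c, pow_gcd_eq_one.2 ⟨k1, ZMod.pow_card_sub_one_eq_one c0⟩, k2⟩
    · rw [← hom.map_pow yN]
      exact mem_img_of_mem ι (ΓE (yj (h.pow_mem y1)))
    · obtain ⟨x, hx, rfl⟩ := ex EN he
      rw [← hom.map_commutator yN (EN hx), ← hom.map_commutator yN (EN (ΓE (c1 x hx)))]
      exact mem_img_of_mem ι (comm_symm_mem (c2 _ (c1 x hx)))
  refine yE (loc.core (loc.pg_stb (img ι (Γ j)) (img ι (Γ (j + 1)))) ((mem_stb DC).2 ⟨fun e he => ?_, fun v hv => ?_,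
    fun d hd => commutatorElement_eq_one_iff_mul_comm.2 (cD' _ d hd)⟩))
  · obtain ⟨x, hx, rfl⟩ := ex EN he
    rw [← hom.map_commutator (EN hx) yN]
    exact mem_img_of_mem ι (comm_symm_mem (c1 x hx))
  · obtain ⟨x, hx, rfl⟩ := ex (ΓE.trans EN) hv
    rw [← hom.map_commutator (EN (ΓE hx)) yN]
    exact mem_img_of_mem ι (c2 x hx)

end CL.MX
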