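/-
Project MX2: the exceptional case, an element with a primitive weight on the centre.
-/
import Cfsg.Agent.MX.Defs2

set_option autoImplicit false

namespace CL.MX

open Subgroup Cfsg
open scoped commutatorElement

universe u

namespace X2Ax

theorem ord {p ζ : ℕ} [hp : Fact p.Prime] {a : ZMod p} (a0 : a ≠ 0) (z0 : ζ ≠ 0) (h : orderOf (a ^ ζ) = p - 1) :
    orderOf a = p - 1 ∧ ∀ b : ZMod p, b ≠ 0 → b ^ ζ = 1 → b = 1 := by
  have e : orderOf a = p - 1 := Nat.dvd_antisymm (orderOf_dvd_of_pow_eq_one (ZMod.pow_card_sub_one_eq_one a0))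
    (h ▸ orderOf_pow_dvd ζ)
  refine ⟨e, fun b b0 k => ?_⟩
  rw [orderOf_pow' _ z0, e, Nat.div_eq_self] at h
  have g := h.resolve_left (by have := hp.out.two_le; omega)
  exact orderOf_eq_one_iff.1 (Nat.eq_one_of_dvd_one (g ▸ Nat.dvd_gcd
    (orderOf_dvd_of_pow_eq_one (ZMod.pow_card_sub_one_eq_one b0)) (orderOf_dvd_of_pow_eq_one k)))

/-- the next normalised member of the chain -/
theorem next {G : Type u} [Group G] {H : Subgroup G} {Γ : ℕ → Subgroup G} {x m : ℕ} (hx : H ≤ normalizer (Γ x : Set G))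
    (hm : H ≤ normalizer (Γ m : Set G)) (k : x < m) : ∃ w, x + w ≤ m ∧ Nn H Γ x (x + w) := by
  classical
  have ex : ∃ y, x < y ∧ H ≤ normalizer (Γ y : Set G) := ⟨m, k, hm⟩
  have h1 := Nat.find_spec ex
  have h2 := Nat.find_min' ex ⟨k, hm⟩
  obtain ⟨w, e⟩ := Nat.exists_eq_add_of_le h1.1.le
  exact ⟨w, e ▸ h2, e ▸ h1.1, hx, e ▸ h1.2, fun z a b c => Nat.find_min ex (e ▸ b) ⟨a, c⟩⟩

end X2Ax

theorem x2A (h1 : SLm.{u}) (h2 : WT.{u}) (h3 : SecThm.{u}) : X2A.{u} :=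
    fun G _ _ p n hp S Γ k t h n4 ex nc syl n1 wt ot => by
  have np := (h1.exc G p n S Γ h n4 ex).2.2
  have nZ : (Γ (n - 1)).Normal := by
    rw [show Γ (n - 1) = Γ 1 ⊓ centralizer (Γ 1 : Set G) from le_antisymm (le_inf (h.anti (by omega))
      fun x hx y hy => (h.central hx (h.le 1 hy)).symm.eq)
      fun x hx => h1.cen G p n 1 S Γ h ex le_rfl (by omega) x hx.1 hx.2]
    infer_instance
  obtain ⟨l, hl⟩ := h2.exc G p n S Γ h (by omega) ex nc
  have t1 : ∀ (A : Subgroup G) [A.Normal] (H : Subgroup G), H ≤ normalizer (A : Set G) := fun A _ H => by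
    rw [normalizer_eq_top]; exact le_top
  have au : ∀ g ∈ normalizer (S : Set G), Au S Γ (cj g) := fun g hg =>
    (h2.conj G p n S Γ g h hg (t1 _ ⊤ trivial)).1
  have : ∀ g : G, ∃ a : ZMod p, g ∈ normalizer (S : Set G) → a ≠ 0 ∧
      (∀ u, 1 ≤ u → u + 2 ≤ n → Wt Γ u (cj g) (a ^ (u + l))) ∧ Wt Γ (n - 1) (cj g) (a ^ (n - 1 + 2 * l)) := fun g => by
    by_cases hg : g ∈ normalizer (S : Set G)
    · exact (hl _ (au g hg)).imp fun _ e _ => e
    · exact ⟨0, fun e => absurd e hg⟩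
  choose a ha using this
  have SH : S ≤ centralizer (Γ (n - 1) : Set G) := fun y hy x hx => (h.central hx hy).eq
  have nH : (centralizer (Γ (n - 1) : Set G)).Normal := inferInstance
  obtain ⟨k₀, hk₀, k₁, hk₁, rfl⟩ := I2A.frattini h.pg syl SH (h := k) fun g hg => nH.conj_mem g hg k
  obtain ⟨z, z0, z1⟩ := h.ex (j := n - 1) (by omega)
  have et : t = a k₁ ^ (n - 1 + 2 * l) := val_eq z1 (h.pow_mem z0) (wt z z0) (by
    have := (ha k₁ hk₁).2.2 z z0
    rwa [cj, show k₀ * k₁ * z * (k₀ * k₁)⁻¹ = k₀ * (k₁ * z * k₁⁻¹) * k₀⁻¹ by group,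
      ← hk₀ _ (nZ.conj_mem z z0 k₁), mul_inv_cancel_right])
  obtain ⟨o1, o2⟩ := X2Ax.ord (ha k₁ hk₁).1 (by omega) (et ▸ ot)
  have a1 : ∀ g ∈ centralizer (Γ (n - 1) : Set G), g ∈ normalizer (S : Set G) → a g = 1 := fun g hg hg' =>
    o2 _ (ha g hg').1 (val_eq z1 (h.pow_mem z0) ((ha g hg').2.2 z z0) (by
      rw [cj, ← hg z z0, mul_inv_cancel_right, ZMod.val_one, pow_one, inv_mul_cancel]
      exact one_mem _))
  generalize centralizer (Γ (n - 1) : Set G) = H at *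
  obtain ⟨s, sS, s1⟩ := h.ex (j := 0) (by omega)
  rw [h.zero] at sS
  have nm : ∀ u, 1 ≤ u → H ≤ normalizer (Γ u : Set G) := by
    intro u hu
    induction u, hu using Nat.le_induction with
    | base => exact t1 _ _
    | succ x hx ih =>
      by_cases k : x < n - 1
      · obtain ⟨w, hw, nn⟩ := X2Ax.next ih (t1 _ H) k
        by_cases w2 : 2 ≤ w
        · obtain ⟨β, c, -⟩ := h3 G p n x w l S H Γ s a h syl SH (t1 _ _) sS s1 hx (by omega) (by omega)
            (.inl (by omega)) nn fun g _ hg => ⟨(ha g hg).1, fun u a b => (ha g hg).2.1 u (by omega) (by omega)⟩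
          exact (c1' G p w _ β _ S H s a c w2 fun g hg hg' => by rw [a1 g hg hg', one_pow]).elim
        · have := nn.lt
          exact (show w = 1 by omega) ▸ nn.ny
      · rw [h.bot (x + 1) (by omega)]
        exact t1 _ _
  obtain ⟨g, hg, hg', wg⟩ := h2.frat G p n S H Γ h syl SH nm k₀ hk₀
  refine ⟨a k₁, l, o1, fun u u1 u2 x hx => ?_⟩
  have b1 := (ha k₁ hk₁).2.1 u u1 u2 x hx
  have b2 := wg u u1 _ ((ha g hg').2.1 u u1 u2) _ ((au k₁ hk₁).mem u x hx)
  rw [a1 g hg hg', one_pow, ZMod.val_one, pow_one] at b2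
  have := mul_mem b1 b2
  rwa [mul_assoc, mul_inv_cancel_left, show cj k₀ (cj k₁ x) = cj (k₀ * k₁) x by simp only [cj]; group] at this

end CL.MX
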