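/-
Project MX: in an exceptional group the centre is normal in the local group.
-/
import Cfsg.Agent.MX.Defs2

set_option autoImplicit false

namespace CL.MX

open Subgroup Cfsg Cfsg.FusionSystem CL.Fus
open scoped commutatorElement

universe u

namespace X2Gx

section Grp
variable {X : Type u} [Group X] {p n j : ℕ} {S E U : Subgroup X} {Γ : ℕ → Subgroup X} [hp : Fact p.Prime]

theorem step [Finite X] (h : Ch p n S Γ) {v : ℕ} (hv : v < n) :
    Nat.card (E ⊓ Γ v : Subgroup X) ≤ p * Nat.card (E ⊓ Γ (v + 1) : Subgroup X) := by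
  have h1 := relIndex_mul_relIndex ⊥ (Γ (v + 1) ⊓ (E ⊓ Γ v)) (E ⊓ Γ v) bot_le inf_le_right
  rw [relIndex_bot_left, relIndex_bot_left, inf_relIndex_right] at h1
  have h2 : (Γ (v + 1)).relIndex (E ⊓ Γ v) ≤ p :=
    (relIndex_le_of_le_right inf_le_right (by rw [h.idx v hv]; exact hp.out.ne_zero)).trans (h.idx v hv).le
  rw [← h1, mul_comm]
  exact Nat.mul_le_mul h2 (card_le_of_le fun x hx => ⟨hx.2.1, hx.1⟩)

theorem card_le [Finite X] (h : Ch p n S Γ) {a v : ℕ} (hE : E ≤ Γ a) (hav : a < v) (hv : v + 2 ≤ n)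
    (k : ∀ w, a < w → w + 2 ≤ n → ∀ x ∈ E, x ∈ Γ w → x ∉ Γ (w + 1) → w = v) : Nat.card E ≤ p ^ 3 := by
  have h1 : E ⊓ Γ (a + 1) ≤ E ⊓ Γ v := fun x hx => ⟨hx.1, by_contra fun c => by
    obtain ⟨w, a1, a2, a3, a4⟩ := h.level hx.2 c
    have := k w a1 (by omega) x hx.1 a3 a4
    omega⟩
  have h2 : E ⊓ Γ (v + 1) ≤ Γ (n - 1) := fun x hx => by_contra fun c => by
    obtain ⟨w, a1, a2, a3, a4⟩ := h.level hx.2 c
    have := k w (by omega) (by omega) x hx.1 a3 a4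
    omega
  have h3 := card_le_of_le h2
  rw [h.card (by omega), show n - (n - 1) = 1 by omega, pow_one] at h3
  calc Nat.card E = Nat.card (E ⊓ Γ a : Subgroup X) := by rw [inf_eq_left.2 hE]
    _ ≤ p * Nat.card (E ⊓ Γ (a + 1) : Subgroup X) := step h (by omega)
    _ ≤ p * (p * p) := Nat.mul_le_mul_left _ ((card_le_of_le h1).trans ((step h (by omega)).trans
      (Nat.mul_le_mul_left _ h3)))
    _ = p ^ 3 := by ring

omit hp in
theorem cz (h : Ch p n S Γ) {a b : ℕ} (hab : a + b + 1 = n) {x y : X} (hx : x ∈ Γ a) (hy : y ∈ Γ b) :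
    ⁅x, y⁆ ∈ Γ (n - 1) := by
  have := h.cc0 a b (commutator_mem_commutator hx hy)
  rwa [show a + b = n - 1 by omega] at this

theorem le_lev (h1 : SLm.{u}) (h : Ch p n S Γ) (ex : ⁅Γ (n - 2), Γ 1⁆ ≠ ⊥) (e1 : E ≤ Γ 1) {a : ℕ}
    (ha : a + j + 1 = n) (a1 : 1 ≤ a) (hj : Γ (j + 1) ≤ E) (j1 : 1 ≤ j) (hU : ∀ x ∈ U, x ∈ Γ (a + 1) → x = 1)
    {τ : X → X} (hτ : HomOn E τ) (inj : Set.InjOn τ E) (mem : ∀ e ∈ E, τ e ∈ E)
    (sur : ∀ e ∈ E, ∃ e' ∈ E, τ e' = e) (hZ : ∀ x ∈ Γ (n - 1), τ x ∈ U) : E ≤ Γ a := by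
  suffices H : ∀ b, 1 ≤ b → b ≤ a → E ≤ Γ b from H a a1 le_rfl
  intro b hb
  induction b, hb using Nat.le_induction with
  | base => exact fun _ => e1
  | succ b hb ih =>
    intro hba e he
    have ih := ih (by omega)
    by_contra he'
    obtain ⟨w, hw, hw'⟩ := h.ex (j := n - 1 - b) (by omega)
    have wE : w ∈ E := hj (h.anti (by omega) hw)
    have k1 : ∀ x ∈ E, ⁅x, τ w⁆ ∈ U := fun x hx => by
      obtain ⟨x', hx', rfl⟩ := sur x hx
      rw [← hτ.map_commutator hx' wE]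
      exact hZ _ (cz h (by omega) (ih hx') hw)
    have k2 : τ w ∉ Γ a := fun c => by
      have k3 := hU _ (k1 _ (mem e he)) (comm_symm_mem (h.comm c (h.le 1 (e1 (mem e he)))))
      rw [← hτ.map_commutator he wE, ← hτ.map_one] at k3
      exact h1.pair X p n b (n - 1 - b) S Γ h ex hb (by omega) (by omega) e (ih he) he' w hw hw'
        (inj (mul_mem (mul_mem (mul_mem he wE) (inv_mem he)) (inv_mem wE)) (one_mem E) k3)
    obtain ⟨c, c1, c2, c3, c4⟩ := h.level (e1 (mem w wE)) k2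
    obtain ⟨x, hx, hx'⟩ := h.ex (j := n - 1 - c) (by omega)
    exact h1.pair X p n (n - 1 - c) c S Γ h ex (by omega) c1 (by omega) x hx hx' _ c3 c4
      (hU _ (k1 x (hj (h.anti (by omega) hx))) (h.anti (by omega) (cz h (by omega) hx c3)))

omit hp in
theorem conj_pow_eq {y v : X} (h : Commute y ⁅y, v⁆) (i : ℕ) : y ^ i * v * (y ^ i)⁻¹ = ⁅y, v⁆ ^ i * v := by
  induction i with
  | zero => simp
  | succ i ih =>
    have e : y * v * y⁻¹ = ⁅y, v⁆ * v := by rw [commutatorElement_def, inv_mul_cancel_right]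
    calc y ^ (i + 1) * v * (y ^ (i + 1))⁻¹ = y * (y ^ i * v * (y ^ i)⁻¹) * y⁻¹ := by rw [pow_succ']; group
      _ = (y * ⁅y, v⁆ ^ i) * v * y⁻¹ := by rw [ih, ← mul_assoc]
      _ = ⁅y, v⁆ ^ i * (y * v * y⁻¹) := by rw [(h.pow_right i).eq]; simp only [mul_assoc]
      _ = ⁅y, v⁆ ^ (i + 1) * v := by rw [e, pow_succ, mul_assoc]

/-- the case `[Γ 1, Γ 1] ≤ Z` -/
theorem caseA [Finite X] (h1 : SLm.{u}) (h : Ch p n S Γ) (ex : ⁅Γ (n - 2), Γ 1⁆ ≠ ⊥) (n6 : 6 ≤ n)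
    (c : ⁅Γ 1, Γ 1⁆ ≤ Γ (n - 1)) (j2 : 2 ≤ j) (hj : Γ (j + 1) ≤ E) {y v : X} (hy : y ∈ Γ j) (hv : v ∈ Γ 1)
    (yv : ¬ Commute y v) (ab : ∀ a ∈ E, ∀ b ∈ E, ⁅a, b⁆ = 1) (k : ∀ x ∈ Γ 1, Commute x v → x ∈ E) : False := by
  have y1 : y ∈ Γ 1 := h.anti (by omega) hy
  have hc := c (commutator_mem_commutator y1 hv)
  have lev : ∀ w, 1 ≤ w → w < n → w ≠ j → ∃ e ∈ E, e ∈ Γ w ∧ e ∉ Γ (w + 1) := fun w w1 wn wj => by
    obtain ⟨x, hx, hx'⟩ := h.ex wn
    rcases lt_or_gt_of_ne wj with l | l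
    · have x1 : x ∈ Γ 1 := h.anti w1 hx
      have k1 := c (commutator_mem_commutator x1 hv)
      rw [← EX.eq_zpowers h (by omega) hc (mt commutatorElement_eq_one_iff_commute.1 yv),
        ← mem_powers_iff_mem_zpowers] at k1
      obtain ⟨i, hi⟩ := k1
      have k2 := conj_pow_eq (h.central hc (h.le _ hy)).symm i
      have yi : (y ^ i)⁻¹ ∈ Γ (w + 1) := inv_mem (pow_mem (h.anti l hy) i)
      refine ⟨(y ^ i)⁻¹ * x, k _ (mul_mem (h.anti (by omega) yi) x1) ?_, mul_mem (h.anti (by omega) yi) hx,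
        fun e => hx' ((mul_mem_cancel_left yi).1 e)⟩
      have hi' : ⁅y, v⁆ ^ i = ⁅x, v⁆ := hi
      rw [hi', commutatorElement_def, inv_mul_cancel_right] at k2
      calc (y ^ i)⁻¹ * x * v = (y ^ i)⁻¹ * (x * v * x⁻¹) * x := by group
        _ = v * ((y ^ i)⁻¹ * x) := by rw [← k2]; group
    · exact ⟨x, hj (h.anti l hx), hx, hx'⟩
  by_cases e : j = n - 2
  · obtain ⟨a, a1, a2, a3⟩ := lev 2 (by omega) (by omega) (by omega)
    obtain ⟨b, b1, b2, b3⟩ := lev (n - 3) (by omega) (by omega) (by omega)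
    exact h1.pair X p n 2 (n - 3) S Γ h ex (by omega) (by omega) (by omega) a a2 a3 b b2 b3 (ab a a1 b b1)
  · obtain ⟨a, a1, a2, a3⟩ := lev 1 (by omega) (by omega) (by omega)
    obtain ⟨b, b1, b2, b3⟩ := lev (n - 2) (by omega) (by omega) (by omega)
    exact h1.pair X p n 1 (n - 2) S Γ h ex (by omega) (by omega) (by omega) a a2 a3 b b2 b3 (ab a a1 b b1)

/-- the case `[Γ 1, Γ 1] ⊄ Z` -/
theorem caseB [Finite X] (h : Ch p n S Γ) (np : n ≤ p + 1) {a l : ℕ} (a1 : 1 ≤ a) (an : a + 3 ≤ n) (hE : E ≤ Γ a)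
    {k : X} {c : ZMod p} (hc : orderOf c = p - 1) (wt : ∀ u, 1 ≤ u → u + 2 ≤ n → Wt Γ u (cj k) (c ^ (u + l)))
    (hk : ∀ e ∈ E, ⁅e, k⁆ ∈ Γ (a + 1) → ⁅e, k⁆ ∈ Γ (n - 1)) : Nat.card E ≤ p ^ 3 := by
  have key : ∀ w, a < w → w + 2 ≤ n → ∀ x ∈ E, x ∈ Γ w → x ∉ Γ (w + 1) → p - 1 ∣ w + l :=
    fun w w1 wn x hx x1 x2 => by
    have k1 := wt w (by omega) wn x x1
    have k2 : k * x * k⁻¹ ∈ Γ w :=
      (mul_mem_cancel_left (inv_mem (pow_mem x1 _))).1 (h.anti (Nat.le_succ w) k1)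
    have k3 := hk x hx (h.anti w1 (by
      simpa [commutatorElement_def, mul_assoc] using mul_mem x1 (inv_mem k2)))
    have k4 := h.conj (h.anti (show w + 1 ≤ n - 1 by omega) (inv_mem k3)) (inv_mem (h.le _ x1))
    rw [← hc, orderOf_dvd_iff_pow_eq_one]
    refine val_eq x2 (h.pow_mem x1) k1 ?_
    simpa [ZMod.val_one, cj, commutatorElement_def, mul_assoc] using k4
  by_cases e : ∃ w, a < w ∧ w + 2 ≤ n ∧ p - 1 ∣ w + l
  · obtain ⟨v, v1, v2, v3⟩ := e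
    refine card_le h hE v1 v2 fun w w1 wn x hx x1 x2 => ?_
    have k1 := key w w1 wn x hx x1 x2
    have k2 := Nat.eq_zero_of_dvd_of_lt (Nat.dvd_sub k1 v3) (by omega)
    have k3 := Nat.eq_zero_of_dvd_of_lt (Nat.dvd_sub v3 k1) (by omega)
    omega
  · exact card_le h hE (Nat.lt_succ_self a) (by omega) fun w w1 wn x hx x1 x2 =>
      absurd ⟨w, w1, wn, key w w1 wn x hx x1 x2⟩ e

theorem exists_gen (p : ℕ) [hp : Fact p.Prime] : ∃ t : ZMod p, t ≠ 0 ∧ orderOf t = p - 1 := by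
  obtain ⟨t, ht⟩ := IsCyclic.exists_generator (α := (ZMod p)ˣ)
  refine ⟨t, t.ne_zero, ?_⟩
  rw [orderOf_units, orderOf_eq_card_of_forall_mem_zpowers ht, Nat.card_eq_fintype_card, ZMod.card_units]

end Grp

section Dat
variable {X L : Type u} [Group X] [Group L] {p n : ℕ} {S E N : Subgroup X} {Γ : ℕ → Subgroup X} {ι : X → L}

theorem twist (h : Dat p n S Γ E N ι) (g : L) : ∃ τ : X → X, HomOn E τ ∧ Set.InjOn τ E ∧ (∀ e ∈ E, τ e ∈ E) ∧
    (∀ e ∈ E, ∃ e' ∈ E, τ e' = e) ∧ ∀ e ∈ E, ι (τ e) = g * ι e * g⁻¹ := by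
  have ex : ∀ (g : L), ∀ e ∈ E, ∃ e' ∈ E, ι e' = g * ι e * g⁻¹ := fun g e he =>
    h.ex h.le (h.loc.nrm.conj_mem _ (mem_img_of_mem ι he) g)
  choose! τ m e using ex g
  refine ⟨τ, fun a ha b hb => h.inj (h.le (m _ (mul_mem ha hb))) (h.le (mul_mem (m _ ha) (m _ hb))) ?_,
    fun a ha b hb k => h.inj (h.le ha) (h.le hb) ?_, m, fun a ha => ?_, e⟩
  · rw [h.hom.map_mul (h.le (m _ ha)) (h.le (m _ hb)), e _ (mul_mem ha hb), e _ ha, e _ hb,
      h.hom.map_mul (h.le ha) (h.le hb)]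
    group
  · have := e a ha
    rw [k, e b hb] at this
    simpa using this.symm
  · obtain ⟨b, hb, k⟩ := ex g⁻¹ a ha
    refine ⟨b, hb, h.inj (h.le (m _ hb)) (h.le ha) ?_⟩
    rw [e b hb, k]
    group

end Dat

end X2Gx

open X2Gx in
theorem x2G (h1 : SLm.{u}) (h2 : X2L.{u}) (h3 : X2A.{u}) : X2G.{u} := by
  intro X L _ _ _ _ p n hp S E N Γ ι h n4 ex hc
  by_contra nn
  obtain ⟨-, n6, np⟩ := h1.exc X p n S Γ h.ch n4 ex
  obtain ⟨z, hz, hz'⟩ := h.ch.ex (j := n - 1) (by omega)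
  have z1 : z ≠ 1 := fun e => hz' (e ▸ one_mem _)
  have eZ := EX.eq_zpowers h.ch (by omega) hz z1
  have zE : z ∈ E := h.last_le hz
  have zN : z ∈ N := h.le zE
  have NS : N ≤ S := h.n1.trans (h.ch.le 1)
  have iZ : img ι (Γ (n - 1)) = zpowers (ι z) := by rw [← eZ, h.hom.img_zpowers zN]
  have zp : z ^ p = 1 := by
    have := h.ch.pow_mem hz
    rwa [h.ch.bot _ (by omega), mem_bot] at this
  have nZ : (Γ (n - 1)).Normal := by
    have := h.nrm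
    rw [show Γ (n - 1) = Γ 1 ⊓ centralizer (Γ 1 : Set X) from le_antisymm (le_inf (h.ch.anti (by omega))
      fun x hx y hy => (h.ch.central hx (h.ch.le 1 hy)).symm.eq)
      fun x hx => h1.cen X p n 1 S Γ h.ch ex le_rfl (by omega) x hx.1 hx.2]
    infer_instance
  have cZ : ∀ x ∈ N, ∀ w ∈ zpowers (ι z), Commute (ι x) w := by
    rintro x hx _ ⟨i, rfl⟩
    exact ((h.commute hx zN).2 (h.ch.central hz (NS hx)).symm).zpow_right i
  have bZ : normalizer (img ι N : Set L) ≤ normalizer (zpowers (ι z) : Set L) := fun b hb =>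
    mem_normalizer_fintype fun w hw => by
      obtain ⟨k, hk⟩ := h.ext b hb
      rw [← iZ] at hw ⊢
      obtain ⟨x, hx, rfl⟩ := h.ex (h.last_le.trans h.le) hw
      rw [← (hk x (h.le (h.last_le hx))).2]
      exact mem_img_of_mem ι (nZ.conj_mem x hx k)
  have H := h2 L p (img ι E) (img ι N) (ι z) h.loc (mem_img_of_mem ι zE)
    (img_le_iff.2 fun x hx => mem_centralizer_singleton_iff.2 (cZ x hx _ (mem_zpowers _)).eq)
    (by rw [← h.hom.map_pow zN, zp, h.hom.map_one]) bZ (iZ ▸ nn)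
  have H' : ∀ x ∈ N, x ∉ E → _ := fun x hx hx' =>
    H (ι x) (mem_img_of_mem ι hx) fun e => hx' ((h.mem_iff h.le hx).1 e)
  have cm : ∀ x ∈ N, (∀ e ∈ E, ⁅e, x⁆ ∈ Γ (n - 1)) → ∀ e ∈ img ι E, ⁅e, ι x⁆ ∈ zpowers (ι z) := fun x hx k e he => by
    obtain ⟨f, hf, rfl⟩ := h.ex h.le he
    rw [← h.hom.map_commutator (h.le hf) hx, ← iZ]
    exact mem_img_of_mem ι (k f hf)
  obtain ⟨j, y, j2, jn, hj, hy, yE, yN, -⟩ := h.exists_j
  obtain ⟨⟨g, hg⟩, Hy⟩ := H' y yN yE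
  obtain ⟨τ, hom, inj, mem, sur, e⟩ := twist h g
  obtain ⟨a, ha⟩ : ∃ a, a + j + 1 = n := ⟨n - 1 - j, by omega⟩
  have vE := mem z zE
  have yv : ¬ Commute y (τ z) := fun c => hg (e z zE ▸ (h.commute yN (h.le vE)).2 c)
  have v1 : τ z ∉ Γ (a + 1) := fun c => yv (commutatorElement_eq_one_iff_commute.1 (by
    have := h.ch.cc0 _ _ (commutator_mem_commutator hy c)
    rwa [h.ch.bot _ (by omega), mem_bot] at this))
  have vp : τ z ^ p = 1 := by rw [← hom.map_pow zE, zp, hom.map_one]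
  have hU : ∀ x ∈ zpowers (τ z), x ∈ Γ (a + 1) → x = 1 := fun x hx k => by_contra fun c => by
    have o : orderOf (τ z) = p := orderOf_eq_prime vp fun e => v1 (e ▸ one_mem _)
    have : Fact (Nat.card (zpowers (τ z))).Prime := ⟨by rw [Nat.card_zpowers, o]; exact hp.out⟩
    rcases eq_bot_or_eq_top_of_prime_card ((Γ (a + 1)).subgroupOf (zpowers (τ z))) with k' | k'
    · exact c (disjoint_def.1 (subgroupOf_eq_bot.1 k') k hx)
    · exact v1 (subgroupOf_eq_top.1 k' (mem_zpowers _))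
  have hZ : ∀ x ∈ Γ (n - 1), τ x ∈ zpowers (τ z) := fun x hx => by
    obtain ⟨i, rfl⟩ := eZ.ge hx
    exact hom.map_zpow zE i ▸ zpow_mem_zpowers _ _
  have hE : E ≤ Γ a := le_lev h1 h.ch ex h.e1 ha (by omega) hj (by omega) hU hom inj mem sur hZ
  by_cases c : ⁅Γ 1, Γ 1⁆ ≤ Γ (n - 1)
  · refine caseA h1 h.ch ex n6 c j2 hj hy (h.e1 vE) yv (fun x hx w hw => ?_) fun x hx k => by_contra fun xE => ?_
    · refine hU _ ?_ (h.ch.anti (by omega) (c (commutator_mem_commutator (h.e1 hx) (h.e1 hw))))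
      obtain ⟨x', hx', rfl⟩ := sur x hx
      obtain ⟨w', hw', rfl⟩ := sur w hw
      rw [← hom.map_commutator hx' hw']
      exact hZ _ (c (commutator_mem_commutator (h.e1 hx') (h.e1 hw')))
    · have k1 : ∀ e ∈ E, ⁅e, x⁆ ∈ Γ (n - 1) := fun e he => c (commutator_mem_commutator (h.e1 he) hx)
      have xN : x ∈ N := h.mem_N (h.ch.le 1 hx) fun e he => h.last_le (k1 e he)
      have k2 := ((H' x xN xE).2 (cm x xN k1)).1 g (e z zE ▸ (h.commute xN (h.le vE)).2 k)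
      exact hg (cZ y yN _ ((mem_normalizer_iff.1 (bZ k2) _).1 (mem_zpowers _)))
  obtain ⟨t, t0, ht⟩ := exists_gen p
  obtain ⟨b, hb, bz, bE⟩ := (Hy (cm y yN fun x hx => cz h.ch ha (hE hx) hy)).2 g hg t t0
  obtain ⟨k, hk⟩ := h.ext b hb
  have kz : k * z * k⁻¹ = z ^ t.val :=
    h.inj (hk z zN).1 (pow_mem zN _) (by rw [(hk z zN).2, bz, h.hom.map_pow zN])
  obtain ⟨d, l, hd, wt⟩ := h3 X p n S Γ k t h.ch n4 ex c h.syl h.nrm (fun x hx => by
    obtain ⟨i, rfl⟩ := eZ.ge hx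
    rw [cj, ← conj_zpow, kz, ← zpow_natCast, ← zpow_natCast, ← zpow_mul, ← zpow_mul, mul_comm, inv_mul_cancel]
    exact one_mem _) ht
  refine absurd (hc.trans (caseB h.ch np (by omega) (by omega) hE hd wt fun x hx k1 => ?_))
    (not_le.2 (Nat.pow_lt_pow_right hp.out.one_lt (by omega)))
  have VN : zpowers z ⊔ zpowers (τ z) ≤ N := sup_le (zpowers_le.2 zN) (zpowers_le.2 (h.le vE))
  have xN := h.le hx
  have e1 : ⁅x, k⁆ = x * (k * x⁻¹ * k⁻¹) := by simp only [commutatorElement_def, mul_assoc]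
  have k2 : ⁅x, k⁆ ∈ zpowers z ⊔ zpowers (τ z) := by
    rw [← h.mem_iff VN (e1 ▸ mul_mem xN (hk _ (inv_mem xN)).1), (h.hom.mono VN).img_sup, h.hom.img_zpowers zN,
      h.hom.img_zpowers (h.le vE), e z zE, e1, h.hom.map_mul xN (hk _ (inv_mem xN)).1, (hk _ (inv_mem xN)).2,
      h.hom.map_inv xN]
    simpa only [commutatorElement_def, mul_assoc] using bE _ (mem_img_of_mem ι hx)
  rw [eZ] at k2
  obtain ⟨r, hr, s, hs, e2⟩ := mem_sup_of_normal_left.1 k2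
  rw [← e2] at k1 ⊢
  rw [hU s hs ((mul_mem_cancel_left (h.ch.anti (by omega) hr)).1 k1), mul_one]
  exact hr

end CL.MX
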