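/-
Project MX2: transvections and a torus element.
-/
import Cfsg.Agent.MX.Defs2

set_option autoImplicit false

namespace CL.MX

open Subgroup Cfsg
open scoped commutatorElement

universe u

namespace X2Lx
variable {L : Type u} [Group L]

/-- the centraliser of all conjugates of `z` -/
def Kc (z : L) : Subgroup L where
  carrier := {k | ∀ g, Commute k (g * z * g⁻¹)}
  one_mem' := fun _ => Commute.one_left _
  mul_mem' := fun ha hb g => (ha g).mul_left (hb g)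
  inv_mem' := fun ha g => (ha g).inv_left

theorem cjc {a b : L} (h : Commute a b) (g : L) : Commute (g * a * g⁻¹) (g * b * g⁻¹) :=
  h.map (MulAut.conj g)

theorem kc_normal (z : L) : (Kc z).Normal := ⟨fun k hk a g => by
  have := cjc (hk (a⁻¹ * g)) a
  rwa [show a * (a⁻¹ * g * z * (a⁻¹ * g)⁻¹) * a⁻¹ = g * z * g⁻¹ by group] at this⟩

theorem zp {p : ℕ} {x : L} (h : x ^ p = 1) {a b : ℤ} (e : (a : ZMod p) = b) : x ^ a = x ^ b := by
  obtain ⟨c, hc⟩ := (ZMod.intCast_eq_intCast_iff_dvd_sub b a p).1 e.symm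
  rw [show a = b + p * c by omega, zpow_add, zpow_mul, zpow_natCast, h, one_zpow, mul_one]

theorem tv {y u v : L} {α : ℤ} (c : Commute u v) (h1 : Commute y u) (h2 : y * v * y⁻¹ = u ^ α * v) (a b : ℤ) :
    ∀ i : ℕ, y ^ i * (u ^ a * v ^ b) * (y ^ i)⁻¹ = u ^ (a + i * α * b) * v ^ b
  | 0 => by simp
  | i + 1 => by
    have e : ∀ a : ℤ, y * (u ^ a * v ^ b) * y⁻¹ = u ^ (a + α * b) * v ^ b := fun a => by
      rw [show y * (u ^ a * v ^ b) * y⁻¹ = (y * u ^ a * y⁻¹) * (y * v ^ b * y⁻¹) by group, (h1.zpow_right a).eq,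
        mul_inv_cancel_right, ← conj_zpow, h2, (c.zpow_left α).mul_zpow, ← zpow_mul, zpow_add, mul_assoc]
    rw [show y ^ (i + 1) * (u ^ a * v ^ b) * (y ^ (i + 1))⁻¹ = y * (y ^ i * (u ^ a * v ^ b) * (y ^ i)⁻¹) * y⁻¹ by
      rw [pow_succ']; group, tv c h1 h2 a b i, e]
    congr 2
    push_cast
    ring

theorem sb [Finite L] {E V : Subgroup L} {g : L} (h : V ≤ E) (k : ∀ e ∈ E, ⁅e, g⁆ ∈ V) : g ∈ B.Sb E V :=
  ⟨mem_normalizer_fintype fun v hv => by
    simpa [commutatorElement_def, mul_assoc] using V.mul_mem (comm_symm_mem (k v (h hv))) hv, k⟩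

theorem tr {p : ℕ} {y u v : L} (h : ⁅v, y⁆ ∈ zpowers u) (hu : u ^ p = 1) (n : ¬ Commute y v) :
    ∃ α : ℤ, (α : ZMod p) ≠ 0 ∧ y * v * y⁻¹ = u ^ α * v := by
  obtain ⟨α, e⟩ := comm_symm_mem h
  have e' : y * v * y⁻¹ = u ^ α * v := by
    have : u ^ α = ⁅y, v⁆ := e
    rw [this, commutatorElement_def, inv_mul_cancel_right]
  refine ⟨α, fun k => n ?_, e'⟩
  rw [zp hu (b := 0) (by simpa using k), zpow_zero, one_mul, mul_inv_eq_iff_eq_mul] at e'
  exact e'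

theorem cv {y : L} {V : Subgroup L} (h : V ≤ centralizer {y}) {v : L} (hv : v ∈ V) : ⁅v, y⁆ = 1 :=
  commutatorElement_eq_one_iff_mul_comm.2 (h hv y rfl).symm

end X2Lx

open X2Lx

theorem x2L : X2L.{u} := fun L _ _ p _ E N z h zE zN zp1 nz nn y hy hy' => by
  have nE := h.nrm
  have yz : Commute y z := zN hy z rfl |>.symm
  have cE : ∀ g, g * z * g⁻¹ ∈ E := fun g => nE.conj_mem z zE g
  have bz : ∀ b ∈ normalizer (N : Set L), b * z * b⁻¹ ∈ zpowers z := fun b hb =>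
    (mem_normalizer_iff.1 (nz hb) z).1 (mem_zpowers z)
  refine ⟨?_, fun hc => ?_⟩
  · by_contra! k
    have := kc_normal z
    refine nn ⟨?_⟩
    rintro _ ⟨m, rfl⟩ g
    obtain ⟨a, ha, b, hb, rfl⟩ := h.frat (K := Kc z) hy hy' k g
    rw [← conj_zpow, show a * b * z * (a * b)⁻¹ = a * (b * z * b⁻¹) * a⁻¹ by group, (ha b).eq, mul_inv_cancel_right]
    exact zpow_mem (bz b hb) m
  have hc' : ∀ g, ∀ e ∈ E, ⁅e, g * y * g⁻¹⁆ ∈ zpowers (g * z * g⁻¹) := fun g e he => by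
    obtain ⟨m, k⟩ := hc (g⁻¹ * e * g⁻¹⁻¹) (nE.conj_mem e he _)
    refine ⟨m, ?_⟩
    have k : z ^ m = _ := k
    show (g * z * g⁻¹) ^ m = _
    rw [conj_zpow, k]
    simp only [commutatorElement_def]
    group
  have VE : ∀ g, zpowers z ⊔ zpowers (g * z * g⁻¹) ≤ E := fun g => sup_le (zpowers_le.2 zE) (zpowers_le.2 (cE g))
  have T : ∀ g, Commute y (g * z * g⁻¹) → g ∈ normalizer (N : Set L) := fun g k => by
    have c : zpowers z ⊔ zpowers (g * z * g⁻¹) ≤ centralizer {y} :=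
      sup_le (zpowers_le.2 fun _ e => e ▸ yz.eq) (zpowers_le.2 fun _ e => e ▸ k.eq)
    refine h.same (h.pg_stb (zpowers z ⊔ zpowers (g * z * g⁻¹)) (zpowers (g * z * g⁻¹))) hy hy' hy hy'
      ((mem_stb le_sup_right).2 ⟨fun e he => mem_sup_left (hc e he), fun v hv => cv c hv ▸ one_mem _,
        fun d hd => cv c (mem_sup_right hd)⟩)
      ((mem_stb le_sup_right).2 ⟨fun e he => mem_sup_right (hc' g e he), fun v hv => hc' g v (VE g hv),
        fun d hd => cv (zpowers_le.2 fun _ e => e ▸ (cjc yz g).eq) hd⟩)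
  refine ⟨T, fun g ng t t0 => ?_⟩
  have zz : Commute z (g * z * g⁻¹) := zN (h.le (cE g)) z rfl
  have ng' : ¬ Commute (g * y * g⁻¹) z := fun k => by
    have := cjc k g⁻¹
    rw [show g⁻¹ * (g * y * g⁻¹) * g⁻¹⁻¹ = y by group] at this
    obtain ⟨m, e⟩ := bz g ((inv_mem_iff (H := normalizer (N : Set L))).1 (T _ this))
    exact ng (e ▸ yz.zpow_right m)
  have zp2 : (g * z * g⁻¹) ^ p = 1 := by rw [conj_pow, zp1]; simp
  obtain ⟨α, α0, e1⟩ := tr (hc _ (cE g)) zp1 ng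
  obtain ⟨β, β0, e2⟩ := tr (hc' g _ zE) zp2 ng'
  generalize hz : g * z * g⁻¹ = z' at *
  have yz' : Commute (g * y * g⁻¹) z' := hz ▸ cjc yz g
  have s1 : y ∈ B.Sb E (zpowers z ⊔ zpowers z') := sb (hz ▸ VE g) fun e he => mem_sup_left (hc e he)
  have s2 : g * y * g⁻¹ ∈ B.Sb E (zpowers z ⊔ zpowers z') := sb (hz ▸ VE g) fun e he => mem_sup_right (hz ▸ hc' g e he)
  generalize g * y * g⁻¹ = y' at *
  set i : ℕ := ((t - 1) / ((α : ZMod p) * β)).val with hi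
  set m : ℕ := (-1 / t).val with hm
  have key : (y' ^ m * y ^ i * y') * z * (y' ^ m * y ^ i * y')⁻¹ = z ^ t.val := by
    have a1 : ((1 + i * α * β : ℤ) : ZMod p) = ((t.val : ℕ) : ℤ) := by
      push_cast
      rw [hi, ZMod.natCast_zmod_val, ZMod.natCast_zmod_val]
      field_simp
      ring
    have a2 : ((β + m * β * (t.val : ℕ) : ℤ) : ZMod p) = (0 : ℤ) := by
      push_cast
      rw [hm, ZMod.natCast_zmod_val, ZMod.natCast_zmod_val]
      field_simp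
      ring
    rw [show (y' ^ m * y ^ i * y') * z * (y' ^ m * y ^ i * y')⁻¹ =
      y' ^ m * (y ^ i * (y' * z * y'⁻¹) * (y ^ i)⁻¹) * (y' ^ m)⁻¹ by group, e2, ← (zz.zpow_right β).eq,
      show z * z' ^ β = z ^ (1 : ℤ) * z' ^ β by rw [zpow_one], tv zz yz e1, zp zp1 a1,
      (zz.zpow_zpow _ _).eq, tv zz.symm yz' e2, zp zp2 a2, zpow_zero, one_mul, zpow_natCast]
  exact ⟨_, T _ (key ▸ yz.pow_right _), key, (mul_mem (mul_mem (pow_mem s2 m) (pow_mem s1 i)) s2).2⟩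

end CL.MX
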