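import Cfsg.Agent.MX.Top
import Cfsg.Agent.MX.SLm
import Cfsg.Agent.MX.WTm
import Cfsg.Agent.MX.Sec
import Cfsg.Agent.MX.C4
import Cfsg.Agent.MX.AlS
import Cfsg.Agent.MX.Det
import Cfsg.Agent.MX.AlG
import Cfsg.Agent.MX.Na12
import Cfsg.Agent.MX.Na34
import Cfsg.Agent.MX.NaG
import Cfsg.Agent.MX.Quo
import Cfsg.Agent.MX.X2L
import Cfsg.Agent.MX.X2A
import Cfsg.Agent.MX.X1G
import Cfsg.Agent.MX.LocF
import Cfsg.Agent.MX.Chn
import Cfsg.Agent.MX.UniG
import Cfsg.Agent.MX.UniF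
import Cfsg.Agent.MX.X1F
import Cfsg.Agent.MX.P2
import Cfsg.Agent.MX.Quad
import Cfsg.Agent.MX.X2G
import Cfsg.Agent.MX.NeF

/-! MX, second part: the unconditional theorems. -/

set_option autoImplicit false

namespace CL.MX

universe u

theorem gt0' : GT0.{u} :=
  gt0_of (alG slm (alS slm wtm (secThm wtm) c4) det) (naG slm quad wtm na12 na34)

theorem gt' : GT.{u} := gt_of slm (gt1 gt0') (x2G slm x2L (x2A slm wtm (secThm wtm)))

theorem neF' : NeF.{u} := neF gt' locF (uniF uniG) wtm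

theorem chn' : Chn.{u} := chn slm

theorem x1F' : X1F.{u} := x1F (x1G slm wtm n2) locF chn' slm wtm

end CL.MX
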