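/-
Project MX, second part: the essential subgroups of a group of maximal class, from the parts.
-/
import Cfsg.Agent.MX.Defs2
import Cfsg.Agent.S5316

set_option autoImplicit false

namespace CL.MX

open Subgroup Cfsg Cfsg.FusionSystem CL.Fus CL.Fgs
open scoped commutatorElement

universe u

namespace Top
variable {Ω : Type u} [Group Ω] {S E A : Subgroup Ω} [Finite S] {p n j : ℕ} [hp : Fact p.Prime] {Γ : ℕ → Subgroup Ω}
  {F : FusionSystem S} {m : Ω}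

/-- the possible essential subgroups -/
def QE (p n : ℕ) (S : Subgroup Ω) (Γ : ℕ → Subgroup Ω) (E : Subgroup Ω) : Prop :=
  E = Γ 1 ∨ E = S ⊓ centralizer (Γ (n - 2) : Set Ω) ∨ (Nat.card E = p ^ 3 ∧ ¬ ∀ x ∈ E, ∀ y ∈ E, x * y = y * x) ∨
    Nat.card E = p ^ 2

omit [Finite S] in
theorem QE.big (h : QE p n S Γ A) (k : p ^ 3 < Nat.card A) : A = Γ 1 ∨ A = S ⊓ centralizer (Γ (n - 2) : Set Ω) :=
  h.imp_right fun h => h.resolve_right fun h => h.elim (fun e => k.ne' e.1) fun e =>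
    absurd (e ▸ k) (Nat.pow_le_pow_right hp.out.pos (by omega)).not_gt

omit [Finite S] hp in
theorem last_le (h : Ch p n S Γ) (hE : F.IsEssential p E) : Γ (n - 1) ≤ E := fun _ hx =>
  centralizerIn_le_of_centric hE.1 ⟨h.le _ hx, fun _ hy => (h.central hx (hE.1.1 hy)).symm.eq⟩

omit [Finite S] in
theorem lev (h : Ch p n S Γ) (hES : E ≤ S) (hm : m ∈ E) (m1 : m ∉ Γ 1) (e : E ⊓ Γ 1 = Γ j) (hj : j ≤ n) :
    E = Γ j ⊔ zpowers m ∧ Nat.card E = p ^ (n - j + 1) := by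
  have m0 : m ∈ Γ 0 := h.zero ▸ hES hm
  have k : E = Γ j ⊔ zpowers m := by
    refine le_antisymm (fun x hx => ?_) (sup_le (e ▸ inf_le_left) (zpowers_le.2 hm))
    obtain ⟨c, hc⟩ := h.dec m0 m1 (h.zero ▸ hES hx)
    have : (m ^ c.val)⁻¹ * x ∈ Γ j := e.le ⟨E.mul_mem (E.inv_mem (E.pow_mem hm _)) hx, hc⟩
    simpa using mul_mem (mem_sup_right (pow_mem (mem_zpowers m) c.val)) (mem_sup_left (T := zpowers m) this)
  refine ⟨k, ?_⟩
  rw [k, card_sup_zpowers_of_normalizer (p := p) (h.norm j (hES hm)) (fun c => m1 (e.ge c).2)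
    (e ▸ ⟨pow_mem hm p, h.pow_mem m0⟩), h.card hj, pow_succ']

omit [Finite S] in
theorem one_ne (h : Ch p n S Γ) (h4 : 4 ≤ n) : Γ 1 ≠ S := fun e => hp.out.one_lt.ne' (by
  rw [← h.idx 0 (by omega), h.zero, zero_add, e, relIndex_self])

omit [Finite S] in
theorem m2_eq (h : Ch p n S Γ) (h4 : 4 ≤ n) (k : ⁅Γ (n - 2), Γ 1⁆ = ⊥) : S ⊓ centralizer (Γ (n - 2) : Set Ω) = Γ 1 :=
  (CL.Grp.eq_or_eq_of_relIndex_prime (le_inf (h.le 1) (commutator_eq_bot_iff_le_centralizer.1 ((commutator_comm _ _).trans k)))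
    inf_le_left (by rw [← h.zero, h.idx 0 (by omega)]; exact hp.out)).resolve_right
    fun e => h.not_cent (by omega) (e.ge.trans inf_le_right)

omit [Finite S] in
theorem m2_inf (h0 : SLm.{u}) (h : Ch p n S Γ) (h4 : 4 ≤ n) (k : ⁅Γ (n - 2), Γ 1⁆ ≠ ⊥) :
    S ⊓ centralizer (Γ (n - 2) : Set Ω) ⊓ Γ 1 = Γ 2 := by
  refine le_antisymm (fun x hx => ?_) (le_inf (le_inf (h.le 2) (commutator_eq_bot_iff_le_centralizer.1
    (eq_bot_iff.2 ((h.cc0 2 (n - 2)).trans (h.bot _ (by omega)).le)))) (h.anti (by omega)))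
  have := h0.cen Ω p n (n - 2) S Γ h k (by omega) (by omega) x hx.2 hx.1.2
  rwa [show n - (n - 2) = 2 by omega] at this

theorem norm_case (hF : F.IsSaturated p) (h : Ch p n S Γ) (h4 : 4 ≤ n) (hA : F.IsEssential p A) (h1 : A ≤ Γ 1)
    (e : A = Γ j) : A = Γ 1 :=
  ((CL.Grp.eq_or_eq_of_relIndex_prime h1 (h.le 1)
    ((FF.pull thmB' hF hA (e ▸ h.norm j) h h4).1 ▸ hp.out)).resolve_right (one_ne h h4)).symm

omit [Finite S] in
theorem not_ab (hk : Nat.card E = p ^ 3) (hx : IsExtraspecial p E) : ¬ ∀ x ∈ E, ∀ y ∈ E, x * y = y * x := fun ab => by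
  have := hx.2
  rw [show center E = ⊤ from eq_top_iff.2 fun x _ => mem_center_iff.2 fun y => Subtype.ext (ab _ y.2 _ x.2), card_top,
    hk] at this
  exact absurd (Nat.pow_right_injective hp.out.two_le (this.trans (pow_one p).symm)) (by omega)

theorem small (h0 : SLm.{u}) (hF : F.IsSaturated p) (h : Ch p n S Γ) (h4 : 4 ≤ n)
    (hmax : S.lowerCentralSeries (n - 2) ≠ ⊥) (hE : F.IsEssential p E) (k : ⁅Γ (n - 2), Γ 1⁆ ≠ ⊥) :
    QE p n S Γ E ∨ p ^ 4 ≤ Nat.card E := by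
  obtain ⟨-, a, b⟩ := h0.exc Ω p n S Γ h h4 k
  refine or_iff_not_imp_left.2 fun c => Agent.S5316.result p (by omega) h.pg n (h.zero ▸ h.card (Nat.zero_le n))
    (by omega) hmax F hF E hE fun d => c (.inr (.inr ?_))
  exact d.symm.imp (fun d => ⟨d.1, not_ab d.1 d.2.1⟩) fun d => d.1

theorem sq_le (hF : F.IsSaturated p) (h : Ch p n S Γ) (hE : F.IsEssential p E) : p ^ 2 ≤ Nat.card E :=
  have := finite_of_le hE.1.1
  have : Finite (frat E) := finite_of_le (map_subtype_le (frattini E))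
  (Nat.le_mul_of_pos_right _ Nat.card_pos).trans (IsEssential.sq_mul_card_frat_le h.pg hF hE)

theorem exists_j (h0 : SLm.{u}) (hF : F.IsSaturated p) (h : Ch p n S Γ) (h4 : 4 ≤ n) (hE : F.IsEssential p E)
    (hm : m ∈ E) (m1 : m ∉ Γ 1) : ∃ j, 2 ≤ j ∧ j < n ∧ E ⊓ Γ 1 = Γ j := by
  obtain ⟨j, a, b, e⟩ := h0.eqle Ω p n S E Γ m h (by omega) (hE.1.1 hm) m1
    (fun a ha _ => mul_mem (mul_mem (mul_mem ha hm) (inv_mem ha)) (inv_mem hm)) (last_le h hE)
  refine ⟨j, a.lt_of_ne ?_, b, e⟩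
  rintro rfl
  exact (IsEssential.lt_top h.pg hF hE).ne (((lev h hE.1.1 hm m1 e b.le).1.trans
    (h.sup (j := 0) (h.zero ▸ hE.1.1 hm) m1)).trans h.zero)

/-- the hypothesis of `NeF` -/
theorem h1_of (h0 : SLm.{u}) (h1 : Chn.{u}) (hF : F.IsSaturated p) (h : Ch p n S Γ) (h4 : 4 ≤ n)
    (hE : F.IsEssential p E) (c : ⁅Γ (n - 2), Γ 1⁆ = ⊥ ∨ p ^ 4 ≤ Nat.card E) {Q : Subgroup Ω} (hA : F.IsEssential p A)
    (q : QE p n S Γ A) (qA : Q ≤ A) (q1 : Q ≤ Γ 1) (l : Nat.card E < Nat.card Q) : A = Γ 1 := by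
  have := finite_of_le hA.1.1
  have := finite_of_le (qA.trans hA.1.1)
  have s := sq_le hF h hE
  have lA := card_le_of_le qA
  rcases q with e | e | ⟨e, ab⟩ | e
  · exact e
  · by_cases k : ⁅Γ (n - 2), Γ 1⁆ = ⊥
    · exact e.trans (m2_eq h h4 k)
    have i := m2_inf h0 h h4 k
    rw [← e] at i
    by_cases a1 : A ≤ Γ 1
    · exact norm_case hF h h4 hA a1 ((inf_eq_left.2 a1).symm.trans i)
    obtain ⟨m, hm, m1⟩ := SetLike.not_le_iff_exists.1 a1
    have := finite_of_le (h.le 2)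
    have := ((c.resolve_left k).trans_lt l).trans_le (card_le_of_le ((le_inf qA q1).trans i.le))
    rw [h.card (by omega), Nat.pow_lt_pow_iff_right hp.out.one_lt] at this
    exact (h1 Ω S A p n 2 F Γ m hF h hA hm m1 i le_rfl (.inr (.inl (by omega)))).elim
  · obtain ⟨r, hr⟩ := IsPGroup.iff_card.1 (h.pg.to_le (qA.trans hA.1.1))
    have := s.trans_lt l
    rw [hr, Nat.pow_lt_pow_iff_right hp.out.one_lt] at this
    obtain rfl : Q = A := eq_of_le_of_card_ge qA (by rw [e, hr]; exact Nat.pow_le_pow_right hp.out.pos this)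
    have k := c.resolve_right fun k => absurd (e ▸ k.trans_lt l) (Nat.pow_le_pow_right hp.out.pos (by omega)).not_gt
    obtain ⟨a, b⟩ := IsEssential.frat_of_cube h.pg hF hA e ab
    have c : ∀ x ∈ Γ (n - 2), x ∈ centralizer (Q : Set Ω) := fun x hx =>
      centralizer_le q1 (commutator_eq_bot_iff_le_centralizer.1 k hx)
    have := finite_of_le (inf_le_left : zen Q ≤ Q)
    have := card_le_of_le (show Γ (n - 2) ≤ zen Q from fun x hx =>
      ⟨centralizerIn_le_of_centric hA.1 ⟨h.le _ hx, c x hx⟩, c x hx⟩)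
    rw [b, a, h.card (by omega), show n - (n - 2) = 2 by omega] at this
    nlinarith [hp.out.one_lt]
  · omega

theorem qe (h0 : SLm.{u}) (h1 : Chn.{u}) (h2 : X1F.{u}) (h3 : NeF.{u}) (h : Ch p n S Γ) (p3 : 3 ≤ p) (h4 : 4 ≤ n)
    (hmax : S.lowerCentralSeries (n - 2) ≠ ⊥) (hF : F.IsSaturated p) (hE : F.IsEssential p E) : QE p n S Γ E := by
  induction' hk : Nat.card S - Nat.card E using Nat.strong_induction_on with k ih generalizing F E
  have ih : ∀ F' : FusionSystem S, F'.IsSaturated p → ∀ A, F'.IsEssential p A → Nat.card E < Nat.card A →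
      QE p n S Γ A := fun F' hF' A hA l => ih _ (by have := card_le_of_le hA.1.1; omega) hF' hA rfl
  have hES := hE.1.1
  by_cases e1 : E ≤ Γ 1
  · by_cases n1 : normalizerIn S E ≤ Γ 1
    · refine by_contra fun q => ?_
      have c := or_iff_not_imp_left.2 fun k => (small h0 hF h h4 hmax hE k).resolve_left q
      have := finite_of_le hES
      exact h3 Ω S E p n F Γ hF h p3 h4 hE n1 c fun A Q hA qA q1 l => h1_of h0 h1 hF h h4 hE c hA
        (ih F hF A hA (l.trans_le (have := finite_of_le hA.1.1; card_le_of_le qA))) qA q1 l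
    obtain ⟨m, hm, m1⟩ := SetLike.not_le_iff_exists.1 n1
    obtain ⟨j, -, -, e⟩ := h0.eqle Ω p n S E Γ m h (by omega) hm.1 m1 (fun a ha _ => by
      simpa [commutatorElement_def, mul_assoc] using mul_mem ha ((mem_normalizer_iff.1 hm.2 _).1 (inv_mem ha)))
      (last_le h hE)
    exact .inl (norm_case hF h h4 hE e1 ((inf_eq_left.2 e1).symm.trans e))
  obtain ⟨m, hm, m1⟩ := SetLike.not_le_iff_exists.1 e1
  obtain ⟨j, j2, jn, e⟩ := exists_j h0 hF h h4 hE hm m1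
  obtain ⟨g, c⟩ := lev h hES hm m1 e jn.le
  have ch := h1 Ω S E p n j F Γ m hF h hE hm m1 e j2
  by_cases mc : m ∈ centralizer (Γ (n - 2) : Set Ω)
  · have k : ⁅Γ (n - 2), Γ 1⁆ ≠ ⊥ := fun k => m1 (m2_eq h h4 k ▸ ⟨hES hm, mc⟩)
    rcases j2.eq_or_lt with rfl | j3
    · exact .inr (.inl (g.trans (lev h inf_le_left ⟨hES hm, mc⟩ m1 (m2_inf h0 h h4 k) jn.le).1.symm))
    have a : ¬ j + 5 ≤ n := fun a => ch (.inr (.inl a))
    have b : ¬ j + 4 = n := fun a => ch (.inr (.inr ⟨a, .inl j3⟩))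
    by_cases d : j + 3 = n
    · exact (h2 Ω S E p n j F Γ m hF h h4 k hE hm m1 e (.inl ⟨d, mc⟩) fun F' hF' A hA l =>
        (ih F' hF' A hA l).big ((c ▸ Nat.pow_le_pow_right hp.out.pos (by omega) : p ^ 3 ≤ Nat.card E).trans_lt l)).elim
    exact (small h0 hF h h4 hmax hE k).resolve_right (c ▸ (Nat.pow_lt_pow_right hp.out.one_lt (by omega)).not_ge)
  have a : ¬ j + 3 ≤ n := fun a => ch (.inl ⟨a, mc⟩)
  by_cases d : j + 2 = n
  · exact .inr (.inr (.inl ⟨c.trans (by congr 1; omega), fun ab => mc fun x hx =>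
      ab x (e.ge (show j = n - 2 by omega ▸ hx)).1 m hm⟩))
  · exact .inr (.inr (.inr (c.trans (by congr 1; omega))))

theorem exc (h0 : SLm.{u}) (h1 : Chn.{u}) (h2 : X1F.{u}) (h3 : NeF.{u}) (h : Ch p n S Γ) (p3 : 3 ≤ p) (h4 : 4 ≤ n)
    (hmax : S.lowerCentralSeries (n - 2) ≠ ⊥) (hF : F.IsSaturated p) (hE : F.IsEssential p E)
    (k : ⁅Γ (n - 2), Γ 1⁆ ≠ ⊥) (hk : Nat.card E = p ^ 3) : ∀ x ∈ E, ∀ y ∈ E, x * y = y * x := by
  refine by_contra fun ab => ?_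
  have hES := hE.1.1
  have := finite_of_le hES
  obtain ⟨-, n6, -⟩ := h0.exc Ω p n S Γ h h4 k
  have cm : ∀ i, 3 ≥ i → ∀ x ∈ Γ (n - i), ∀ y ∈ Γ (n - i), x * y = y * x := fun i hi x hx y hy =>
    commutatorElement_eq_one_iff_mul_comm.1 (mem_bot.1 (h.bot _ (show n ≤ n - i + (n - i) by omega) ▸
      h.cc0 _ _ (commutator_mem_commutator hx hy)))
  by_cases e1 : E ≤ Γ 1
  · obtain ⟨a, b⟩ := IsEssential.frat_of_cube h.pg hF hE hk ab
    have z : Γ (n - 1) ≤ frat E := b ▸ fun x hx => ⟨last_le h hE hx, fun _ hy => (h.central hx (hES hy)).symm.eq⟩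
    have c : ∀ a ∈ Γ (n - 3), ∀ x ∈ E, x⁻¹ * (a * x * a⁻¹) ∈ Γ (n - 1) := fun a ha x hx => by
      have := h.cc 1 (n - 3) le_rfl (by omega) (by omega) (commutator_mem_commutator (e1 (inv_mem hx)) ha)
      rw [show 1 + (n - 3) + 1 = n - 1 by omega] at this
      simpa [commutatorElement_def, mul_assoc] using this
    have l : Γ (n - 3) ≤ E := fun a ha => mem_of_comm_frat h.pg hE.1 (IsEssential.isRadical h.pg hE) le_rfl
      (fun γ _ x hx => autFun_mem γ hx) (h.le _ ha) (mem_normalizer_fintype fun x hx => by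
        simpa using mul_mem hx (last_le h hE (c a ha x hx))) (fun x hx => last_le h hE (c a ha x hx))
      fun x hx => z (c a ha x hx)
    rw [← eq_of_le_of_card_ge l (by rw [hk, h.card (by omega), show n - (n - 3) = 3 by omega])] at ab
    exact ab (cm 3 le_rfl)
  obtain ⟨m, hm, m1⟩ := SetLike.not_le_iff_exists.1 e1
  obtain ⟨j, j2, jn, e⟩ := exists_j h0 hF h h4 hE hm m1
  obtain ⟨g, c⟩ := lev h hES hm m1 e jn.le
  have := Nat.pow_right_injective hp.out.two_le (c.symm.trans hk)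
  obtain rfl : j = n - 2 := by omega
  by_cases mc : m ∈ centralizer (Γ (n - 2) : Set Ω)
  · exact ab (g ▸ comm_sup_zpowers (cm 2 (by omega)) mc)
  · exact h2 Ω S E p n _ F Γ m hF h h4 k hE hm m1 e (.inr ⟨by omega, mc⟩) fun F' hF' A hA l =>
      (qe h0 h1 h2 h3 h p3 h4 hmax hF' hA).big (hk ▸ l)

end Top

theorem s5267_of (h0 : SLm.{u}) (h1 : Chn.{u}) (h2 : X1F.{u}) (h3 : NeF.{u}) (h5 : P2.{u}) {Ω : Type u} [Group Ω]
    {S : Subgroup Ω} [Finite S] (p : ℕ) [Fact p.Prime] (hS : IsPGroup p ↥S) (n : ℕ) (hn : Nat.card S = p ^ n) (h4 : 4 ≤ n)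
    (hmax : Subgroup.lowerCentralSeries S (n - 2) ≠ ⊥) (F : Cfsg.FusionSystem S) (hF : F.IsSaturated p) (Γ₁ : Subgroup Ω)
    (hΓ₁ : ∀ x : Ω, x ∈ Γ₁ ↔ x ∈ S ∧ ∀ y ∈ Subgroup.lowerCentralSeries S 1,
      x * y * x⁻¹ * y⁻¹ ∈ Subgroup.lowerCentralSeries S 3) :
    (∀ E : Subgroup Ω, F.IsEssential p E → (Nat.card ↥E = p ^ 2 ∧ Cfsg.IsElementaryAbelian p E) ∨
      (Nat.card ↥E = p ^ 3 ∧ Cfsg.IsExtraspecial p ↥E ∧ (p ≠ 2 → Monoid.exponent ↥E = p) ∧
        (p = 2 → Nonempty (↥E ≃* QuaternionGroup 2))) ∨ E = Γ₁ ∨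
      E = (S ⊓ Subgroup.centralizer (((Subgroup.upperCentralSeries ↥S 2).map S.subtype) : Set Ω))) ∧
    (Γ₁ ≠ (S ⊓ Subgroup.centralizer (((Subgroup.upperCentralSeries ↥S 2).map S.subtype) : Set Ω)) →
      ∀ E : Subgroup Ω, F.IsEssential p E → (Nat.card ↥E = p ^ 3 ∧ Cfsg.IsExtraspecial p ↥E ∧
        (p ≠ 2 → Monoid.exponent ↥E = p) ∧ (p = 2 → Nonempty (↥E ≃* QuaternionGroup 2))) → False) := by
  have pr : p.Prime := Fact.out
  by_cases p2 : p = 2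
  · subst p2
    obtain ⟨a, b⟩ := h5 Ω S n hn h4 hmax F hF Γ₁ hΓ₁
    exact ⟨fun E hE => (a E hE).imp_right fun c => .inl ⟨c.1, c.2.1, fun k => absurd rfl k, fun _ => c.2.2⟩,
      fun k => absurd b k⟩
  have p3 : 3 ≤ p := by have := pr.two_le; omega
  have m := maxCl_of_ne_bot hn (by omega) hmax
  obtain ⟨Γ, h, e1, e2⟩ := chThm Ω p n S p2 h4 m
  obtain rfl : Γ₁ = Γ 1 := by
    ext x
    rw [hΓ₁, e1, ← top_subtype_lowerCentralSeries, ← top_subtype_lowerCentralSeries S 3]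
    refine ⟨fun ⟨a, b⟩ => ⟨⟨x, a⟩, mem_twoStep.2 fun y hy => comm_symm_mem ?_, rfl⟩, ?_⟩
    · exact (mem_map_iff_mem S.subtype_injective).1 (b y (mem_map_of_mem _ hy))
    · rintro ⟨x, hx, rfl⟩
      refine ⟨x.2, ?_⟩
      rintro _ ⟨y, hy, rfl⟩
      exact mem_map_of_mem S.subtype (comm_symm_mem (mem_twoStep.1 hx y hy))
  rw [show (Subgroup.upperCentralSeries ↥S 2).map S.subtype = Γ (n - 2) from (FF.zSer_eq h m h4).symm]
  refine ⟨fun E hE => ?_, fun k E hE c => Top.not_ab c.1 c.2.1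
    (Top.exc h0 h1 h2 h3 h p3 h4 hmax hF hE (fun e => k (Top.m2_eq h h4 e).symm) c.1)⟩
  rcases Top.qe h0 h1 h2 h3 h p3 h4 hmax hF hE with e | e | ⟨e, ab⟩ | e
  · exact .inr (.inr (.inl e))
  · exact .inr (.inr (.inr e))
  · obtain ⟨a, b⟩ := FF.extra hS hF hE p2 e ab
    exact .inr (.inl ⟨e, a, fun _ => b, fun k => absurd k p2⟩)
  · obtain ⟨a, b⟩ := IsEssential.elem_of_sq hS hF hE e
    exact .inl ⟨e, ⟨⟨fun x y => Subtype.ext (a _ x.2 _ y.2)⟩⟩, b⟩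

end CL.MX
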