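/-
Project MX, second part: the action on a normal member of the chain, fusion system form.
-/
import Cfsg.Agent.MX.Defs2
import Cfsg.Agent.Fus.LocalK

set_option autoImplicit false

namespace CL.MX

open Subgroup Cfsg Cfsg.FusionSystem CL.Fus

universe u

namespace UNFx
variable {Ω : Type u} [Group Ω] {G : Type u} [Group G] {P : Subgroup Ω} {θ : Ω → G} {α β : MulAut P} {u v : G}

/-- `β` is induced by `u` -/
def By (θ : Ω → G) (β : MulAut P) (u : G) : Prop := ∀ x ∈ P, θ (autFun β x) = u * θ x * u⁻¹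

theorem By.one : By θ (1 : MulAut P) 1 := fun x hx => by rw [autFun_one hx]; group

theorem By.mul (h : By θ α u) (k : By θ β v) : By θ (α * β) (u * v) := fun x hx => by
  rw [autFun_mul _ _ hx, h _ (autFun_mem _ hx), k x hx]; group

theorem By.inv (h : By θ α u) : By θ α⁻¹ u⁻¹ := fun x hx => by
  have := h _ (autFun_mem α⁻¹ hx)
  rw [autFun_apply_inv _ hx] at this
  rw [this]; group

theorem By.pow (h : By θ α u) : ∀ k : ℕ, By θ (α ^ k) (u ^ k)
  | 0 => by rw [pow_zero, pow_zero]; exact .one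
  | k + 1 => by rw [pow_succ, pow_succ]; exact (By.pow h k).mul h

/-- the automorphisms induced by `U` -/
def ind (θ : Ω → G) (P : Subgroup Ω) (U : Subgroup G) : Subgroup (MulAut P) where
  carrier := {β | ∃ u ∈ U, By θ β u}
  one_mem' := ⟨1, one_mem _, .one⟩
  mul_mem' := fun ⟨_, hu, e⟩ ⟨_, hv, e'⟩ => ⟨_, mul_mem hu hv, e.mul e'⟩
  inv_mem' := fun ⟨_, hu, e⟩ => ⟨_, inv_mem hu, e.inv⟩

end UNFx

open UNFx in
theorem uniF (h : UniG.{u}) : UniF.{u} := by
  intro Ω _ S _ p n m r _ F Γ hF ch h3 hr hm hn hc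
  have PS : Γ r ≤ S := ch.le r
  have QS : Γ r ⊔ centralizerIn S (Γ r) ≤ S := sup_le PS inf_le_left
  have nQ : S ≤ normalizer ((Γ r ⊔ centralizerIn S (Γ r) : Subgroup Ω) : Set Ω) := fun a ha =>
    mem_normalizer_sup_centralizerIn ha (ch.norm r ha)
  have fP := isFullyNormalized_of_normalizerIn_eq F PS (ch.norm r)
  have fQ := isFullyNormalized_of_normalizerIn_eq F QS nQ
  obtain ⟨G, _, _, i, π, l⟩ := exists_loc ch.pg hF fQ (centric_of_fullyCentralized
    (fullyCentralized_of_fullyNormalized ch.pg hF fQ) ((centralizerIn_anti S le_sup_left).trans le_sup_right))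
  have hL : S ≤ normalizerIn S (Γ r ⊔ centralizerIn S (Γ r)) := le_inf le_rfl nQ
  have hθ := homOn_ext i
  have hi := ext_injOn l.inj
  have hΓ := fun j => (ch.le j).trans hL
  have rg : (S.subgroupOf _).map i = i.range := by
    rw [subgroupOf_eq_top.2 (normalizerIn_le S _), MonoidHom.range_eq_map]
  have hk : S.subgroupOf _ ⊓ i.ker = (Γ n).subgroupOf _ := by
    rw [(MonoidHom.ker_eq_bot_iff i).2 l.inj, inf_bot_eq, ch.bot n le_rfl, bot_subgroupOf]
  let K : Subgroup G := normalizer (img (Fus.ext i) (Γ r) : Set G) ⊓ centralizer (img (Fus.ext i) (Γ m) : Set G)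
  have mK : ∀ a ∈ S, Fus.ext i a ∈ K := fun a ha =>
    ⟨hθ.map_mem_normalizer (hΓ r) (hL ha) (ch.norm r ha), hθ.map_mem_centralizer (hΓ m) (hL ha)
      fun x hx => (ch.central (ch.anti (by omega) hx) ha).eq⟩
  have rK : i.range ≤ K := by
    rintro _ ⟨a, rfl⟩
    exact ext_coe i a ▸ mK a a.2.1
  have pr : IsPGroup p i.range := rg ▸ ch.pg.comap_subtype.map i
  have QR : img (Fus.ext i) (Γ r ⊔ centralizerIn S (Γ r)) ≤ i.range :=
    img_le_iff.2 fun x hx => ext_mem_range i (hL (QS hx))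
  have := l.nrm
  have EK : (img (Fus.ext i) (Γ r ⊔ centralizerIn S (Γ r))).subgroupOf K ≤ pCore p K :=
    CL.Grp.le_pCore (pr.to_le QR).comap_subtype
  obtain ⟨U, nU, U1, U2⟩ := h K p n m r _ _ (((ch.subgroupOf hL).map i hk le_rfl).subgroupOf (rg ▸ rK))
    (fun e => l.idx (by rw [← relIndex_mul_index rK, ← rg]; exact Dvd.dvd.mul_right e _))
    (fun x hx => EK (l.cen fun y hy => congrArg Subtype.val (hx ⟨y, rK (QR hy)⟩ (EK hy)))) h3 hr hm hn
    (hc.imp_right fun c => ((c.subgroupOf hL).map i hk le_rfl).subgroupOf (rg ▸ rK))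
    fun x hx => mem_center_iff.2 fun g => Subtype.ext (g.2.2 x (by rw [img_ext_of_le i (hΓ m)]; exact hx)).symm
  refine ⟨ind (Fus.ext i) (Γ r) (U.map K.subtype), ?_, ?_, fun y hy α e => ?_⟩
  · rintro β ⟨_, ⟨u, hu, rfl⟩, e⟩ c
    obtain ⟨k, e1, e2⟩ := exists_pow_pPrimePart u c
    refine aut_ext fun x hx => hi (hΓ r (autFun_mem _ hx)) (hΓ r (autFun_mem _ hx)) ?_
    have e3 := congrArg Subtype.val (U2 _ (pow_mem hu k) e2 ⟨_, mK x (PS hx)⟩ (by
      change Fus.ext i x ∈ map i _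
      rw [← img_ext_of_le i (hΓ r)]
      exact mem_img_of_mem _ hx))
    rw [autFun_one hx, ← e1, e.pow k x hx, mul_inv_eq_iff_eq_mul]
    exact e3.symm
  · rintro α hα fx β ⟨_, ⟨u, hu, rfl⟩, e⟩
    obtain ⟨f, hf, e1⟩ := ((mem_autGroup_iff PS).1 hα).extend_centralizerIn (by
      rw [img_autFun]; exact receptive_of_fullyNormalized ch.pg hF fP)
    have i1 : img f (Γ r) = Γ r := hf.img_eq_self le_sup_left fun x hx => e1 x hx ▸ autFun_mem _ hx
    have i2 : img f (Γ r ⊔ centralizerIn S (Γ r)) ≤ Γ r ⊔ centralizerIn S (Γ r) := by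
      rw [hf.homOn.img_sup, i1]
      exact sup_le_sup_left (img_le_iff.2 fun x hx => by
        have := hf.map_mem_centralizerIn le_sup_left (mem_sup_right hx) hx.2
        rwa [i1] at this) _
    obtain ⟨γ, e2⟩ := exists_aut_of_img_eq hf.homOn hf.injOn (hf.img_eq_self le_rfl (img_le_iff.1 i2))
    obtain ⟨g, rfl⟩ := l.rng.ge ((mem_autGroup_iff QS).2 (hf.congr e2))
    have b : By (Fus.ext i) α g := fun x hx => by
      rw [← e1 x hx, e2 x (mem_sup_left hx), l.act g x (mem_sup_left hx)]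
    have gK : g ∈ K := by
      refine ⟨mem_normalizer_fintype fun y hy => ?_, fun y hy => ?_⟩
      · obtain ⟨x, hx, rfl⟩ := (hθ.mono (hΓ r)).mem_img.1 hy
        exact b x hx ▸ mem_img_of_mem _ (autFun_mem _ hx)
      · obtain ⟨x, hx, rfl⟩ := (hθ.mono (hΓ m)).mem_img.1 hy
        have := b x (ch.anti hr hx)
        rwa [fx x hx, eq_mul_inv_iff_mul_eq] at this
    exact ⟨_, ⟨_, nU.conj_mem u hu ⟨g, gK⟩, rfl⟩, (b.mul e).mul b.inv⟩
  · refine ⟨_, ⟨⟨_, mK y (ch.le 1 hy)⟩, U1 ?_, rfl⟩, fun x hx => by rw [e x hx, hθ.map_conj (hΓ 1 hy) (hΓ r hx)]; rfl⟩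
    change Fus.ext i y ∈ map i _
    rw [← img_ext_of_le i (hΓ 1)]
    exact mem_img_of_mem _ hy

end CL.MX
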